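import Cfsg.Agent.H225.Mono.End_m3
import Cfsg.Agent.Nodes.SimplyLaced
import Cfsg.Agent.H321.Ker.AlgY
import Cfsg.Agent.H496.Mono.Base
import Cfsg.Agent.H46.Gen.PairW
import Mathlib
import Cfsg.Agent.OddHalf.LongSL.Tw_m3
import Cfsg.Agent.Nodes.Coroot
import Cfsg.Agent.H720.TwFr
import Cfsg.Agent.ChevFast.E6
import Cfsg.Agent.ChevFast.Lin
import Cfsg.Agent.Lib.Refl
import Cfsg.Agent.Lib.FinFast
import Cfsg.Agent.FastGrp
import Cfsg.Agent.Prune
set_option linter.all false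

section
prune_inst 0x7ffcbdfa2ff8cfffdfff7e7ffed3dffc18d21fffe6dff9437fe061ff0bdf030009e56b858de010fe1ef6e29410b87853f97eefffea6bdc7ffffd5ff41ffbee4fe5f6b508519488340fb80fff03f07f886f3fffffffffffffffffffffffffffbeffffffffffff

-- part: H496/Mono/Asm_mg
section
prune_inst 0x400400000000018000000000200180000000000000000000000000800202900200000200000000200000000002000000000400000000a000000000000000000000001000000420000000000000000000000000000000000000000000000000000000
set_option linter.all false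
open scoped Cfsg.Agent.FastGrp

-- part: H496/Mono/Asm
section
/-!
# S2187, X4, p = 3: the assembly (helper496, piece M7)

* `LL_all` : in the simply laced types all roots are long;
* `inS_all` : all orbit types;
* `gamY_of` : `GamY m.ι 3 E = ⊤` from the pieces.
* `genIn_F4_three`, `genIn_E7_three`, `genIn_E8_three`, `genIn_E6_three`.
-/

set_option autoImplicit false
set_option linter.unusedSectionVars false

namespace Cfsg.Agent.H496.Mono

open CoxeterSystem Cfsg Cfsg.Lie Cfsg.Lie.ChevalleyDatum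
open Cfsg.Agent.ChevalleyStructure Cfsg.Agent.ChevalleyStructure.Elts Cfsg.Agent.ChevalleyStructure.CoxeterGeom
  Cfsg.Agent.ChevalleyStructure.CoxeterGeomTypes Cfsg.Agent.ChevalleyStructure.NPerm
open Cfsg.Agent.Tits.Roots Cfsg.Agent.Tits.Core Cfsg.Agent.Nodes Cfsg.Agent.Nodes.Reps Cfsg.Agent.Nodes.BNOf
  Cfsg.Agent.Nodes.SubComb Cfsg.Agent.Nodes.RGDChev Cfsg.Agent.Nodes.Bruhat Cfsg.Agent.Nodes.Coroot
open Cfsg.Agent.KFacts.RgdField Cfsg.Agent.KFacts.RgdChevCoord
open Cfsg.Agent.BpExc Cfsg.Agent.BpExc.TorCent Cfsg.Agent.BpExc.TorChev Cfsg.Agent.BpExc.Tow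
  Cfsg.Agent.BpExc.TowChev Cfsg.Agent.BpExc.Fr Cfsg.Agent.BpExc.LangFr
open Cfsg.Agent.H469.Exc Cfsg.Agent.H316.U6 Cfsg.Agent.H818.Gen Cfsg.Agent.H818.Mono Cfsg.Agent.H696.GmnToral
open Cfsg.Agent.H225.Gen (LL LL_rep LL_root LL_neg LL_refl sr_nd_mem all_nodes pairing_sr')
open Cfsg.Agent.H818.StrP.UTab

universe v

variable {D : ChevalleyDatum} {l : ℕ} {M : CoxeterMatrix (Fin l)} (hp : IsType D l M)

/-- in the simply laced types all roots are long -/
theorem LL_all (h : HiList D) (h4 : ∀ i j, M i j ≠ 4) (h6 : ∀ i j, M i j ≠ 6) {a : Fin l → ℤ}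
    (ha : IsRoot M.toCoxeterSystem hp.isCartan a) : a ∈ LL M.toCoxeterSystem hp := by
  have := finite_W hp M.toCoxeterSystem
  have key : ∀ i, (sr i : Fin l → ℤ) ∈ LL M.toCoxeterSystem hp := by
    refine all_nodes h hp _ (sr_nd_mem h hp M.toCoxeterSystem) ?_
    intro i j hi hij
    by_cases e : i = j
    · rw [← e]; exact hi
    have hri := isRoot_sr M.toCoxeterSystem hp.isCartan i
    have hrj := isRoot_sr M.toCoxeterSystem hp.isCartan j
    have h1 : cpr M.toCoxeterSystem hp.isCartan (sr j) (sr i) = cartanOf D l i j := by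
      rw [cpr_sr, pairing_sr']
    have h2 := SimplyLaced.cpr_symm M.toCoxeterSystem hp.isCartan h4 h6 hri hrj
    have h3 : |cpr M.toCoxeterSystem hp.isCartan (sr j) (sr i)| ≤ 1 := by
      refine SimplyLaced.abs_cpr_le_one M.toCoxeterSystem hp.isCartan h4 h6 hrj hri ?_ ?_
      · intro e1
        have := congrFun e1 j
        rw [sr_self, sr_ne (fun h => e h.symm)] at this
        omega
      · intro e1
        have := congrFun e1 j
        rw [sr_self, Pi.neg_apply, sr_ne (fun h => e h.symm)] at this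
        omega
    rw [h1] at h3 h2
    have h5 := LL_refl hp M.toCoxeterSystem hi hrj
    rw [h2] at h5
    have h7 := LL_refl hp M.toCoxeterSystem h5 hri
    have h8 : cpr M.toCoxeterSystem hp.isCartan (sr i - cartanOf D l i j • sr j) (sr i) = 1 := by
      rw [sub_eq_add_neg, cpr_add M.toCoxeterSystem _ _ _ hri, cpr_neg M.toCoxeterSystem _ _ hri, cpr_self _ _ hri,
        cpr_smul M.toCoxeterSystem _ _ _ hri, h1]
      have h9 := abs_le.1 h3
      have h10 : cartanOf D l i j = 1 ∨ cartanOf D l i j = -1 := by omega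
      rcases h10 with h10 | h10 <;> rw [h10] <;> norm_num
    rw [h8, one_smul] at h7
    have h9 := abs_le.1 h3
    have h10 : cartanOf D l i j = 1 ∨ cartanOf D l i j = -1 := by omega
    rcases h10 with h10 | h10
    · rw [h10, one_smul, sub_sub, sub_add_eq_sub_sub_swap, sub_self, zero_sub] at h7
      have := LL_neg h hp M.toCoxeterSystem h7
      rwa [neg_neg] at this
    · rw [h10, neg_one_smul, sub_neg_eq_add, add_sub_cancel_left] at h7
      exact h7
  obtain ⟨w, i, rfl⟩ := ha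
  exact LL_rep hp M.toCoxeterSystem (key i) w

variable {hp}

/-- **All orbit types.** -/
theorem inS_all (h : HiList D) {r : ℕ} [Fact r.Prime] (hT : PTrich hp) (hF : P5 hp r 3 (OrbF hp))
    (hO : P5 hp r 3 (OrbO hp)) (hA : P5 hp r 3 (OrbA hp)) (hN : P5 hp r 3 (OrbN hp)) {e : ℕ}
    {τ : MulAut ↥(D.group (KK r))} {γ : (Fin l → ℤ) ≃+ (Fin l → ℤ)} {E H : Subgroup ↥(D.group (KK r))}
    (S : Sit hp r 3 e τ γ E H) (hE2 : 3 ^ 2 ≤ Nat.card ↥E) (hr2 : r ≠ 2) (hr3 : 3 ≠ r) (hq : 5 ≤ r ^ e) {ε : ℤ} (hε : Eps 3 (r ^ e) ε)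
    (hNP : NoPlus hp r E (SS hp γ ε)) {a : Fin l → ℤ} (ha : a ∈ SS hp γ ε) : InS r l τ H {a, -a} := by
  rcases hT (VE hp r E) (fun v hv w hw => VE_comm S hv hw) (fun v hv => VE_pow S hv) (SS hp γ ε) SS_LL
    (fun v hv a ha => VE_SS S h hv ha) (fun v hv a ha => by
      obtain ⟨y, hy, h1⟩ := hv
      exact hNP y hy v h1 a ha) a ha with h1 | h1 | h1 | h1
  · exact hF e τ γ E H S hE2 hr2 hr3 hq ε hε a ha h1
  · exact hO e τ γ E H S hE2 hr2 hr3 hq ε hε a ha h1
  · exact hA e τ γ E H S hE2 hr2 hr3 hq ε hε a ha h1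
  · exact hN e τ γ E H S hE2 hr2 hr3 hq ε hε a ha h1

variable {r : ℕ} [Fact r.Prime] {q : ℕ} {K₀ : Type v} [Group K₀]

/-- the pieces (`noPlusA` only for `γ = ε`) -/
structure Pcs (m : MData hp r q K₀) : Prop where
  trich : PTrich hp
  orbF : P5 hp r 3 (OrbF hp)
  orbO : P5 hp r 3 (OrbO hp)
  orbA : P5 hp r 3 (OrbA hp)
  orbN : P5 hp r 3 (OrbN hp)
  noPlusA : PNoPlusA m

/-- **The assembly.** -/
theorem gamY_of (h : HiList D) (hG2 : D ≠ chevG2) (m : MData hp r q K₀) [IsSimpleGroup K₀] (P : Pcs m)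
    (hr2 : r ≠ 2) (hr3 : 3 ≠ r) (hq : 5 ≤ q)
    {γ : (Fin l → ℤ) ≃+ (Fin l → ℤ)} {ε : ℤ} (hε : Eps 3 q ε) (hP6 : PNoPlusAt m γ ε) (hP1 : P1 m γ)
    {E : Subgroup ↥(D.group (KK r))} (hE : IsElementaryAbelian 3 E) (hσ : ∀ y ∈ E, m.σ y = y) (hE2 : 3 ^ 2 ≤ Nat.card E)
    (hend : ∀ z, NFrame m E z γ → NoPlus hp r (E.map (MulAut.conj z⁻¹).toMonoidHom) (SS hp γ ε) →
      (∃ f ∈ E, z⁻¹ * f * z ∉ TT D (KK r)) →
      (∀ a ∈ SS hp γ ε, InS r l (MulAut.conj (z⁻¹ * m.σ z) * m.σ) (HZ m 3 E z) {a, -a}) → GamY m.ι 3 E = ⊤) :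
    GamY m.ι 3 E = ⊤ := by
  have := Fact.mk Nat.prime_three
  by_cases ht : ∃ z : ↥(D.group (KK r)), ∀ a ∈ E, z * a * z⁻¹ ∈ TT D (KK r)
  · obtain ⟨z, hz⟩ := ht
    exact H225.Gen.x12 m h (by omega) (fun h1 => absurd h1 hG2) hE hσ hE2 hz
      (Or.inl (H225.Gen.three_not_dvd_sq q))
  · push Not at ht
    obtain ⟨z, hz⟩ := hP1 E hE hσ
    obtain ⟨z', hz', hNP⟩ := hP6 E hE hσ hr2 hr3 hq z hε hz
    refine hend z' hz' hNP ?_ fun a ha => ?_
    · obtain ⟨f, hf, h1⟩ := ht z'⁻¹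
      rw [inv_inv] at h1
      exact ⟨f, hf, h1⟩
    · have hcard : Nat.card ↥(E.map (MulAut.conj z'⁻¹).toMonoidHom) = Nat.card ↥E :=
        Subgroup.card_map_of_injective (MulAut.conj z'⁻¹).injective
      refine inS_all h P.trich P.orbF P.orbO P.orbA P.orbN (hz'.sit hE hσ) (by rw [hcard]; exact hE2) hr2 hr3 ?_
        (ε := ε) ?_ hNP ha
      · rw [m.hq]; exact hq
      · rw [m.hq]; exact hε

/-- the sign exists -/
theorem exists_eps (m : MData hp r q K₀) (hr3 : 3 ≠ r) : ∃ ε, Eps 3 q ε := by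
  have h1 : ¬ 3 ∣ q := by
    intro h
    rw [← m.hq] at h
    have h2 := Nat.prime_three.dvd_of_dvd_pow h
    exact hr3 ((Nat.prime_dvd_prime_iff_eq Nat.prime_three Fact.out).1 h2)
  have h2 : q % 3 = 1 ∨ q % 3 = 2 := by omega
  rcases h2 with h2 | h2
  · exact ⟨1, Or.inl rfl, by push_cast; omega⟩
  · exact ⟨-1, Or.inr rfl, by push_cast; omega⟩

/-- **`E₇`, `E₈`, and matched `E₆`.** -/
theorem gamY_laced (h : HiList D) (hG2 : D ≠ chevG2) (h4 : ∀ i j, M i j ≠ 4) (h6 : ∀ i j, M i j ≠ 6)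
    (m : MData hp r q K₀) [IsSimpleGroup K₀] (P : Pcs m) (hP8 : P8a m) (hr2 : r ≠ 2) (hr3 : 3 ≠ r) (hq : 5 ≤ q)
    {ε : ℤ} (hε : Eps 3 q ε) {γ : (Fin l → ℤ) ≃+ (Fin l → ℤ)} (hγ : ∀ x, γ x = ε • x) (hP1 : P1 m γ)
    {E : Subgroup ↥(D.group (KK r))} (hE : IsElementaryAbelian 3 E) (hσ : ∀ y ∈ E, m.σ y = y)
    (hE2 : 3 ^ 2 ≤ Nat.card E) : GamY m.ι 3 E = ⊤ :=
  gamY_of h hG2 m P hr2 hr3 hq hε (P.noPlusA γ ε hγ) hP1 hE hσ hE2 fun z hz _ _ hall =>
    hP8 E hE hσ hr2 hr3 hq z _ ε hε hγ hz fun a ha => hall a ⟨LL_all hp h h4 h6 ha, hγ a⟩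

/-- frames for `γ = ε` -/
def P1e (m : MData hp r q K₀) : Prop := ∀ ε, Eps 3 q ε → ∃ γ, (∀ x, γ x = ε • x) ∧ P1 m γ

theorem genIn_laced (h : HiList D) (hG2 : D ≠ chevG2) (h4 : ∀ i j, M i j ≠ 4) (h6 : ∀ i j, M i j ≠ 6)
    (m : MData hp r q K₀) [IsSimpleGroup K₀] (P : Pcs m) (hP8 : P8a m) (hP1 : P1e m) (hr2 : r ≠ 2) (hr3 : 3 ≠ r)
    (hq : 5 ≤ q) : GenIn m 3 := by
  intro E hE hσ hE2
  obtain ⟨ε, hε⟩ := exists_eps m hr3
  obtain ⟨γ, hγ, hP⟩ := hP1 ε hε
  exact gamY_laced h hG2 h4 h6 m P hP8 hr2 hr3 hq hε hγ hP hE hσ hE2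

end Cfsg.Agent.H496.Mono

namespace Cfsg.Agent.H496.Mono

open CoxeterSystem Cfsg Cfsg.Lie Cfsg.Lie.ChevalleyDatum
open Cfsg.Agent.ChevalleyStructure Cfsg.Agent.ChevalleyStructure.CoxeterGeomTypes Cfsg.Agent.Nodes.RGDChev
  Cfsg.Agent.H316.U6 Cfsg.Agent.H818.Gen Cfsg.Agent.H818.Mono
open Cfsg.Agent.H818.StrP.UTab Cfsg.Agent.H123.ExcComb Cfsg.Agent.H469.Exc
open Cfsg.Agent.H225.Gen (hi_F4 hi_E6 hi_E7 hi_E8)

universe v

set_option backward.isDefEq.respectTransparency false in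
theorem n6 : ∀ i j : Fin 6, CoxeterMatrix.E₆ i j ≠ 4 ∧ CoxeterMatrix.E₆ i j ≠ 6 := by decide
set_option backward.isDefEq.respectTransparency false in
theorem n7 : ∀ i j : Fin 7, CoxeterMatrix.E₇ i j ≠ 4 ∧ CoxeterMatrix.E₇ i j ≠ 6 := by decide +kernel
set_option backward.isDefEq.respectTransparency false in
theorem n8 : ∀ i j : Fin 8, CoxeterMatrix.E₈ i j ≠ 4 ∧ CoxeterMatrix.E₈ i j ≠ 6 := by decide +kernel

variable {r q : ℕ} [Fact r.Prime] {K₀ : Type v} [Group K₀] [IsSimpleGroup K₀]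

/-- **`E₇`, p = 3.** -/
theorem genIn_E7_three {hp : IsType chevE7 7 CoxeterMatrix.E₇} (m : MData hp r q K₀) (P : Pcs m) (hP8 : P8a m)
    (hP1 : P1e m) (hr2 : r ≠ 2) (hr3 : 3 ≠ r) (hq : 5 ≤ q) : GenIn m 3 :=
  genIn_laced hi_E7 (ne_of_apply_ne ChevalleyDatum.nroots (by decide +kernel)) (fun i j => (n7 i j).1)
    (fun i j => (n7 i j).2) m P hP8 hP1 hr2 hr3 hq

/-- **`E₈`, p = 3.** -/
theorem genIn_E8_three {hp : IsType chevE8 8 CoxeterMatrix.E₈} (m : MData hp r q K₀) (P : Pcs m) (hP8 : P8a m)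
    (hP1 : P1e m) (hr2 : r ≠ 2) (hr3 : 3 ≠ r) (hq : 5 ≤ q) : GenIn m 3 :=
  genIn_laced hi_E8 (ne_of_apply_ne ChevalleyDatum.nroots (by decide +kernel)) (fun i j => (n8 i j).1)
    (fun i j => (n8 i j).2) m P hP8 hP1 hr2 hr3 hq

/-- **`F₄`, p = 3.** -/
theorem genIn_F4_three {hp : IsType chevF4 4 CoxeterMatrix.F₄} (m : MData hp r q K₀) (P : Pcs m) (hP8 : P8a m)
    (hP8b : P8b hp r) (hP1 : P1e m) (hr2 : r ≠ 2) (hr3 : 3 ≠ r) (hq : 5 ≤ q) : GenIn m 3 := by
  intro E hE hσ hE2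
  obtain ⟨ε, hε⟩ := exists_eps m hr3
  obtain ⟨γ, hγ, hP⟩ := hP1 ε hε
  refine gamY_of hi_F4 (ne_of_apply_ne ChevalleyDatum.nroots (by decide +kernel)) m P hr2 hr3 hq hε
    (P.noPlusA γ ε hγ) hP hE hσ hE2 fun z hz hNP hnt hall => ?_
  have hSS : ∀ a ∈ H225.Gen.LL (CoxeterMatrix.F₄).toCoxeterSystem hp, a ∈ SS hp γ ε := fun a ha => ⟨ha, hγ a⟩
  refine hP8 E hE hσ hr2 hr3 hq z γ ε hε hγ hz ?_
  have hq' : 5 ≤ r ^ m.e := by rw [m.hq]; exact hq
  have hε' : Eps 3 (r ^ m.e) ε := by rw [m.hq]; exact hε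
  refine hP8b m.e _ γ _ _ (hz.sit hE hσ) hr2 hr3 hq' ε hε' hγ
    (fun f hf w hw b hb => hNP f hf w hw b (hSS b hb)) ?_ (fun a ha => hall a (hSS a ha))
  obtain ⟨f, hf, h1⟩ := hnt
  refine ⟨z⁻¹ * f * z, ⟨f, hf, ?_⟩, h1⟩
  show z⁻¹ * f * z⁻¹⁻¹ = _
  rw [inv_inv]

/-- frames in `E₆` -/
def P1g {hp : IsType chevE6 6 CoxeterMatrix.E₆} (m : MData hp r q K₀) : Prop :=
  ∀ ε, Eps 3 q ε → ∃ γ, ((∀ x, γ x = ε • x) ∨ ∀ x, γ x = ε • H720.TwFr.permE H720.TwFr.rho6 x) ∧ P1 m γ

/-- **`E₆`, `²E₆`, p = 3.** -/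
theorem genIn_E6_three {hp : IsType chevE6 6 CoxeterMatrix.E₆} (m : MData hp r q K₀) (P : Pcs m) (hP8 : P8a m)
    (hP6B : PNoPlusB m) (hP8c : P8c m) (hP1 : P1g m) (hr2 : r ≠ 2) (hr3 : 3 ≠ r) (hq : 5 ≤ q) : GenIn m 3 := by
  intro E hE hσ hE2
  obtain ⟨ε, hε⟩ := exists_eps m hr3
  obtain ⟨γ, hγ | hγ, hP⟩ := hP1 ε hε
  · exact gamY_laced hi_E6 (ne_of_apply_ne ChevalleyDatum.nroots (by decide +kernel)) (fun i j => (n6 i j).1)
      (fun i j => (n6 i j).2) m P hP8 hr2 hr3 hq hε hγ hP hE hσ hE2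
  · exact gamY_of hi_E6 (ne_of_apply_ne ChevalleyDatum.nroots (by decide +kernel)) m P hr2 hr3 hq hε
      (hP6B γ ε hγ) hP hE hσ hE2 fun z hz hNP hnt hall => hP8c E hE hσ hr2 hr3 hq z γ ε hε hγ hz hNP hnt hall

end Cfsg.Agent.H496.Mono
end

-- part: H46/X4/ImpAlg
section
/-!
# S2187, non-toral `E`: the move (M6), algebraic part (helper46)

* `mono_mul`, `mono_inv` : products of monomial matrices;
* `mono_of_comm` : a matrix commuting with `diag(ω ^ i)` up to a scalar is monomial, with a cyclic permutation;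
* `exists_diag` : a cyclic monomial matrix of order `p` is conjugate to `diag(ω ^ i)` in `SL_p(k)`;
* `imp_alg` : `ψ' : SL_{p+1}(k) → Y`, `f` acts as a cycle of order `p` fixing the last vector, `f ^ p = 1`, `f` fixed by a
  Frobenius map `τ`: there is `y` with `y⁻¹ f y` diagonal, `y⁻¹ τ(y)` diagonal;
* `imp_other` : elements commuting with `f`.
-/

set_option autoImplicit false
set_option linter.unusedSectionVars false

universe u

namespace Cfsg.Agent.H46.X4

open Cfsg Cfsg.Geo Cfsg.Agent.H321.Ker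
open scoped MatrixGroups Matrix commutatorElement
open Matrix.SpecialLinearGroup (toGL transvection)

section Mono

variable {n : ℕ} [NeZero n] {k : Type*} [Field k]

theorem mono_mul (π π' : Equiv.Perm (Fin n)) (d d' : Fin n → kˣ) :
    mono π d * mono π' d' = mono (π * π') (fun j => d (π' j) * d' j) := by
  apply Units.ext
  ext i j
  rw [Units.val_mul, Matrix.mul_apply, Finset.sum_eq_single (π' j)]
  · rw [mono_coe, mono_coe, mono_coe, if_pos rfl, Equiv.Perm.mul_apply]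
    by_cases h : i = π (π' j)
    · rw [if_pos h, if_pos h, Units.val_mul]
    · rw [if_neg h, if_neg h, zero_mul]
  · intro b _ hb
    rw [mono_coe π', if_neg hb, mul_zero]
  · simp

theorem sc_mono (z : kˣ) : sc n z = mono 1 (fun _ => z) := by
  apply Units.ext
  ext i j
  rw [mono_coe, sc_coe, Matrix.smul_apply, Matrix.one_apply, Equiv.Perm.one_apply]
  split_ifs <;> simp

theorem mono_one : mono (1 : Equiv.Perm (Fin n)) (fun _ => (1 : kˣ)) = 1 := by
  rw [← sc_mono, sc_one]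

theorem mono_inv (π : Equiv.Perm (Fin n)) (d : Fin n → kˣ) : (mono π d)⁻¹ = mono π⁻¹ (fun j => (d (π⁻¹ j))⁻¹) := by
  rw [inv_eq_iff_mul_eq_one, mono_mul, mul_inv_cancel, ← mono_one]
  congr 1
  funext j
  rw [mul_inv_cancel]

theorem it_mono (π : Equiv.Perm (Fin n)) (d : Fin n → kˣ) : it (mono π d) = mono π (fun j => (d j)⁻¹) := by
  apply Units.ext
  ext i j
  rw [it_coe, mono_coe]
  rfl

theorem fr_mono (r e : ℕ) [Fact r.Prime] [CharP k r] (π : Equiv.Perm (Fin n)) (d : Fin n → kˣ) :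
    fr r e (mono π d) = mono π (fun j => d j ^ r ^ e) := by
  have hq : r ^ e ≠ 0 := pow_ne_zero _ (Fact.out : r.Prime).ne_zero
  apply Units.ext
  ext i j
  rw [fr_apply, mono_coe, mono_coe]
  split_ifs
  · rw [Units.val_pow_eq_pow_val]
  · rw [zero_pow hq]

theorem tr_congr {i j i' j' : Fin n} (hij : i ≠ j) (hij' : i' ≠ j') (hi : i = i') (hj : j = j') (t : k) :
    (transvection hij t : Matrix.SpecialLinearGroup (Fin n) k) = transvection hij' t := by
  subst hi hj
  rfl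

theorem col_ne_zero (X : GL (Fin n) k) (j : Fin n) : ∃ i, (X : Matrix (Fin n) (Fin n) k) i j ≠ 0 := by
  by_contra hcon
  push Not at hcon
  have h1 : (X⁻¹ : GL (Fin n) k).1 * (X : Matrix (Fin n) (Fin n) k) = 1 := by
    rw [← Units.val_mul, inv_mul_cancel, Units.val_one]
  have h2 := congrFun (congrFun h1 j) j
  rw [Matrix.mul_apply, Matrix.one_apply_eq, Finset.sum_eq_zero] at h2
  · exact zero_ne_one h2
  · intro i _
    rw [hcon i, mul_zero]

end Mono

section Diag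

variable {p : ℕ} [hp : Fact p.Prime] [NeZero p] {k : Type u} [Field k]

/-- `diag(ω ^ i)` -/
def dl (p : ℕ) [NeZero p] {k : Type u} [Field k] (ω : kˣ) : GL (Fin p) k := mono 1 (fun i => ω ^ (i : ℕ))

theorem mono_of_comm {ω : kˣ} (hω : orderOf ω = p) {ζ : kˣ} {X : GL (Fin p) k}
    (h : X * dl p ω = sc p ζ * (dl p ω * X)) :
    ∃ a : Fin p, ζ * ω ^ (a : ℕ) = 1 ∧ ∃ d, X = mono (Equiv.addRight a) d := by
  have h1 : ∀ i j, (X : Matrix (Fin p) (Fin p) k) i j ≠ 0 → ω ^ (j : ℕ) = ζ * ω ^ (i : ℕ) := by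
    intro i j hij
    have h2 : ((X * dl p ω : GL (Fin p) k) : Matrix (Fin p) (Fin p) k) i j =
        ((sc p ζ * (dl p ω * X) : GL (Fin p) k) : Matrix (Fin p) (Fin p) k) i j := by rw [h]
    rw [Units.val_mul, Units.val_mul, Units.val_mul, sc_coe, Matrix.smul_mul, Matrix.one_mul, Matrix.smul_apply,
      Matrix.mul_apply, Matrix.mul_apply, Finset.sum_eq_single j, Finset.sum_eq_single i] at h2
    · unfold dl at h2
      rw [mono_coe, mono_coe, Equiv.Perm.one_apply, Equiv.Perm.one_apply, if_pos rfl, if_pos rfl, smul_eq_mul] at h2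
      apply Units.ext
      rw [Units.val_mul]
      have h3 : (X : Matrix (Fin p) (Fin p) k) i j * ((ω ^ (j : ℕ) : kˣ) : k) =
          (X : Matrix (Fin p) (Fin p) k) i j * ((ζ : k) * ((ω ^ (i : ℕ) : kˣ) : k)) := by rw [h2]; ring
      exact mul_left_cancel₀ hij h3
    · intro b _ hb
      unfold dl
      rw [mono_coe, Equiv.Perm.one_apply, if_neg (Ne.symm hb), zero_mul]
    · simp
    · intro b _ hb
      unfold dl
      rw [mono_coe, Equiv.Perm.one_apply, if_neg hb, mul_zero]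
    · simp
  obtain ⟨a, ha⟩ := col_ne_zero X 0
  have ha1 := h1 a 0 ha
  rw [Fin.val_zero, pow_zero] at ha1
  have h4 : ∀ i j, (X : Matrix (Fin p) (Fin p) k) i j ≠ 0 → i = j + a := by
    intro i j hij
    have h5 := h1 i j hij
    have h6 : ω ^ ((j : ℕ) + a) = ω ^ (i : ℕ) := by
      rw [pow_add, h5]
      calc ζ * ω ^ (i : ℕ) * ω ^ (a : ℕ) = (ζ * ω ^ (a : ℕ)) * ω ^ (i : ℕ) := by
            rw [mul_assoc, mul_comm (ω ^ (i : ℕ)), ← mul_assoc]
        _ = _ := by rw [← ha1, one_mul]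
    rw [pow_eq_pow_iff_modEq, hω] at h6
    apply Fin.ext
    rw [Fin.val_add]
    have h7 : (i : ℕ) % p = i := Nat.mod_eq_of_lt i.2
    rw [← h7]
    exact h6.symm
  refine ⟨a, ha1.symm, ?_⟩
  have h5 : ∀ j, (X : Matrix (Fin p) (Fin p) k) (j + a) j ≠ 0 := by
    intro j
    obtain ⟨i, hi⟩ := col_ne_zero X j
    rwa [h4 i j hi] at hi
  refine ⟨fun j => Units.mk0 _ (h5 j), ?_⟩
  apply Units.ext
  ext i j
  rw [mono_coe, Equiv.coe_addRight]
  by_cases h6 : i = j + a
  · rw [if_pos h6, Units.val_mk0, h6]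
  · rw [if_neg h6]
    by_contra h7
    exact h6 (h4 i j h7)

theorem addRight_zero : (Equiv.addRight (0 : Fin p)) = 1 := by
  ext i
  simp

theorem mono_of_comm' {ω : kˣ} (hω : orderOf ω = p) {X : GL (Fin p) k} (h : X * dl p ω = dl p ω * X) :
    ∃ d, X = mono 1 d := by
  obtain ⟨a, ha, d, hd⟩ := mono_of_comm (X := X) (ζ := 1) hω (by rw [sc_one, one_mul]; exact h)
  rw [one_mul] at ha
  have h1 := orderOf_dvd_of_pow_eq_one ha
  rw [hω] at h1
  have h2 : a = 0 := by
    apply Fin.ext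
    rw [Fin.val_zero]
    exact Nat.eq_zero_of_dvd_of_lt h1 a.2
  rw [h2, addRight_zero] at hd
  exact ⟨d, hd⟩

theorem det_dl (h2 : p ≠ 2) {ω : kˣ} (hω : orderOf ω = p) : ((dl p ω : GL (Fin p) k) : Matrix (Fin p) (Fin p) k).det = 1 := by
  have h1 : ((dl p ω : GL (Fin p) k) : Matrix (Fin p) (Fin p) k) =
      Matrix.diagonal fun i : Fin p => ((ω ^ (i : ℕ) : kˣ) : k) := by
    ext i j
    unfold dl
    rw [mono_coe, Matrix.diagonal_apply, Equiv.Perm.one_apply]
    by_cases h : i = j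
    · rw [if_pos h, if_pos h, h]
    · rw [if_neg h, if_neg h]
  rw [h1, Matrix.det_diagonal, ← Units.coe_prod, Finset.prod_pow_eq_pow_sum]
  have h3 : (∑ i : Fin p, (i : ℕ)) * 2 = p * (p - 1) := by
    rw [Fin.sum_univ_eq_sum_range (fun i => i) p]
    exact Finset.sum_range_id_mul_two p
  have h4 : p ∣ ∑ i : Fin p, (i : ℕ) := by
    have h5 : p ∣ (∑ i : Fin p, (i : ℕ)) * 2 := ⟨_, h3⟩
    exact (Nat.Coprime.dvd_mul_right ((Nat.coprime_primes hp.1 Nat.prime_two).2 h2)).1 h5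
  rw [(orderOf_dvd_iff_pow_eq_one).1 (hω ▸ h4 : orderOf ω ∣ _), Units.val_one]

theorem val_succ' (i : Fin p) : ((i + 1 : Fin p) : ℕ) = ((i : ℕ) + 1) % p := val_succ i

/-- **Diagonalisation of a cyclic monomial matrix.** -/
theorem exists_diag [IsAlgClosed k] {ω : kˣ} (hω : orderOf ω = p) {g : Fin p → kˣ} (hg : ∏ i, g i = 1) :
    ∃ y : Matrix.SpecialLinearGroup (Fin p) k,
      (toGL y)⁻¹ * mono (Equiv.addRight (1 : Fin p)) g * toGL y = dl p ω := by
  have hp0 : 0 < p := hp.1.pos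
  -- the diagonal matrix
  set! a' : ℕ → kˣ := fun m => ∏ j ∈ Finset.range m, g (Fin.ofNat p j) with ha'
  set! a : Fin p → kˣ := fun i => a' i with ha
  have hofn : ∀ i : Fin p, Fin.ofNat p (i : ℕ) = i := fun i => Fin.ext (by
    rw [Fin.val_ofNat]; exact Nat.mod_eq_of_lt i.2)
  have hap : a' p = 1 := by
    rw [← hg, ha']
    beta_reduce
    rw [← Fin.prod_univ_eq_prod_range (fun j => g (Fin.ofNat p j)) p]
    exact Finset.prod_congr rfl fun i _ => by rw [hofn]
  have has : ∀ i : Fin p, a (i + 1) = g i * a i := by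
    intro i
    have h1 : a' ((i : ℕ) + 1) = g i * a i := by
      rw [ha', ha]
      beta_reduce
      rw [Finset.prod_range_succ, hofn, mul_comm]
    rw [← h1, ha]
    beta_reduce
    rw [val_succ']
    rcases Nat.lt_or_ge ((i : ℕ) + 1) p with h2 | h2
    · rw [Nat.mod_eq_of_lt h2]
    · have h3 : (i : ℕ) + 1 = p := by have := i.2; omega
      rw [h3, Nat.mod_self, hap, ha']
      simp
  have h1 : mono (Equiv.addRight (1 : Fin p)) g * mono 1 a = mono 1 a * mono (Equiv.addRight (1 : Fin p)) (fun _ => 1) := by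
    rw [mono_mul, mono_mul, mul_one, one_mul]
    congr 1
    funext j
    rw [Equiv.Perm.one_apply, Equiv.coe_addRight, has, mul_one]
  -- the Fourier matrix
  set! ev : Fin p → kˣ := fun i => ω⁻¹ ^ (i : ℕ) with hev
  have hωi : orderOf ω⁻¹ = p := by rw [orderOf_inv, hω]
  have hevs : ∀ i, ev (i + 1) = ev i * ω⁻¹ := by
    intro i
    rw [hev]
    beta_reduce
    rw [val_succ', ← pow_succ]
    conv_rhs => rw [← pow_mod_orderOf, hωi]
  have hinj : Function.Injective fun i : Fin p => ((ev i : kˣ) : k) := by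
    intro i j hij
    have h2 : ω⁻¹ ^ (i : ℕ) = ω⁻¹ ^ (j : ℕ) := Units.ext hij
    rw [pow_eq_pow_iff_modEq, hωi] at h2
    apply Fin.ext
    rw [← Nat.mod_eq_of_lt i.2, ← Nat.mod_eq_of_lt j.2]
    exact h2
  have hdet : (Matrix.vandermonde fun i : Fin p => ((ev i : kˣ) : k)).det ≠ 0 := Matrix.det_vandermonde_ne_zero_iff.2 hinj
  set! V : GL (Fin p) k := Matrix.GeneralLinearGroup.mkOfDetNeZero _ hdet with hV
  have hVc : ∀ i j, (V : Matrix (Fin p) (Fin p) k) i j = ((ev i ^ (j : ℕ) : kˣ) : k) := by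
    intro i j
    show Matrix.vandermonde (fun i : Fin p => ((ev i : kˣ) : k)) i j = _
    rw [Matrix.vandermonde_apply]
    exact (Units.val_pow_eq_pow_val _ _).symm
  have h2 : mono (Equiv.addRight (1 : Fin p)) (fun _ => (1 : kˣ)) * V = V * dl p ω := by
    apply Units.ext
    ext i j
    obtain ⟨i', rfl⟩ : ∃ i', i = i' + 1 := ⟨i - 1, by rw [sub_add_cancel]⟩
    rw [Units.val_mul, Units.val_mul, Matrix.mul_apply, Matrix.mul_apply, Finset.sum_eq_single i', Finset.sum_eq_single j]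
    · unfold dl
      rw [mono_coe, mono_coe, Equiv.coe_addRight, if_pos rfl, Equiv.Perm.one_apply, if_pos rfl, hVc, hVc, hevs,
        ← Units.val_mul, ← Units.val_mul]
      congr 1
      rw [mul_pow, mul_assoc, ← mul_pow, inv_mul_cancel, one_pow, mul_one, one_mul]
    · intro b _ hb
      unfold dl
      rw [mono_coe, Equiv.Perm.one_apply, if_neg hb, mul_zero]
    · simp
    · intro b _ hb
      rw [mono_coe, Equiv.coe_addRight, if_neg (fun h => hb (add_right_cancel h).symm), zero_mul]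
    · simp
  -- the matrix
  set! B : GL (Fin p) k := mono 1 a * V with hB
  have h3 : mono (Equiv.addRight (1 : Fin p)) g * B = B * dl p ω := by
    rw [hB, ← mul_assoc, h1, mul_assoc, h2, mul_assoc]
  obtain ⟨z, hz⟩ := exists_root hp0 (Matrix.GeneralLinearGroup.det B)⁻¹
  have h4 : Matrix.GeneralLinearGroup.det (sc p z * B) = 1 := by
    have h5 : Matrix.GeneralLinearGroup.det (sc p z) = z ^ p := by
      apply Units.ext
      rw [Matrix.GeneralLinearGroup.val_det_apply, sc_coe, Matrix.det_smul, Matrix.det_one, mul_one, Fintype.card_fin,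
        Units.val_pow_eq_pow_val]
    rw [map_mul, h5, hz, inv_mul_cancel]
  set! y : Matrix.SpecialLinearGroup (Fin p) k := ⟨(sc p z * B).1, by
    have := congrArg Units.val h4
    rwa [Matrix.GeneralLinearGroup.val_det_apply, Units.val_one] at this⟩ with hy
  have hyy : toGL y = sc p z * B := Units.ext rfl
  refine ⟨y, ?_⟩
  rw [hyy, mul_assoc]
  have h6 : mono (Equiv.addRight (1 : Fin p)) g * (sc p z * B) = (sc p z * B) * dl p ω := by
    rw [← mul_assoc, ← sc_comm, mul_assoc, h3, ← mul_assoc]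
  rw [h6, inv_mul_cancel_left]

end Diag

section Main

variable {p : ℕ} [hp : Fact p.Prime] [NeZero p] {k : Type u} [Field k] [IsAlgClosed k] {r e : ℕ} [Fact r.Prime]
  [CharP k r] {Y : Type*} [Group Y]

theorem stm_coe {D : GL (Fin p) k} {uni : Bool} {x y : Matrix.SpecialLinearGroup (Fin p) k} :
    toGL (x⁻¹ * stm r e D uni y) = (toGL x)⁻¹ * stG r e D uni (toGL y) := by
  rw [map_mul, map_inv, toGL_stm]

/-- the product of the coefficients of a cycle -/
theorem prod_cycle {f : Y} (hfp : f ^ p = 1) {xb : Fin p → k → Y} (hinj : Function.Injective (xb 0)) {g : Fin p → kˣ}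
    (hf : ∀ i t, f * xb i t * f⁻¹ = xb (i + 1) ((g i : k) * t)) : ∏ i, g i = 1 := by
  have hp0 : 0 < p := hp.1.pos
  have hofn : ∀ i : Fin p, Fin.ofNat p (i : ℕ) = i := fun i => Fin.ext (by
    rw [Fin.val_ofNat]; exact Nat.mod_eq_of_lt i.2)
  have h1 : ∀ m : ℕ, ∀ t, f ^ m * xb 0 t * (f ^ m)⁻¹ =
      xb (Fin.ofNat p m) (((∏ j ∈ Finset.range m, g (Fin.ofNat p j) : kˣ) : k) * t) := by
    intro m
    induction m with
    | zero =>
      intro t
      rw [Finset.prod_range_zero, Units.val_one, one_mul, pow_zero, one_mul, inv_one, mul_one]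
      rfl
    | succ m ih =>
      intro t
      have h2 : f ^ (m + 1) * xb 0 t * (f ^ (m + 1))⁻¹ = f * (f ^ m * xb 0 t * (f ^ m)⁻¹) * f⁻¹ := by
        rw [pow_succ']; group
      have h3 : (Fin.ofNat p m + 1 : Fin p) = Fin.ofNat p (m + 1) := by
        apply Fin.ext
        rw [val_succ', Fin.val_ofNat, Fin.val_ofNat, Nat.mod_add_mod]
      rw [h2, ih, hf, h3, Finset.prod_range_succ, Units.val_mul]
      congr 1
      ring
  have h2 := h1 p 1
  rw [hfp, one_mul, inv_one, mul_one, mul_one] at h2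
  have h3 : Fin.ofNat p p = (0 : Fin p) := by
    apply Fin.ext
    rw [Fin.val_ofNat, Nat.mod_self, Fin.val_zero]
  rw [h3] at h2
  have h4 := hinj h2
  have h5 : ∏ j ∈ Finset.range p, g (Fin.ofNat p j) = ∏ i, g i := by
    rw [← Fin.prod_univ_eq_prod_range (fun j => g (Fin.ofNat p j)) p]
    exact Finset.prod_congr rfl fun i _ => by rw [hofn]
  rw [← h5]
  exact Units.ext (by rw [Units.val_one]; exact h4.symm)

/-- **The move, algebraic form.** -/
theorem imp_alg (h2 : p ≠ 2) {ω : kˣ} (hω : orderOf ω = p)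
    {ψ' : Matrix.SpecialLinearGroup (Fin (p + 1)) k →* Y}
    (hinj' : ∀ (i j : Fin (p + 1)) (hij : i ≠ j), Function.Injective fun t : k => ψ' (transvection hij t))
    {ψ : Matrix.SpecialLinearGroup (Fin p) k →* Y}
    (hψ : ∀ (i j : Fin p) (hij : i ≠ j) (t : k),
      ψ (transvection hij t) = ψ' (transvection ((Fin.castSucc_injective p).ne hij) t))
    {f : Y} (hfp : f ^ p = 1) {π' : Equiv.Perm (Fin (p + 1))} (hπ : ∀ i : Fin p, π' i.castSucc = (i + 1).castSucc)
    (hπl : π' (Fin.last p) = Fin.last p) {c : Fin (p + 1) → Fin (p + 1) → k} (hc0 : ∀ i j, i ≠ j → c i j ≠ 0)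
    (hf : ∀ (i j : Fin (p + 1)) (hij : i ≠ j) (t : k),
      f * ψ' (transvection hij t) * f⁻¹ = ψ' (transvection (π'.injective.ne hij) (c i j * t)))
    {τ : Y →* Y} (hτf : τ f = f) {s : Fin (p + 1) → Fin (p + 1) → k} (hs0 : ∀ i j, i ≠ j → s i j ≠ 0)
    (hτ : (ω ^ r ^ e = ω ∧ ∀ (i j : Fin (p + 1)) (hij : i ≠ j) (t : k),
        τ (ψ' (transvection hij t)) = ψ' (transvection hij (s i j * t ^ r ^ e))) ∨
      (ω ^ (r ^ e + 1) = 1 ∧ ∀ (i j : Fin (p + 1)) (hij : i ≠ j) (t : k),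
        τ (ψ' (transvection hij t)) = ψ' (transvection hij.symm (s i j * t ^ r ^ e)))) :
    ∃ (g : Fin p → kˣ) (P y : Matrix.SpecialLinearGroup (Fin p) k)
      (T₀ : Matrix.SpecialLinearGroup (Fin p) k →* Matrix.SpecialLinearGroup (Fin p) k),
      toGL P = mono (Equiv.addRight (1 : Fin p)) g ∧ (∀ x, f * ψ x * f⁻¹ = ψ (P * x * P⁻¹)) ∧
      (∀ x, τ (ψ x) = ψ (T₀ x)) ∧ (∃ d, toGL (y⁻¹ * T₀ y) = mono 1 d) ∧
      (toGL y)⁻¹ * toGL P * toGL y = dl p ω := by
  have hn : 3 ≤ p := by have := hp.1.two_le; omega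
  have hp0 : 0 < p := hp.1.pos
  have hcs : ∀ i : Fin p, i.castSucc ≠ Fin.last p := fun i => (Fin.castSucc_lt_last i).ne
  have : NeZero (p + 1) := ⟨by omega⟩
  -- the coefficients of `f`
  obtain ⟨d', hd', -⟩ := exists_lin (φ := (MulAut.conj f).toMonoidHom) (r := r) (e := 0) (π := π') (c := c)
    (by omega : 3 ≤ p + 1) hinj' hc0 (fun i j hij t => by
      show f * ψ' (transvection hij t) * f⁻¹ = _
      rw [hf, pow_zero, pow_one])
  set! g : Fin p → kˣ := fun i => d' i.castSucc * (d' (Fin.last p))⁻¹ with hg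
  have hg1 : ∀ i : Fin p, c i.castSucc (Fin.last p) = (g i : k) := by
    intro i
    rw [hd' _ _ (hcs i), hg, Units.val_mul]
  have hg2 : ∀ i : Fin p, c (Fin.last p) i.castSucc = ((g i)⁻¹ : kˣ) := by
    intro i
    rw [hd' _ _ (hcs i).symm, hg, mul_inv_rev, inv_inv, Units.val_mul]
  have hg3 : ∀ i j : Fin p, i ≠ j → c i.castSucc j.castSucc = (g i : k) * ((g j)⁻¹ : kˣ) := by
    intro i j hij
    rw [hd' _ _ ((Fin.castSucc_injective p).ne hij), hg, ← Units.val_mul, ← Units.val_mul]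
    congr 1
    group
  have hprod : ∏ i, g i = 1 := by
    refine prod_cycle hfp (xb := fun i t => ψ' (transvection (hcs i) t)) (hinj' _ _ _) (g := g) fun i t => ?_
    rw [hf, hg1]
    congr 1
    exact tr_congr _ _ (hπ i) hπl _
  obtain ⟨y, hy⟩ := exists_diag hω hprod
  -- `P`
  have hdet : ((mono (Equiv.addRight (1 : Fin p)) g : GL (Fin p) k) : Matrix (Fin p) (Fin p) k).det = 1 := by
    have h3 : mono (Equiv.addRight (1 : Fin p)) g = toGL y * dl p ω * (toGL y)⁻¹ := by rw [← hy]; group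
    have h4 : ((dl p ω : GL (Fin p) k)) ∈ specialLinear (Fin p) k := mem_SL_iff.2 (det_dl h2 hω)
    have h5 := conj_mem_SL (toGL y) h4
    rw [← h3] at h5
    exact mem_SL_iff.1 h5
  set! P : Matrix.SpecialLinearGroup (Fin p) k := ⟨(mono (Equiv.addRight (1 : Fin p)) g).1, hdet⟩ with hP
  have hPP : toGL P = mono (Equiv.addRight (1 : Fin p)) g := Units.ext rfl
  have hfP : ∀ x, f * ψ x * f⁻¹ = ψ (P * x * P⁻¹) := by
    have h3 : (MulAut.conj f).toMonoidHom.comp ψ = ψ.comp (MulAut.conj P).toMonoidHom := by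
      refine hom_ext_transvection hn fun i j hij t => ?_
      show f * ψ (transvection hij t) * f⁻¹ = ψ (P * transvection hij t * P⁻¹)
      have h4 : P * transvection hij t * P⁻¹ = cj (mono (Equiv.addRight (1 : Fin p)) g) (transvection hij t) := by
        apply toGL_inj'
        rw [toGL_cj, map_mul, map_mul, map_inv, hPP]
      rw [h4, cj_mono, hψ, hψ, hf, hg3 i j hij]
      congr 1
      have h5 : (g i : k) * ((g j)⁻¹ : kˣ) * t = (g i : k) * t * ((g j)⁻¹ : kˣ) := by ring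
      rw [h5]
      exact tr_congr _ _ (hπ i) (hπ j) _
    exact fun x => DFunLike.congr_fun h3 x
  have hy' : toGL y * dl p ω * (toGL y)⁻¹ = toGL P := by rw [← hy, hPP]; group
  -- the end
  have hend : ∀ T : GL (Fin p) k →* GL (Fin p) k, T (toGL P) = toGL P → T (dl p ω) = dl p ω →
      ∃ d, (toGL y)⁻¹ * T (toGL y) = mono 1 d := by
    intro T hT1 hT2
    refine mono_of_comm' hω ?_
    have h3 : T (toGL y) * dl p ω * (T (toGL y))⁻¹ = toGL P := by
      rw [← hT1, ← hy', map_mul, map_mul, map_inv, hT2]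
    rw [← hy'] at h3
    have h4 : T (toGL y) * dl p ω = toGL y * dl p ω * (toGL y)⁻¹ * T (toGL y) := by rw [← h3]; group
    rw [mul_assoc, h4]
    group
  have hfi : ∀ i : Fin p, ∀ t, τ (f * ψ' (transvection (hcs i) t) * f⁻¹) = f * τ (ψ' (transvection (hcs i) t)) * f⁻¹ := by
    intro i t
    rw [map_mul, map_mul, map_inv, hτf]
  have hfi1 : ∀ i : Fin p, ∀ t, f * ψ' (transvection (hcs i) t) * f⁻¹ =
      ψ' (transvection (hcs (i + 1)) ((g i : k) * t)) := by
    intro i t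
    rw [hf, hg1]
    congr 1
    exact tr_congr _ _ (hπ i) hπl _
  have hfi2 : ∀ i : Fin p, ∀ t, f * ψ' (transvection (hcs i).symm t) * f⁻¹ =
      ψ' (transvection (hcs (i + 1)).symm (((g i)⁻¹ : kˣ) * t)) := by
    intro i t
    rw [hf, hg2]
    congr 1
    exact tr_congr _ _ hπl (hπ i) _
  rcases hτ with ⟨hωq, hτ⟩ | ⟨hωq, hτ⟩
  · -- linear
    obtain ⟨σ', hσ', -⟩ := exists_lin (φ := τ) (r := r) (e := e) (π := 1) (c := s) (by omega : 3 ≤ p + 1) hinj' hs0 hτ
    set! σ : Fin p → kˣ := fun i => σ' i.castSucc with hσ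
    have hrel : ∀ i : Fin p, σ (i + 1) * g i ^ r ^ e = g i * σ i := by
      intro i
      have h3 := hfi i 1
      rw [hfi1, hτ, hτ, hfi1] at h3
      have h4 := hinj' _ _ _ h3
      rw [hσ' _ _ (hcs (i + 1)), hσ' _ _ (hcs i), mul_one, one_pow, mul_one] at h4
      apply Units.ext
      rw [Units.val_mul, Units.val_mul, Units.val_pow_eq_pow_val]
      have h5 : ((σ' (Fin.last p))⁻¹ : kˣ).1 ≠ 0 := Units.ne_zero _
      apply mul_right_cancel₀ h5
      calc (σ (i + 1) : k) * (g i : k) ^ r ^ e * ((σ' (Fin.last p))⁻¹ : kˣ).1 =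
            (σ' (i + 1).castSucc : k) * ((σ' (Fin.last p))⁻¹ : kˣ).1 * (g i : k) ^ r ^ e := by rw [hσ]; ring
        _ = _ := by rw [h4, hσ]; ring
    refine ⟨g, P, y, stm r e (mono 1 σ) false, hPP, hfP, ?_, ?_, by rw [hPP]; exact hy⟩
    · have h3 : τ.comp ψ = ψ.comp (stm r e (mono 1 σ) false) := by
        refine hom_ext_transvection hn fun i j hij t => ?_
        rw [MonoidHom.comp_apply, MonoidHom.comp_apply, stm_false_transvection, hψ, hψ, hτ,
          hσ' _ _ ((Fin.castSucc_injective p).ne hij)]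
        congr 1
        have h5 : (σ' i.castSucc : k) * ((σ' j.castSucc)⁻¹ : kˣ) * t ^ r ^ e =
          (σ i : k) * t ^ r ^ e * ((σ j)⁻¹ : kˣ) := by rw [hσ]; ring
        rw [h5]
        exact tr_congr _ _ rfl rfl _
      exact fun x => DFunLike.congr_fun h3 x
    · rw [stm_coe]
      refine hend _ ?_ ?_
      · rw [hPP, stG_false, fr_mono, mono_inv, mono_mul, mono_mul, inv_one, one_mul, mul_one]
        congr 1
        funext j
        rw [Equiv.Perm.one_apply, Equiv.coe_addRight, hrel, mul_assoc, mul_inv_cancel, mul_one]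
      · unfold dl
        rw [stG_false, fr_mono, mono_inv, mono_mul, mono_mul, inv_one, one_mul, mul_one]
        congr 1
        funext j
        rw [Equiv.Perm.one_apply, Equiv.Perm.one_apply, ← pow_mul, mul_comm (j : ℕ), pow_mul, hωq, mul_comm (σ j),
          mul_assoc, mul_inv_cancel, mul_one]
  · -- unitary
    obtain ⟨σ', hσ', -⟩ := exists_uni (φ := τ) (r := r) (e := e) (π := 1) (c := s) (by omega : 3 ≤ p + 1) hinj' hs0 hτ
    set! σ : Fin p → kˣ := fun i => σ' i.castSucc with hσ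
    have hrel : ∀ i : Fin p, σ (i + 1) = g i * g i ^ r ^ e * σ i := by
      intro i
      have h3 := hfi i 1
      rw [hfi1, hτ, hτ, hfi2] at h3
      have h4 := hinj' _ _ _ h3
      rw [hσ' _ _ (hcs (i + 1)), hσ' _ _ (hcs i), mul_one, one_pow, mul_one] at h4
      -- `-(σ'_l σ'_{i+1}⁻¹) g^q = g⁻¹ (-(σ'_l σ'_i⁻¹))`
      have h5 : (σ' (Fin.last p))  * (σ (i + 1))⁻¹ * g i ^ r ^ e = (g i)⁻¹ * ((σ' (Fin.last p)) * (σ i)⁻¹) := by
        apply Units.ext
        have h6 : -((σ' (Fin.last p) : k) * ((σ' (i + 1).castSucc)⁻¹ : kˣ)) * (g i : k) ^ r ^ e =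
          -(((g i)⁻¹ : kˣ) * ((σ' (Fin.last p) : k) * ((σ' i.castSucc)⁻¹ : kˣ))) := by rw [h4]; ring
        rw [neg_mul, neg_inj] at h6
        rw [Units.val_mul, Units.val_mul, Units.val_mul, Units.val_mul, Units.val_pow_eq_pow_val]
        exact h6
      have h7 : (σ (i + 1))⁻¹ * g i ^ r ^ e = (g i)⁻¹ * (σ i)⁻¹ := by
        apply mul_left_cancel (a := σ' (Fin.last p))
        rw [← mul_assoc, h5, ← mul_assoc, ← mul_assoc, mul_comm (g i)⁻¹]
      calc σ (i + 1) = g i * σ i * ((g i)⁻¹ * (σ i)⁻¹) * σ (i + 1) := by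
            rw [← mul_inv, mul_inv_cancel, one_mul]
        _ = g i * σ i * ((σ (i + 1))⁻¹ * g i ^ r ^ e) * σ (i + 1) := by rw [h7]
        _ = g i * g i ^ r ^ e * σ i * ((σ (i + 1))⁻¹ * σ (i + 1)) := by
            simp only [mul_assoc, mul_comm, mul_left_comm]
        _ = _ := by rw [inv_mul_cancel, mul_one]
    refine ⟨g, P, y, stm r e (mono 1 σ) true, hPP, hfP, ?_, ?_, by rw [hPP]; exact hy⟩
    · have h3 : τ.comp ψ = ψ.comp (stm r e (mono 1 σ) true) := by
        refine hom_ext_transvection hn fun i j hij t => ?_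
        rw [MonoidHom.comp_apply, MonoidHom.comp_apply, stm_true_transvection, hψ, hψ, hτ,
          hσ' _ _ ((Fin.castSucc_injective p).ne hij)]
        congr 1
        have h5 : -((σ' j.castSucc : k) * ((σ' i.castSucc)⁻¹ : kˣ)) * t ^ r ^ e =
          (σ j : k) * -(t ^ r ^ e) * ((σ i)⁻¹ : kˣ) := by rw [hσ]; ring
        rw [h5]
        exact tr_congr _ _ rfl rfl _
      exact fun x => DFunLike.congr_fun h3 x
    · rw [stm_coe]
      refine hend _ ?_ ?_
      · rw [hPP, stG_true, fr_mono, it_mono, mono_inv, mono_mul, mono_mul, inv_one, one_mul, mul_one]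
        congr 1
        funext j
        rw [Equiv.Perm.one_apply, Equiv.coe_addRight, hrel]
        calc g j * g j ^ r ^ e * σ j * (g j ^ r ^ e)⁻¹ * (σ j)⁻¹ =
              g j * (g j ^ r ^ e * (g j ^ r ^ e)⁻¹) * (σ j * (σ j)⁻¹) := by
                simp only [mul_assoc, mul_comm, mul_left_comm]
          _ = _ := by rw [mul_inv_cancel, mul_inv_cancel, mul_one, mul_one]
      · have hωq' : (ω ^ r ^ e)⁻¹ = ω := by
          rw [pow_succ] at hωq
          exact (eq_inv_of_mul_eq_one_right hωq).symm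
        unfold dl
        rw [stG_true, fr_mono, it_mono, mono_inv, mono_mul, mono_mul, inv_one, one_mul, mul_one]
        congr 1
        funext j
        rw [Equiv.Perm.one_apply, Equiv.Perm.one_apply, ← pow_mul, mul_comm (j : ℕ), pow_mul, ← inv_pow, hωq',
          mul_comm (σ j), mul_assoc, mul_inv_cancel, mul_one]

/-- **The move, the elements commuting with `f`.** -/
theorem imp_other (r : ℕ) [Fact r.Prime] [CharP k r] (h2 : p ≠ 2) {ω : kˣ} (hω : orderOf ω = p) {ψ : Matrix.SpecialLinearGroup (Fin p) k →* Y}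
    (hinj : ∀ (i j : Fin p) (hij : i ≠ j), Function.Injective fun t : k => ψ (transvection hij t))
    {f : Y} {P y : Matrix.SpecialLinearGroup (Fin p) k} (hfP : ∀ x, f * ψ x * f⁻¹ = ψ (P * x * P⁻¹))
    (hy : (toGL y)⁻¹ * toGL P * toGL y = dl p ω) {x : Y} (hxf : x * f = f * x) {a : Fin p} {c : Fin p → Fin p → k}
    (hc0 : ∀ i j, i ≠ j → c i j ≠ 0)
    (hx : ∀ (i j : Fin p) (hij : i ≠ j) (t : k),
      x * ψ (transvection hij t) * x⁻¹ = ψ (transvection ((Equiv.addRight a).injective.ne hij) (c i j * t))) :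
    ∃ (m : Matrix.SpecialLinearGroup (Fin p) k) (b : Fin p) (d : Fin p → kˣ),
      toGL m = mono (Equiv.addRight b) d ∧ x * ψ y * x⁻¹ = ψ (y * m) := by
  have hn : 3 ≤ p := by have := hp.1.two_le; omega
  have h01 : (0 : Fin p) ≠ 1 := by
    intro h
    have := congrArg Fin.val h
    rw [Fin.val_zero, Fin.val_one'] at this
    rw [Nat.mod_eq_of_lt (by omega)] at this
    omega
  have hψ : ∃ g, ψ g ≠ 1 := by
    refine ⟨transvection h01 1, fun h => ?_⟩
    have h3 : ψ (transvection h01 (1 : k)) = ψ (transvection h01 (0 : k)) := by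
      have h4 : transvection h01 (0 : k) = 1 := toGL_inj' (Units.ext (by rw [toGL_transvection]; simp))
      rw [h, h4, map_one]
    exact one_ne_zero (hinj 0 1 h01 h3)
  obtain ⟨d, -, hd⟩ := exists_lin (φ := (MulAut.conj x).toMonoidHom) (r := r) (e := 0) (π := Equiv.addRight a) (c := c)
    hn hinj hc0 (fun i j hij t => by
      show x * ψ (transvection hij t) * x⁻¹ = _
      rw [hx, pow_zero, pow_one])
  set Q : GL (Fin p) k := mono (Equiv.addRight a) d with hQ
  have hst : ∀ g, stm r 0 Q false g = cj Q g := by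
    intro g
    apply toGL_inj'
    rw [toGL_stm, stG_false, toGL_cj]
    have : fr r 0 (toGL g) = toGL g := by
      apply Units.ext
      ext i j
      rw [fr_apply]
      simp
    rw [this]
  have hQψ : ∀ g, x * ψ g * x⁻¹ = ψ (cj Q g) := by
    intro g
    rw [← hst]
    exact hd g
  have hPψ : ∀ g, f * ψ g * f⁻¹ = ψ (cj (toGL P) g) := by
    intro g
    have h4 : P * g * P⁻¹ = cj (toGL P) g := by
      apply toGL_inj'
      rw [toGL_cj, map_mul, map_mul, map_inv]
    rw [hfP, h4]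
  -- `Q P = ζ P Q`
  have h3 : (Q * toGL P)⁻¹ * (toGL P * Q) ∈ scalars (Fin p) k := by
    refine scalar_of_cj fun g => ?_
    have h4 : ∀ g, cj (toGL P * Q) g = cj (Q * toGL P) g := by
      intro g
      refine eq_of_psi hn hψ (f := (cj (toGL P * Q)).toMonoidHom) (g := (cj (Q * toGL P)).toMonoidHom) (fun g => ?_) g
      show ψ (cj (toGL P * Q) g) = ψ (cj (Q * toGL P) g)
      rw [map_mul, map_mul, MulAut.mul_apply, MulAut.mul_apply, ← hPψ, ← hQψ, ← hQψ, ← hPψ]
      calc f * (x * ψ g * x⁻¹) * f⁻¹ = (f * x) * ψ g * (f * x)⁻¹ := by group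
        _ = (x * f) * ψ g * (x * f)⁻¹ := by rw [hxf]
        _ = _ := by group
    rw [map_mul, MulAut.mul_apply, h4, ← MulAut.mul_apply, ← map_mul, inv_mul_cancel, map_one, MulAut.one_apply]
  obtain ⟨ζ, hζ⟩ := mem_scalars_iff_sc.1 h3
  have h5 : toGL P * Q = sc p ζ * (Q * toGL P) := by rw [sc_comm, ← hζ]; group
  set! Q' : GL (Fin p) k := (toGL y)⁻¹ * Q * toGL y with hQ'
  have h6 : Q' * dl p ω = sc p ζ⁻¹ * (dl p ω * Q') := by
    have h7 : dl p ω * Q' = sc p ζ * (Q' * dl p ω) := by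
      rw [← hy, hQ']
      calc (toGL y)⁻¹ * toGL P * toGL y * ((toGL y)⁻¹ * Q * toGL y) = (toGL y)⁻¹ * (toGL P * Q) * toGL y := by group
        _ = ((toGL y)⁻¹ * sc p ζ) * (Q * toGL P) * toGL y := by rw [h5]; group
        _ = _ := by rw [← sc_comm]; group
    rw [h7, ← mul_assoc, ← sc_mul, inv_mul_cancel, sc_one, one_mul]
  obtain ⟨b, -, d', hd'⟩ := mono_of_comm hω h6
  refine ⟨y⁻¹ * cj Q y, b + -a, fun j => d' (j + -a) * (d (j + -a))⁻¹, ?_, ?_⟩
  · have h7 : toGL (y⁻¹ * cj Q y) = Q' * Q⁻¹ := by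
      rw [map_mul, map_inv, toGL_cj, hQ']; group
    have h8 : (Equiv.addRight a)⁻¹ = Equiv.addRight (-a) := by
      rw [inv_eq_iff_mul_eq_one]
      ext i
      simp
    rw [h7, hd', hQ, mono_inv, mono_mul, h8]
    have h9 : Equiv.addRight b * Equiv.addRight (-a) = Equiv.addRight (b + -a) := by
      apply Equiv.ext
      intro i
      show i + -a + b = i + (b + -a)
      rw [add_assoc, add_comm (-a)]
    rw [h9]
    rfl
  · rw [mul_inv_cancel_left, hQψ]

end Main

end Cfsg.Agent.H46.X4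
end

-- part: H46/X4/Imp
section
/-!
# S2187, non-toral `E`: the move (M6), in a frame (helper46)

* `na`, `nr_na` : `x_a(t) x_{-a}(-1/t) x_a(t)` represents the reflection in `a`;
* `Ah` : homomorphisms `SL_n(k) → D.group k` with `E_ij(t) ↦ x_{ev i - ev j}(± t)`; `Ah.diag`, `Ah.cyc` : the images of
  diagonal matrices are in the torus, of cyclic monomial matrices in `N`;
* `afr_of_long` : frames of long roots from the Gram matrix;
* `imp` : the move.
-/

set_option autoImplicit false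
set_option linter.unusedSectionVars false

universe u

namespace Cfsg.Agent.H46.X4

open CoxeterSystem Cfsg Cfsg.Lie Cfsg.Lie.ChevalleyDatum
open Cfsg.Agent.ChevalleyStructure Cfsg.Agent.ChevalleyStructure.Elts Cfsg.Agent.ChevalleyStructure.CoxeterGeom
  Cfsg.Agent.ChevalleyStructure.CoxeterGeomTypes Cfsg.Agent.ChevalleyStructure.NPerm
open Cfsg.Agent.Tits.Roots Cfsg.Agent.Tits.Core Cfsg.Agent.Nodes Cfsg.Agent.Nodes.Reps Cfsg.Agent.Nodes.BNOf
  Cfsg.Agent.Nodes.SubComb Cfsg.Agent.Nodes.RGDChev Cfsg.Agent.Nodes.Bruhat Cfsg.Agent.Nodes.Coroot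
open Cfsg.Agent.KFacts.RgdField Cfsg.Agent.KFacts.RgdChevCoord
open Cfsg.Agent.BpExc Cfsg.Agent.BpExc.TorCent Cfsg.Agent.BpExc.TorChev Cfsg.Agent.BpExc.Tow
  Cfsg.Agent.BpExc.TowChev Cfsg.Agent.BpExc.Fr Cfsg.Agent.BpExc.LangFr Cfsg.Agent.BpExc.NChev
open Cfsg.Agent.H469.Exc Cfsg.Agent.H316.U6 Cfsg.Agent.H818.Gen Cfsg.Agent.H818.Mono Cfsg.Agent.H696.GmnToral
open Cfsg.Agent.H225.Gen (LL LL_rep LL_root LL_neg LL_long)
open Cfsg.Agent.H496.Mono Cfsg.Agent.H46.Gen Cfsg.Agent.H321.Ker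
open Cfsg.Agent.H818.StrP.UTab
open Matrix.SpecialLinearGroup (toGL transvection)
open scoped MatrixGroups

variable {D : ChevalleyDatum} {l : ℕ} {M : CoxeterMatrix (Fin l)} (hp : IsType D l M)

/-! ### the elements representing reflections -/

section Na

variable {k : Type u} [Field k]

/-- `x_a(t) x_{-a}(-1/t) x_a(t)` -/
noncomputable def na (v : Fin l → ℤ) (t : k) : ↥(D.group k) := xc hp v t * xc hp (-v) (-t⁻¹) * xc hp v t

theorem coe_na {s : ℕ} (hs : s < D.nroots) (t : k) :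
    ((na hp (vec D l s) t : ↥(D.group k)) : GL D.Idx k) = nG hp.inList s t := by
  unfold na
  rw [Subgroup.coe_mul, Subgroup.coe_mul, coe_xc hp hs, ← vec_neg hp hs, coe_xc hp (neg_lt hp.inList hs), nG_def,
    mul_assoc]

variable (r : ℕ) [Fact r.Prime]

theorem nr_na_aux (i : Fin l) (w : M.Group) : ∀ t : KK r, t ≠ 0 → NR hp r (rfl' M.toCoxeterSystem w i)
    (na hp (rep M.toCoxeterSystem hp.isCartan w (sr i)) t) := by
  induction w using M.toCoxeterSystem.simple_induction_left with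
  | one =>
    intro t ht
    have e1 : rfl' M.toCoxeterSystem 1 i = 1 * M.toCoxeterSystem.simple i := by unfold rfl'; group
    rw [map_one, Module.End.one_apply, e1, ← vec_simple hp i]
    have hs := simple_lt hp.inList (lt_rank hp i)
    have h1 : na hp (vec D l (D.simple i)) t = hc hp i t * nc hp (KK r) i := by
      apply Subtype.ext
      rw [coe_na hp hs, NConj.nG_eq]
      rfl
    rw [h1]
    exact nr_mul (nr_of_T (hc_mem hp i ht)) (rp_simple _ _ i)
  | mul_simple_left w j ih =>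
    intro t ht
    have hroot : IsRoot M.toCoxeterSystem hp.isCartan (rep M.toCoxeterSystem hp.isCartan w (sr i)) := ⟨w, i, rfl⟩
    obtain ⟨s, hs, e⟩ := (isRoot_iff hp M.toCoxeterSystem _).1 hroot
    obtain ⟨η, hη, h⟩ := MonomialNormal.nG_conj (F := KK r) hp.inList (SharpSign.sharp hp.inList) (lt_rank hp j) hs
    have hη2 : η * η = 1 := by rcases hη with rfl | rfl <;> norm_num
    have hη0 : η ≠ 0 := by
      rintro rfl
      rw [mul_zero] at hη2
      exact zero_ne_one hη2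
    rw [rep_mul_apply, ← e, rep_vec hp _ j hs]
    rw [← e] at ih
    have h1 : na hp (vec D l (D.reflectRoot j s)) t = nc hp (KK r) j * na hp (vec D l s) (η * t) * (nc hp (KK r) j)⁻¹ := by
      apply Subtype.ext
      rw [coe_na hp (reflectRoot_lt hp.inList (lt_rank hp j) hs), Subgroup.coe_mul, Subgroup.coe_mul, Subgroup.coe_inv,
        coe_na hp hs]
      have h2 := h (η * t)
      rw [← mul_assoc, hη2, one_mul] at h2
      exact h2.symm
    have e1 : rfl' M.toCoxeterSystem (M.toCoxeterSystem.simple j * w) i =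
        M.toCoxeterSystem.simple j * rfl' M.toCoxeterSystem w i * (M.toCoxeterSystem.simple j)⁻¹ := by
      unfold rfl'; group
    rw [h1, e1]
    exact nr_conj (ih _ (mul_ne_zero hη0 ht)) (rp_simple _ _ j)

/-- `s` is the reflection in `a` -/
def IsRfl (s : M.Group) (a : Fin l → ℤ) : Prop :=
  ∀ x, rep M.toCoxeterSystem hp.isCartan s x = x - cpr M.toCoxeterSystem hp.isCartan x a • a

theorem exists_rfl' {a : Fin l → ℤ} (ha : IsRoot M.toCoxeterSystem hp.isCartan a) : ∃ s, IsRfl hp s a := by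
  have := finite_W hp M.toCoxeterSystem
  obtain ⟨w, i, rfl⟩ := ha
  exact ⟨rfl' M.toCoxeterSystem w i, fun x => rep_rfl'_eq _ _ w i x⟩

theorem nr_na {a : Fin l → ℤ} (ha : IsRoot M.toCoxeterSystem hp.isCartan a) {s : M.Group} (hs : IsRfl hp s a)
    {t : KK r} (ht : t ≠ 0) : NR hp r s (na hp a t) := by
  have := finite_W hp M.toCoxeterSystem
  obtain ⟨w, i, rfl⟩ := ha
  have e : s = rfl' M.toCoxeterSystem w i := by
    refine rep_faithful hp M.toCoxeterSystem fun x _ => ?_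
    rw [hs, rep_rfl'_eq]
  rw [e]
  exact nr_na_aux hp r i w t ht

theorem na_mul_inv_mem {a : Fin l → ℤ} (ha : IsRoot M.toCoxeterSystem hp.isCartan a) {t u : KK r} (ht : t ≠ 0)
    (hu : u ≠ 0) : na hp a t * (na hp a u)⁻¹ ∈ TT D (KK r) := by
  obtain ⟨s, hs⟩ := exists_rfl' hp ha
  have h1 := nr_mul (nr_na hp r ha hs ht) (nr_inv (nr_na hp r ha hs hu))
  rw [mul_inv_cancel] at h1
  exact nr_mem_T h1

end Na

/-! ### the elements `w_ij(t)` of `SL_n` -/

section Wij

variable {n : ℕ} [NeZero n] {k : Type u} [Field k]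

/-- `E_ij(t) E_ji(-1/t) E_ij(t)` -/
def wij {i j : Fin n} (hij : i ≠ j) (t : kˣ) : Matrix.SpecialLinearGroup (Fin n) k :=
  transvection hij (t : k) * transvection hij.symm (-(t : k)⁻¹) * transvection hij (t : k)

theorem toGL_wij {i j : Fin n} (hij : i ≠ j) (t : kˣ) : toGL (wij (k := k) hij t) =
    mono (Equiv.swap i j) (fun m => if m = j then t else if m = i then -t⁻¹ else 1) := by
  have ht : (t : k) ≠ 0 := t.ne_zero
  apply Units.ext
  have h1 : (toGL (wij (k := k) hij t) : Matrix (Fin n) (Fin n) k) =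
      1 + Matrix.single i j (t : k) + Matrix.single j i (-(t : k)⁻¹) + Matrix.single i i (-1) + Matrix.single j j (-1) := by
    unfold wij
    rw [map_mul, map_mul, Units.val_mul, Units.val_mul, coe_transvection, coe_transvection]
    have hAA : Matrix.single i j (t : k) * Matrix.single i j (t : k) = 0 := Matrix.single_mul_single_of_ne _ _ _ _ hij.symm _
    have hAB : Matrix.single i j (t : k) * Matrix.single j i (-(t : k)⁻¹) = Matrix.single i i (-1) := by
      rw [Matrix.single_mul_single_same]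
      congr 1
      field_simp
    have hBA : Matrix.single j i (-(t : k)⁻¹) * Matrix.single i j (t : k) = Matrix.single j j (-1) := by
      rw [Matrix.single_mul_single_same]
      congr 1
      field_simp
    have hABA : Matrix.single i i (-1 : k) * Matrix.single i j (t : k) = -Matrix.single i j (t : k) := by
      rw [Matrix.single_mul_single_same, neg_one_mul, Matrix.single_neg]
    calc (1 + Matrix.single i j (t : k)) * (1 + Matrix.single j i (-(t : k)⁻¹)) * (1 + Matrix.single i j (t : k)) =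
          1 + Matrix.single i j (t : k) + Matrix.single j i (-(t : k)⁻¹) +
            Matrix.single i j (t : k) * Matrix.single j i (-(t : k)⁻¹) +
            Matrix.single j i (-(t : k)⁻¹) * Matrix.single i j (t : k) +
            Matrix.single i j (t : k) * Matrix.single i j (t : k) +
            (Matrix.single i j (t : k) * Matrix.single j i (-(t : k)⁻¹)) * Matrix.single i j (t : k) +
            Matrix.single i j (t : k) := by noncomm_ring
      _ = _ := by rw [hAA, hAB, hBA, hABA]; abel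
  rw [h1]
  ext a b
  rw [mono_coe]
  simp only [Matrix.add_apply, Matrix.one_apply, Matrix.single_apply]
  by_cases hbi : b = i
  · subst hbi
    rw [Equiv.swap_apply_left, if_neg hij, if_pos rfl]
    by_cases haj : a = j
    · subst haj
      simp [hij, hij.symm]
    · by_cases hab : a = b
      · subst hab
        simp [hij, hij.symm]
      · simp [hab, haj, Ne.symm hab, Ne.symm haj, hij.symm]
  · by_cases hbj : b = j
    · subst hbj
      rw [Equiv.swap_apply_right, if_pos rfl]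
      by_cases hai : a = i
      · subst hai
        simp [hij, hij.symm]
      · by_cases hab : a = b
        · subst hab
          simp [hij, hij.symm]
        · simp [hab, hai, Ne.symm hab, Ne.symm hai, hij]
    · rw [Equiv.swap_apply_of_ne_of_ne hbi hbj, if_neg hbj, if_neg hbi]
      by_cases hab : a = b
      · subst hab
        simp [Ne.symm hbi, Ne.symm hbj]
      · simp [hab, Ne.symm hbi, Ne.symm hbj]

/-- `w_ij(t) w_ij(1)⁻¹` is diagonal -/
theorem toGL_hij {i j : Fin n} (hij : i ≠ j) (t : kˣ) : toGL (wij (k := k) hij t * (wij hij 1)⁻¹) =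
    mono 1 (Pi.mulSingle i t * Pi.mulSingle j t⁻¹) := by
  rw [map_mul, map_inv, toGL_wij, toGL_wij, mono_inv, mono_mul, mul_inv_cancel]
  congr 1
  funext m
  rw [Equiv.swap_inv, Pi.mul_apply]
  by_cases hmi : m = i
  · subst hmi
    rw [Equiv.swap_apply_left, if_pos rfl, if_pos rfl, inv_one, mul_one, Pi.mulSingle_eq_same,
      Pi.mulSingle_eq_of_ne hij, mul_one]
  · by_cases hmj : m = j
    · subst hmj
      rw [Equiv.swap_apply_right, if_neg hij, if_pos rfl, if_neg hij, if_pos rfl, Pi.mulSingle_eq_of_ne hmi,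
        Pi.mulSingle_eq_same, one_mul, inv_one]
      simp
    · rw [Equiv.swap_apply_of_ne_of_ne hmi hmj, if_neg hmj, if_neg hmi, if_neg hmj, if_neg hmi,
        Pi.mulSingle_eq_of_ne hmi, Pi.mulSingle_eq_of_ne hmj]
      simp

/-- the diagonal matrices of determinant 1 are generated by the `h_ij(t)` -/
theorem diag_induction {K : Subgroup (Matrix.SpecialLinearGroup (Fin n) k)}
    (hK : ∀ (i j : Fin n) (hij : i ≠ j) (t : kˣ), wij hij t * (wij hij 1)⁻¹ ∈ K)
    {m : Matrix.SpecialLinearGroup (Fin n) k} {d : Fin n → kˣ} (hm : toGL m = mono 1 d) : m ∈ K := by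
  have hd : ∏ i, d i = 1 := by
    have h1 : (mono 1 d : GL (Fin n) k).1.det = 1 := by rw [← hm]; exact m.2
    have h2 : (mono 1 d : GL (Fin n) k).1 = Matrix.diagonal fun i => ((d i : kˣ) : k) := by
      ext i j
      rw [mono_coe, Matrix.diagonal_apply, Equiv.Perm.one_apply]
      by_cases h : i = j
      · rw [if_pos h, if_pos h, h]
      · rw [if_neg h, if_neg h]
    rw [h2, Matrix.det_diagonal] at h1
    apply Units.ext
    rw [Units.coe_prod, h1, Units.val_one]
  -- the subgroup of the diagonals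
  let K' : Subgroup (Fin n → kˣ) :=
    { carrier := {d | ∃ m ∈ K, toGL m = mono 1 d}
      one_mem' := ⟨1, one_mem _, by rw [map_one, ← mono_one]; rfl⟩
      mul_mem' := by
        rintro a b ⟨m, hm, h1⟩ ⟨m', hm', h2⟩
        exact ⟨m * m', mul_mem hm hm', by rw [map_mul, h1, h2, mono_mul, mul_one]; rfl⟩
      inv_mem' := by
        rintro a ⟨m, hm, h1⟩
        exact ⟨m⁻¹, inv_mem hm, by rw [map_inv, h1, mono_inv, inv_one]; rfl⟩ }
  have h1 : ∀ i : Fin n, ∀ t : kˣ, (Pi.mulSingle i t * Pi.mulSingle 0 t⁻¹ : Fin n → kˣ) ∈ K' := by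
    intro i t
    by_cases hi : i = 0
    · rw [hi, ← Pi.mulSingle_mul, mul_inv_cancel, Pi.mulSingle_one]
      exact one_mem _
    · exact ⟨_, hK i 0 hi t, toGL_hij hi t⟩
  have h2 : d = ∏ i, (Pi.mulSingle i (d i) * Pi.mulSingle 0 (d i)⁻¹ : Fin n → kˣ) := by
    rw [Finset.prod_mul_distrib, Finset.univ_prod_mulSingle]
    have h3 : ∏ i, (Pi.mulSingle 0 (d i)⁻¹ : Fin n → kˣ) = 1 := by
      have h4 := map_prod (MonoidHom.mulSingle (fun _ : Fin n => kˣ) 0) (fun i => (d i)⁻¹) Finset.univ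
      rw [Finset.prod_inv_distrib, hd, inv_one, map_one] at h4
      exact h4.symm
    rw [h3, mul_one]
  have h3 : d ∈ K' := by
    rw [h2]
    exact prod_mem fun i _ => h1 i _
  obtain ⟨m', hm', h4⟩ := h3
  have : m = m' := toGL_inj' (hm.trans h4.symm)
  rwa [this]

end Wij

/-! ### homomorphisms `SL_n(k) → D.group k` of frames -/

section Ah

variable {k : Type u} [Field k]

/-- `ψ` maps `E_ij(t)` to `x_{ev i - ev j}(± t)` -/
structure Ah {n : ℕ} (ψ : Matrix.SpecialLinearGroup (Fin n) k →* ↥(D.group k)) (ev : Fin n → Fin l → ℤ)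
    (s : Fin n → Fin n → k) : Prop where
  tr : ∀ (i j : Fin n) (hij : i ≠ j) (t : k), ψ (transvection hij t) = xc hp (ev i - ev j) (s i j * t)
  rt : ∀ i j, i ≠ j → IsRoot M.toCoxeterSystem hp.isCartan (ev i - ev j)
  sq : ∀ i j, i ≠ j → s i j * s i j = 1
  symm : ∀ i j, i ≠ j → s j i = s i j

variable {hp} {n : ℕ} {ψ : Matrix.SpecialLinearGroup (Fin n) k →* ↥(D.group k)} {ev : Fin n → Fin l → ℤ}
    {s : Fin n → Fin n → k}

theorem Ah.ne_zero (A : Ah hp ψ ev s) {i j : Fin n} (hij : i ≠ j) : s i j ≠ 0 := by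
  intro h0
  have := A.sq i j hij
  rw [h0, mul_zero] at this
  exact zero_ne_one this

theorem Ah.wij (A : Ah hp ψ ev s) {i j : Fin n} (hij : i ≠ j) (t : kˣ) :
    ψ (wij hij t) = na hp (ev i - ev j) (s i j * t) := by
  unfold X4.wij na
  rw [map_mul, map_mul, A.tr, A.tr, A.symm i j hij, neg_sub]
  congr 3
  have h1 : (s i j)⁻¹ = s i j := inv_eq_of_mul_eq_one_left (A.sq i j hij)
  rw [mul_inv, h1, mul_neg]

theorem Ah.inj (A : Ah hp ψ ev s) {i j : Fin n} (hij : i ≠ j) : Function.Injective fun t : k => ψ (transvection hij t) := by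
  intro t u htu
  beta_reduce at htu
  rw [A.tr, A.tr] at htu
  obtain ⟨a, ha, e⟩ := (isRoot_iff hp M.toCoxeterSystem _).1 (A.rt i j hij)
  rw [← e] at htu
  exact mul_left_cancel₀ (A.ne_zero hij) (xc_inj hp ha htu)

end Ah

section AhK

variable {hp} {r : ℕ} [Fact r.Prime] {n : ℕ} {ψ : Matrix.SpecialLinearGroup (Fin n) (KK r) →* ↥(D.group (KK r))}
  {ev : Fin n → Fin l → ℤ} {s : Fin n → Fin n → KK r}

theorem Ah.diag [NeZero n] (A : Ah hp ψ ev s) {m : Matrix.SpecialLinearGroup (Fin n) (KK r)} {d : Fin n → (KK r)ˣ}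
    (hm : toGL m = mono 1 d) : ψ m ∈ TT D (KK r) := by
  refine diag_induction (K := (TT D (KK r)).comap ψ) (fun i j hij t => ?_) hm
  rw [Subgroup.mem_comap, map_mul, map_inv, A.wij, A.wij]
  exact na_mul_inv_mem hp r (A.rt i j hij) (mul_ne_zero (A.ne_zero hij) t.ne_zero)
    (mul_ne_zero (A.ne_zero hij) (Units.ne_zero _))

theorem Ah.nr_wij (A : Ah hp ψ ev s) {i j : Fin n} (hij : i ≠ j) {w : M.Group} (hw : IsRfl hp w (ev i - ev j))
    (t : (KK r)ˣ) : NR hp r w (ψ (X4.wij hij t)) := by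
  rw [A.wij]
  exact nr_na hp r (A.rt i j hij) hw (mul_ne_zero (A.ne_zero hij) t.ne_zero)

variable {p : ℕ} [hpp : Fact p.Prime] [NeZero p] {ψ : Matrix.SpecialLinearGroup (Fin p) (KK r) →* ↥(D.group (KK r))}
  {ev : Fin p → Fin l → ℤ} {s : Fin p → Fin p → KK r}

theorem pow_cyc {m₀ : Matrix.SpecialLinearGroup (Fin p) (KK r)} {d₀ : Fin p → (KK r)ˣ}
    (hm₀ : toGL m₀ = mono (Equiv.addRight (1 : Fin p)) d₀) (b : ℕ) :
    ∃ d, toGL (m₀ ^ b) = mono (Equiv.addRight (Fin.ofNat p b)) d := by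
  induction b with
  | zero =>
    refine ⟨fun _ => 1, ?_⟩
    have : Fin.ofNat p 0 = (0 : Fin p) := by apply Fin.ext; rw [Fin.val_ofNat, Nat.zero_mod, Fin.val_zero]
    rw [pow_zero, map_one, this, addRight_zero, mono_one]
  | succ b ih =>
    obtain ⟨d, hd⟩ := ih
    refine ⟨_, by
      rw [pow_succ, map_mul, hd, hm₀, mono_mul]
      have h3 : (Fin.ofNat p (b + 1) : Fin p) = Fin.ofNat p b + 1 := by
        apply Fin.ext
        rw [val_succ', Fin.val_ofNat, Fin.val_ofNat, Nat.mod_add_mod]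
      have h1 : Equiv.addRight (Fin.ofNat p b) * Equiv.addRight (1 : Fin p) = Equiv.addRight (Fin.ofNat p (b + 1)) := by
        apply Equiv.ext
        intro i
        show i + 1 + Fin.ofNat p b = i + Fin.ofNat p (b + 1)
        rw [h3, add_assoc, add_comm (1 : Fin p)]
      rw [h1]⟩

theorem Ah.cyc (A : Ah hp ψ ev s) {m₀ : Matrix.SpecialLinearGroup (Fin p) (KK r)} {d₀ : Fin p → (KK r)ˣ}
    (hm₀ : toGL m₀ = mono (Equiv.addRight (1 : Fin p)) d₀) {ρ : M.Group} (hρ : NR hp r ρ (ψ m₀))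
    {m : Matrix.SpecialLinearGroup (Fin p) (KK r)} {b : Fin p} {d : Fin p → (KK r)ˣ}
    (hm : toGL m = mono (Equiv.addRight b) d) : NR hp r (ρ ^ (b : ℕ)) (ψ m) := by
  obtain ⟨d', hd'⟩ := pow_cyc hm₀ b
  have hb : Fin.ofNat p (b : ℕ) = b := Fin.ext (by rw [Fin.val_ofNat]; exact Nat.mod_eq_of_lt b.2)
  rw [hb] at hd'
  have h1 : toGL (m * (m₀ ^ (b : ℕ))⁻¹) = mono 1 fun j => d ((Equiv.addRight b)⁻¹ j) * (d' ((Equiv.addRight b)⁻¹ j))⁻¹ := by
    rw [map_mul, map_inv, hm, hd', mono_inv, mono_mul, mul_inv_cancel]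
  have h2 := nr_mul (nr_of_T (hp := hp) (A.diag h1)) (nr_pow hρ (b : ℕ))
  rw [one_mul, ← map_pow, ← map_mul, inv_mul_cancel_right] at h2
  exact h2

end AhK

/-! ### frames -/

section Frame

variable {hp}

include hp in
theorem sgn_symm {n : ℕ} {ev : Fin (n + 1) → Fin l → ℤ} (h : AFr D l ev) {i j : Fin (n + 1)} (hij : i ≠ j) :
    sgn D l ev j i = sgn D l ev i j := by
  by_cases hi : i = 0
  · rw [hi, sgn_zero_left, sgn_zero_right]
  by_cases hj : j = 0
  · rw [hj, sgn_zero_left, sgn_zero_right]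
  rw [sgn_of_ne hj hi, sgn_of_ne hi hj]
  have hP := h.pr 0 i j (Ne.symm hi) hij (Ne.symm hj)
  have h1 := NN_cyc hp hP
  have h2 := NN_cyc hp (hP.cyc hp)
  have h3 := NN_neg hp ((hP.cyc hp).cyc hp)
  rw [h2, h1] at h3
  have e1 : -(-(ev 0 - ev i + (ev i - ev j))) = ev 0 - ev j := by module
  have e2 : -(ev 0 - ev i + (ev i - ev j)) + -(ev i - ev j + -(ev 0 - ev i + (ev i - ev j))) = ev j - ev i := by module
  rw [e1, e2] at h3
  exact h3

variable {r : ℕ} [Fact r.Prime]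

theorem exists_ah {n : ℕ} (hn : 2 ≤ n) {ev : Fin (n + 1) → Fin l → ℤ} (h : AFr D l ev) :
    ∃ ψ : Matrix.SpecialLinearGroup (Fin (n + 1)) (KK r) →* ↥(D.group (KK r)),
      Ah hp ψ ev (fun i j => (sgn D l ev i j : KK r)) := by
  obtain ⟨ψ, hψ, -⟩ := exists_hom_afr (k := KK r) hp h hn (locFin r)
  refine ⟨ψ, fun i j hij t => hψ i j hij t, fun i j hij => (rt_iff hp _).1 (h.rt i j hij), fun i j hij => ?_,
    fun i j hij => ?_⟩
  · rw [← Int.cast_mul, sgn_sq hp h hij, Int.cast_one]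
  · rw [sgn_symm (hp := hp) h hij]

theorem exists_ah_sub {p : ℕ} (hp3 : 3 ≤ p) {ev : Fin (p + 1) → Fin l → ℤ} (h : AFr D l ev) :
    ∃ ψ : Matrix.SpecialLinearGroup (Fin p) (KK r) →* ↥(D.group (KK r)),
      Ah hp ψ (fun i => ev i.castSucc) (fun i j => (sgn D l ev i.castSucc j.castSucc : KK r)) := by
  obtain ⟨m, rfl⟩ : ∃ m, p = m + 1 := ⟨p - 1, by omega⟩
  have hS := steinRel (k := KK r) hp h
  have hcs := Fin.castSucc_injective (m + 1)
  have hS' : Cfsg.Agent.AGraded.SteinRel (fun (i j : Fin (m + 1)) (t : KK r) => xf hp ev i.castSucc j.castSucc t) :=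
    ⟨fun i j hij a b => hS.add _ _ (hcs.ne hij) a b,
      fun i j k l hij hkl hjk hil a b => hS.comm _ _ _ _ (hcs.ne hij) (hcs.ne hkl) (hcs.ne hjk) (hcs.ne hil) a b,
      fun i j k hij hjk hik a b => hS.br _ _ _ (hcs.ne hij) (hcs.ne hjk) (hcs.ne hik) a b⟩
  obtain ⟨ψ, hψ, -⟩ := exists_hom_loc (locFin r) hS' (by omega)
  refine ⟨ψ, fun i j hij t => hψ i j hij t, fun i j hij => (rt_iff hp _).1 (h.rt _ _ (hcs.ne hij)), fun i j hij => ?_,
    fun i j hij => ?_⟩
  · rw [← Int.cast_mul, sgn_sq hp h (hcs.ne hij), Int.cast_one]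
  · rw [sgn_symm (hp := hp) h (hcs.ne hij)]

/-- the action of a frame automorphism -/
theorem Ah.act {n : ℕ} {ψ : Matrix.SpecialLinearGroup (Fin n) (KK r) →* ↥(D.group (KK r))} {ev : Fin n → Fin l → ℤ}
    {s : Fin n → Fin n → KK r} (A : Ah hp ψ ev s) {e : ℕ} {σ : MulAut ↥(D.group (KK r))}
    {g : (Fin l → ℤ) ≃+ (Fin l → ℤ)} (hσ : IsFrob r e σ)
    (F : Fr M.toCoxeterSystem hp.isCartan (TT D (KK r)) (XX D l (KK r)) σ g) {i j i' j' : Fin n} (hij : i ≠ j)
    (hij' : i' ≠ j') (hg : g (ev i - ev j) = ev i' - ev j') : ∃ c : KK r, c ≠ 0 ∧ ∀ t,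
      σ (ψ (transvection hij t)) = ψ (transvection hij' (c * t ^ r ^ e)) := by
  obtain ⟨c, hc, h⟩ := HX.fr_xc hp M.toCoxeterSystem hσ F (A.rt i j hij)
  refine ⟨s i' j' * (c * s i j ^ r ^ e), mul_ne_zero (A.ne_zero hij') (mul_ne_zero hc (pow_ne_zero _ (A.ne_zero hij))),
    fun t => ?_⟩
  rw [A.tr, A.tr, h, hg]
  congr 1
  have h1 := A.sq i' j' hij'
  rw [mul_pow]
  calc c * (s i j ^ r ^ e * t ^ r ^ e) = 1 * (c * s i j ^ r ^ e * t ^ r ^ e) := by ring
    _ = _ := by rw [← h1]; ring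

end Frame

/-! ### the move -/

section Imp

variable {r : ℕ} [Fact r.Prime] {p : ℕ} [hpp : Fact p.Prime] [NeZero p]

/-- the cycle of `Fin (p + 1)` fixing the last element -/
def cycLast (p : ℕ) [NeZero p] : Equiv.Perm (Fin (p + 1)) :=
  finSuccEquivLast.trans ((Equiv.optionCongr (Equiv.addRight (1 : Fin p))).trans finSuccEquivLast.symm)

theorem cycLast_castSucc (i : Fin p) : cycLast p i.castSucc = (i + 1).castSucc := by
  simp [cycLast]

theorem cycLast_last : cycLast p (Fin.last p) = Fin.last p := by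
  simp [cycLast]

theorem exists_coef {n : ℕ} {k : Type*} [Field k] {P : ∀ i j : Fin n, i ≠ j → k → k → Prop}
    (h : ∀ i j (hij : i ≠ j), ∃ c : k, c ≠ 0 ∧ ∀ t, P i j hij c t) :
    ∃ s : Fin n → Fin n → k, (∀ i j, i ≠ j → s i j ≠ 0) ∧ ∀ i j (hij : i ≠ j) t, P i j hij (s i j) t := by
  classical
  choose c hc0 hc using h
  refine ⟨fun i j => if hij : i ≠ j then c i j hij else 1, fun i j hij => ?_, fun i j hij t => ?_⟩
  · beta_reduce; rw [dif_pos hij]; exact hc0 i j hij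
  · beta_reduce; rw [dif_pos hij]; exact hc i j hij t

theorem exists_omega (r : ℕ) [Fact r.Prime] (hpr : p ≠ r) : ∃ ω : (KK r)ˣ, orderOf ω = p := by
  have h1 : ((p : ℕ) : KK r) ≠ 0 := by
    rw [Ne, CharP.cast_eq_zero_iff (KK r) r]
    intro h
    exact hpr ((Nat.prime_dvd_prime_iff_eq (Fact.out : r.Prime) hpp.1).1 h).symm
  have : NeZero ((p : ℕ) : KK r) := ⟨h1⟩
  obtain ⟨ω, hω⟩ := HasEnoughRootsOfUnity.exists_primitiveRoot (KK r) p
  have hu : IsUnit ω := hω.isUnit hpp.1.ne_zero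
  refine ⟨hu.unit, ?_⟩
  rw [← orderOf_units, IsUnit.unit_spec]
  exact hω.eq_orderOf.symm

variable {hp} {e : ℕ} {τ : MulAut ↥(D.group (KK r))}
  {γ : (Fin l → ℤ) ≃+ (Fin l → ℤ)} {E H : Subgroup ↥(D.group (KK r))}

/-- **The move.** -/
theorem imp (h2 : p ≠ 2) (hpr : p ≠ r) (S : Sit hp r p e τ γ E H) {ε : ℤ} (hε : Eps p (r ^ e) ε)
    {f : ↥(D.group (KK r))} (hf : f ∈ E) {w : M.Group} (hw : NR hp r w f) {ev : Fin (p + 1) → Fin l → ℤ}
    (hev : AFr D l ev)
    (hwe : ∀ i : Fin p, rep M.toCoxeterSystem hp.isCartan w (ev i.castSucc) = ev (i + 1).castSucc)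
    (hl : ev (Fin.last p) = 0) (hγ : ∀ i, γ (ev i) = ε • ev i)
    (hst : ∀ v ∈ VE hp r E, ∃ a : Fin p, ∀ i : Fin p,
      rep M.toCoxeterSystem hp.isCartan v (ev i.castSucc - ev (i + 1).castSucc) =
        ev (i + a).castSucc - ev (i + a + 1).castSucc)
    {ρ : M.Group} {m₀ : Matrix.SpecialLinearGroup (Fin p) (KK r)} {d₀ : Fin p → (KK r)ˣ}
    (hm₀ : toGL m₀ = mono (Equiv.addRight (1 : Fin p)) d₀)
    (hρ : ∀ ψ s, Ah hp ψ (fun i : Fin p => ev i.castSucc) s → NR hp r ρ (ψ m₀)) :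
    ∃ y : ↥(D.group (KK r)), y⁻¹ * τ y ∈ TT D (KK r) ∧ (∀ x ∈ E, ∃ v, NR hp r v (y⁻¹ * x * y)) ∧
      (∀ x ∈ E, x ∈ TT D (KK r) → y⁻¹ * x * y ∈ TT D (KK r)) ∧ NR hp r (ρ⁻¹ * w) (y⁻¹ * f * y) := by
  have hn : 3 ≤ p := by have := hpp.1.two_le; omega
  have hcs := Fin.castSucc_injective p
  obtain ⟨ω, hω⟩ := exists_omega (p := p) r hpr
  obtain ⟨ψ', A'⟩ := exists_ah (hp := hp) (r := r) (by omega : 2 ≤ p) hev
  obtain ⟨ψ, A⟩ := exists_ah_sub (hp := hp) (r := r) hn hev
  have hψ : ∀ (i j : Fin p) (hij : i ≠ j) (t : KK r),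
      ψ (transvection hij t) = ψ' (transvection (hcs.ne hij) t) := fun i j hij t => by
    rw [A.tr, A'.tr]
  have hNRρ := hρ ψ _ A
  -- the action of `f`
  have hwev : ∀ i j : Fin (p + 1), rep M.toCoxeterSystem hp.isCartan w (ev i - ev j) =
      ev (cycLast p i) - ev (cycLast p j) := by
    have h3 : ∀ i : Fin (p + 1), rep M.toCoxeterSystem hp.isCartan w (ev i) = ev (cycLast p i) := by
      intro i
      induction i using Fin.lastCases with
      | last => rw [cycLast_last, hl, map_zero]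
      | cast i => rw [cycLast_castSucc, hwe]
    intro i j
    rw [map_sub, h3, h3]
  obtain ⟨c, hc0, hc⟩ := exists_coef (P := fun (i j : Fin (p + 1)) hij c t =>
      f * ψ' (transvection hij t) * f⁻¹ = ψ' (transvection ((cycLast p).injective.ne hij) (c * t)))
    (fun i j hij => by
      obtain ⟨c, hc, h3⟩ := A'.act (IsFrob.conj (p := r) f) (nr_frame hw) hij ((cycLast p).injective.ne hij) (hwev i j)
      refine ⟨c, hc, fun t => ?_⟩
      have h4 := h3 t
      rw [pow_zero, pow_one] at h4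
      exact h4)
  -- the action of `τ`
  have hτ : ∃ s : Fin (p + 1) → Fin (p + 1) → KK r, (∀ i j, i ≠ j → s i j ≠ 0) ∧
      ((ω ^ r ^ e = ω ∧ ∀ (i j : Fin (p + 1)) (hij : i ≠ j) (t : KK r),
        τ.toMonoidHom (ψ' (transvection hij t)) = ψ' (transvection hij (s i j * t ^ r ^ e))) ∨
      (ω ^ (r ^ e + 1) = 1 ∧ ∀ (i j : Fin (p + 1)) (hij : i ≠ j) (t : KK r),
        τ.toMonoidHom (ψ' (transvection hij t)) = ψ' (transvection hij.symm (s i j * t ^ r ^ e)))) := by
    obtain ⟨hε1, hε2⟩ := hε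
    rcases hε1 with rfl | rfl
    · obtain ⟨s, hs0, hs⟩ := exists_coef (P := fun (i j : Fin (p + 1)) hij c t =>
        τ.toMonoidHom (ψ' (transvection hij t)) = ψ' (transvection hij (c * t ^ r ^ e)))
        (fun i j hij => A'.act S.frob S.fr hij hij (by rw [map_sub, hγ, hγ, one_smul, one_smul]))
      refine ⟨s, hs0, Or.inl ⟨?_, hs⟩⟩
      have h3 : r ^ e ≡ 1 [MOD p] := by
        rw [← Int.natCast_modEq_iff]
        exact (Int.modEq_iff_dvd.2 (by rw [Nat.cast_one]; exact hε2)).symm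
      have h4 : ω ^ r ^ e = ω ^ 1 := by rw [pow_eq_pow_iff_modEq, hω]; exact h3
      rw [h4, pow_one]
    · obtain ⟨s, hs0, hs⟩ := exists_coef (P := fun (i j : Fin (p + 1)) hij c t =>
        τ.toMonoidHom (ψ' (transvection hij t)) = ψ' (transvection hij.symm (c * t ^ r ^ e)))
        (fun i j hij => A'.act S.frob S.fr hij hij.symm (by rw [map_sub, hγ, hγ]; module))
      refine ⟨s, hs0, Or.inr ⟨?_, hs⟩⟩
      rw [sub_neg_eq_add] at hε2
      rw [← orderOf_dvd_iff_pow_eq_one, hω]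
      exact_mod_cast hε2
  obtain ⟨s, hs0, hτ⟩ := hτ
  obtain ⟨g, P, y, T₀, hP, hfP, hT₀, ⟨d, hd⟩, hy⟩ := imp_alg h2 hω (fun i j hij => A'.inj hij) hψ (S.el.2 f hf)
    (π' := cycLast p) cycLast_castSucc cycLast_last hc0 hc (τ := τ.toMonoidHom) (S.fix f hf) hs0 hτ
  refine ⟨ψ y, ?_, ?_, ?_, ?_⟩
  · have h3 : (ψ y)⁻¹ * τ (ψ y) = ψ (y⁻¹ * T₀ y) := by
      rw [map_mul, map_inv]
      congr 1
      exact hT₀ y
    rw [h3]
    exact A.diag hd
  · -- all elements of `E`
    intro x hx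
    obtain ⟨v, hv⟩ := S.nrm x hx
    obtain ⟨a, ha⟩ := hst v ⟨x, hx, hv⟩
    have ha' : ∀ i j : Fin p, rep M.toCoxeterSystem hp.isCartan v (ev i.castSucc - ev j.castSucc) =
        ev (i + a).castSucc - ev (j + a).castSucc := by
      intro i
      have h3 : ∀ n : ℕ, rep M.toCoxeterSystem hp.isCartan v (ev i.castSucc - ev (i + Fin.ofNat p n).castSucc) =
          ev (i + a).castSucc - ev (i + Fin.ofNat p n + a).castSucc := by
        intro n
        induction n with
        | zero =>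
          have : Fin.ofNat p 0 = (0 : Fin p) := by apply Fin.ext; rw [Fin.val_ofNat, Nat.zero_mod, Fin.val_zero]
          rw [this, add_zero, sub_self, sub_self, map_zero]
        | succ n ih =>
          have h4 : (i + Fin.ofNat p (n + 1) : Fin p) = i + Fin.ofNat p n + 1 := by
            have h5 : (Fin.ofNat p (n + 1) : Fin p) = Fin.ofNat p n + 1 := by
              apply Fin.ext
              rw [val_succ', Fin.val_ofNat, Fin.val_ofNat, Nat.mod_add_mod]
            rw [h5, add_assoc]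
          have h6 := ha (i + Fin.ofNat p n)
          have h7 : ev i.castSucc - ev (i + Fin.ofNat p n + 1).castSucc =
              (ev i.castSucc - ev (i + Fin.ofNat p n).castSucc) +
                (ev (i + Fin.ofNat p n).castSucc - ev (i + Fin.ofNat p n + 1).castSucc) := by module
          rw [h4, h7, map_add, ih, h6, add_right_comm _ a 1]
          module
      intro j
      have h4 := h3 ((j - i : Fin p) : ℕ)
      have h5 : Fin.ofNat p ((j - i : Fin p) : ℕ) = j - i :=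
        Fin.ext (by rw [Fin.val_ofNat]; exact Nat.mod_eq_of_lt (j - i).2)
      rw [h5, add_sub_cancel] at h4
      exact h4
    obtain ⟨c', hc0', hc'⟩ := exists_coef (P := fun (i j : Fin p) hij c t =>
        x * ψ (transvection hij t) * x⁻¹ = ψ (transvection ((Equiv.addRight a).injective.ne hij) (c * t)))
      (fun i j hij => by
        obtain ⟨c, hc, h3⟩ := A.act (IsFrob.conj (p := r) x) (nr_frame hv) hij ((Equiv.addRight a).injective.ne hij)
          (ha' i j)
        refine ⟨c, hc, fun t => ?_⟩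
        have h4 := h3 t
        rw [pow_zero, pow_one] at h4
        exact h4)
    obtain ⟨m, b, d', hm, hmx⟩ := imp_other r h2 hω (fun i j hij => A.inj hij) hfP hy (comm_E S hx hf) hc0' hc'
    have h3 : (ψ y)⁻¹ * x * ψ y = ψ m * x := by
      rw [map_mul] at hmx
      calc (ψ y)⁻¹ * x * ψ y = (ψ y)⁻¹ * (x * ψ y * x⁻¹) * x := by group
        _ = _ := by rw [hmx]; group
    rw [h3]
    exact ⟨_, nr_mul (A.cyc hm₀ hNRρ hm) hv⟩
  · -- the elements of the torus
    intro x hx hxT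
    have h3 : ∀ g, x * ψ g = ψ g * x := by
      obtain ⟨φ, hφ0, hφ, hφc⟩ := chAddL hp M.toCoxeterSystem (locFin r) r x hxT
      have hroot : ∀ i : Fin p, IsRoot M.toCoxeterSystem hp.isCartan (ev i.castSucc) := by
        intro i
        have h4 := hev.rt i.castSucc (Fin.last p) (Fin.castSucc_lt_last i).ne
        rw [hl, sub_zero] at h4
        exact (rt_iff hp _).1 h4
      have h4 : ∀ i : Fin p, φ (ev (i + 1).castSucc) = φ (ev i.castSucc) := by
        intro i
        have h5 := fr_ch hp M.toCoxeterSystem (locFin r) (IsFrob.conj (p := r) f) (nr_frame hw) (hroot i) hxT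
        have h6 : MulAut.conj f x = x := by
          rw [MulAut.conj_apply, comm_E S hf hx, mul_inv_cancel_right]
        rw [h6, pow_zero, pow_one, repAut_apply, hwe] at h5
        rw [← hφc _ (hroot _), ← hφc _ (hroot _), h5]
      have h5 : ∀ i : Fin p, φ (ev i.castSucc) = φ (ev (0 : Fin p).castSucc) := by
        have h6 : ∀ n : ℕ, φ (ev (Fin.ofNat p n).castSucc) = φ (ev (0 : Fin p).castSucc) := by
          intro n
          induction n with
          | zero =>
            have : Fin.ofNat p 0 = (0 : Fin p) := by apply Fin.ext; rw [Fin.val_ofNat, Nat.zero_mod, Fin.val_zero]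
            rw [this]
          | succ n ih =>
            have h5 : (Fin.ofNat p (n + 1) : Fin p) = Fin.ofNat p n + 1 := by
              apply Fin.ext
              rw [val_succ', Fin.val_ofNat, Fin.val_ofNat, Nat.mod_add_mod]
            rw [h5, h4, ih]
        intro i
        have h7 := h6 (i : ℕ)
        have h8 : Fin.ofNat p (i : ℕ) = i := Fin.ext (by rw [Fin.val_ofNat]; exact Nat.mod_eq_of_lt i.2)
        rwa [h8] at h7
      have h6 : ∀ i j : Fin p, i ≠ j → ch hp (ev i.castSucc - ev j.castSucc) x = 1 := by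
        intro i j hij
        rw [hφc _ (A.rt i j hij)]
        have h7 := hφ (ev i.castSucc - ev j.castSucc) (ev j.castSucc)
        rw [sub_add_cancel, h5 i, h5 j] at h7
        have h8 : φ (ev (0 : Fin p).castSucc) ≠ 0 := by
          rw [← hφc _ (hroot _)]
          exact ch_ne_zero hp M.toCoxeterSystem (locFin r) r (hroot _) hxT
        exact mul_right_cancel₀ h8 (by rw [one_mul]; exact h7.symm)
      have h7 : (MulAut.conj x).toMonoidHom.comp ψ = ψ := by
        refine hom_ext_transvection hn fun i j hij t => ?_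
        show x * ψ (transvection hij t) * x⁻¹ = _
        rw [A.tr, ch_comm hp M.toCoxeterSystem (locFin r) r (A.rt i j hij) hxT, h6 i j hij, one_mul]
      intro g
      have h8 := DFunLike.congr_fun h7 g
      have h9 : x * ψ g * x⁻¹ = ψ g := h8
      rw [mul_inv_eq_iff_eq_mul] at h9
      exact h9
    rw [mul_assoc, h3, inv_mul_cancel_left]
    exact hxT
  · have h3 : (ψ y)⁻¹ * f * ψ y = ψ (y⁻¹ * P * y) * (ψ P)⁻¹ * f := by
      have h4 := hfP y
      calc (ψ y)⁻¹ * f * ψ y = (ψ y)⁻¹ * (f * ψ y * f⁻¹) * f := by group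
        _ = _ := by rw [h4, ← map_inv, ← map_inv, ← map_mul, ← map_mul]; group
    rw [h3, mul_assoc]
    have h4 : toGL (y⁻¹ * P * y) = mono 1 (fun i => ω ^ (i : ℕ)) := by
      rw [map_mul, map_mul, map_inv, hy]; rfl
    have h5 := nr_of_T (hp := hp) (A.diag h4)
    have h6 : NR hp r ρ (ψ P) := by
      have h7 : ((1 : Fin p) : ℕ) = 1 := by rw [Fin.val_one', Nat.mod_eq_of_lt (by omega)]
      have h8 := A.cyc hm₀ hNRρ hP
      rwa [h7, pow_one] at h8
    have h7 := nr_mul h5 (nr_mul (nr_inv h6) hw)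
    rwa [one_mul] at h7

end Imp

/-! ### frames of long roots -/

section Long

variable (h : HiList D)

include h in
/-- pairs of long roots -/
theorem pr_of_long {a b : Fin l → ℤ} (ha : a ∈ LL M.toCoxeterSystem hp) (hb : b ∈ LL M.toCoxeterSystem hp)
    (h1 : cpr M.toCoxeterSystem hp.isCartan a b = -1) (h2 : cpr M.toCoxeterSystem hp.isCartan b a = -1) : Pr D l a b := by
  have := finite_W hp M.toCoxeterSystem
  have hL := LL_long h hp M.toCoxeterSystem
  have har := LL_root h _ _ ha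
  have hbr := LL_root h _ _ hb
  refine ⟨(rt_iff hp _).2 har, (rt_iff hp _).2 hbr, ?_, fun h3 => ?_, fun h3 => ?_, fun h3 => ?_⟩
  · have h3 := isRoot_refl M.toCoxeterSystem hp.isCartan har hbr
    rw [h1, neg_one_smul, sub_neg_eq_add] at h3
    exact (rt_iff hp _).2 h3
  · have h4 := hL.le a ha (-(b - a)) ((rt_iff hp _).1 h3).neg (fun e => hbr.ne_zero (by
      have : b = a + -(-(b - a)) := by module
      rw [this, e, add_neg_cancel]))
    rw [cpr_neg M.toCoxeterSystem hp.isCartan _ har, sub_eq_add_neg, cpr_add M.toCoxeterSystem hp.isCartan _ _ har,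
      cpr_neg M.toCoxeterSystem hp.isCartan _ har, cpr_self M.toCoxeterSystem hp.isCartan har, h2] at h4
    norm_num at h4
  · have h4 := hL.le a ha _ ((rt_iff hp _).1 h3) (fun e => by
      have e1 : b = -a := by
        have : b = (b + (2 : ℤ) • a) - (2 : ℤ) • a := by module
        rw [this, e]; module
      rw [e1, cpr_neg M.toCoxeterSystem hp.isCartan _ har, cpr_self M.toCoxeterSystem hp.isCartan har] at h2
      norm_num at h2)
    rw [cpr_add M.toCoxeterSystem hp.isCartan _ _ har, cpr_smul M.toCoxeterSystem hp.isCartan _ _ har,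
      cpr_self M.toCoxeterSystem hp.isCartan har, h2] at h4
    norm_num at h4
  · have h4 := hL.le b hb _ ((rt_iff hp _).1 h3) (fun e => by
      have e1 : a = -b := by
        have : a = (a + (2 : ℤ) • b) - (2 : ℤ) • b := by module
        rw [this, e]; module
      rw [e1, cpr_neg M.toCoxeterSystem hp.isCartan _ hbr, cpr_self M.toCoxeterSystem hp.isCartan hbr] at h1
      norm_num at h1)
    rw [cpr_add M.toCoxeterSystem hp.isCartan _ _ hbr, cpr_smul M.toCoxeterSystem hp.isCartan _ _ hbr,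
      cpr_self M.toCoxeterSystem hp.isCartan hbr, h1] at h4
    norm_num at h4

include h in
/-- frames of long roots from the Gram matrix -/
theorem afr_of_long [Fintype M.Group] {n : ℕ} {ev : Fin n → Fin l → ℤ} {F : ℤ}
    (hR : ∀ i j, i ≠ j → ev i - ev j ∈ LL M.toCoxeterSystem hp)
    (hB : ∀ i j p q, 2 * form M.toCoxeterSystem hp.isCartan (ev i - ev j) (ev p - ev q) = F * dl4 i j p q) :
    AFr D l ev := by
  have hL := LL_long h hp M.toCoxeterSystem
  have hR' : ∀ i j, i ≠ j → IsRoot M.toCoxeterSystem hp.isCartan (ev i - ev j) := fun i j hij => LL_root h _ _ (hR i j hij)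
  have hc : ∀ i j p q, p ≠ q → cpr M.toCoxeterSystem hp.isCartan (ev i - ev j) (ev p - ev q) = dl4 i j p q := by
    intro i j p q hpq
    apply cpr_eq_of_form M.toCoxeterSystem hp.isCartan (hR' p q hpq)
    rw [hB]
    have h1 := hB p q p q
    have h2 : dl4 p q p q = 2 := by unfold dl4; simp [hpq, Ne.symm hpq]
    rw [h2] at h1
    have h3 : form M.toCoxeterSystem hp.isCartan (ev p - ev q) (ev p - ev q) = F := by linarith
    rw [h3, mul_comm]
  refine ⟨fun i j hij => (rt_iff hp _).2 (hR' i j hij), fun i j p hij hjp hip => ?_,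
    fun i j p q hij hpq hjp hiq hip hjq => ⟨fun e => ?_, fun m n' hm hn hx => ?_⟩⟩
  · refine pr_of_long hp h (hR i j hij) (hR j p hjp) ?_ ?_
    · rw [hc i j j p hjp]; unfold dl4; simp [hij, hip, hjp]
    · rw [hc j p i j hij]; unfold dl4; simp [Ne.symm hij, Ne.symm hip, Ne.symm hjp]
  · have h1 := hc p q i j hij
    rw [e, cpr_neg M.toCoxeterSystem hp.isCartan _ (hR' i j hij), cpr_self M.toCoxeterSystem hp.isCartan (hR' i j hij)] at h1
    unfold dl4 at h1
    simp [Ne.symm hip, Ne.symm hjp, Ne.symm hiq, Ne.symm hjq] at h1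
  · have hx' := (rt_iff hp M.toCoxeterSystem).1 hx
    have h1 : cpr M.toCoxeterSystem hp.isCartan ((m : ℤ) • (ev i - ev j) + (n' : ℤ) • (ev p - ev q)) (ev i - ev j) =
        2 * m := by
      rw [cpr_add M.toCoxeterSystem hp.isCartan _ _ (hR' i j hij), cpr_smul M.toCoxeterSystem hp.isCartan _ _ (hR' i j hij),
        cpr_smul M.toCoxeterSystem hp.isCartan _ _ (hR' i j hij), cpr_self M.toCoxeterSystem hp.isCartan (hR' i j hij),
        hc p q i j hij]
      unfold dl4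
      simp [Ne.symm hip, Ne.symm hjp, Ne.symm hiq, Ne.symm hjq]
      ring
    have h2 : cpr M.toCoxeterSystem hp.isCartan ((m : ℤ) • (ev i - ev j) + (n' : ℤ) • (ev p - ev q)) (ev p - ev q) =
        2 * n' := by
      rw [cpr_add M.toCoxeterSystem hp.isCartan _ _ (hR' p q hpq), cpr_smul M.toCoxeterSystem hp.isCartan _ _ (hR' p q hpq),
        cpr_smul M.toCoxeterSystem hp.isCartan _ _ (hR' p q hpq), cpr_self M.toCoxeterSystem hp.isCartan (hR' p q hpq),
        hc i j p q hpq]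
      unfold dl4
      simp [hip, hjp, hiq, hjq]
      ring
    have e1 : (m : ℤ) • (ev i - ev j) + (n' : ℤ) • (ev p - ev q) = ev i - ev j := by
      by_contra hne
      have := hL.le _ (hR i j hij) _ hx' hne
      rw [h1] at this
      omega
    have e2 : (m : ℤ) • (ev i - ev j) + (n' : ℤ) • (ev p - ev q) = ev p - ev q := by
      by_contra hne
      have := hL.le _ (hR p q hpq) _ hx' hne
      rw [h2] at this
      omega
    have h3 := hc i j p q hpq
    rw [← e1, h2] at h3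
    unfold dl4 at h3
    simp [hip, hjp, hiq, hjq] at h3
    omega

include h in
/-- the frame of `p` long roots, `⟨b_i, b_j⟩ = 1` -/
theorem afr_of_simplex [Fintype M.Group] {p : ℕ} {ev : Fin (p + 1) → Fin l → ℤ} {F : ℤ}
    (hb : ∀ i : Fin p, ev i.castSucc ∈ LL M.toCoxeterSystem hp) (hl : ev (Fin.last p) = 0)
    (hB : ∀ i j : Fin p, 2 * form M.toCoxeterSystem hp.isCartan (ev i.castSucc) (ev j.castSucc) =
      F * ((if i = j then 1 else 0) + 1)) : AFr D l ev := by
  have hg : ∀ i j : Fin (p + 1), 2 * form M.toCoxeterSystem hp.isCartan (ev i) (ev j) =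
      F * ((if i = j then 1 else 0) + 1 - (if i = Fin.last p then 1 else 0) - (if j = Fin.last p then 1 else 0)) := by
    intro i j
    induction i using Fin.lastCases with
    | last =>
      have e1 : form M.toCoxeterSystem hp.isCartan (ev (Fin.last p)) (ev j) = 0 := by
        rw [hl, form_comm, form_zero_right]
      rw [e1]
      by_cases hj : j = Fin.last p
      · rw [if_pos hj.symm, if_pos rfl, if_pos hj]; ring
      · rw [if_neg (Ne.symm hj), if_pos rfl, if_neg hj]; ring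
    | cast i =>
      induction j using Fin.lastCases with
      | last =>
        have e1 : form M.toCoxeterSystem hp.isCartan (ev i.castSucc) (ev (Fin.last p)) = 0 := by
          rw [hl, form_zero_right]
        have hi := (Fin.castSucc_lt_last i).ne
        rw [e1, if_neg hi, if_pos rfl]; ring
      | cast j =>
        rw [hB, if_neg (Fin.castSucc_lt_last i).ne, if_neg (Fin.castSucc_lt_last j).ne]
        by_cases hij : i = j
        · rw [if_pos hij, if_pos (by rw [hij])]; ring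
        · rw [if_neg hij, if_neg (fun e => hij (Fin.castSucc_injective p e))]; ring
  refine afr_of_long (F := F) hp h ?_ ?_
  · intro i j hij
    induction i using Fin.lastCases with
    | last =>
      induction j using Fin.lastCases with
      | last => exact absurd rfl hij
      | cast j => rw [hl, zero_sub]; exact LL_neg h _ _ (hb j)
    | cast i =>
      induction j using Fin.lastCases with
      | last => rw [hl, sub_zero]; exact hb i
      | cast j =>
        have hij' : i ≠ j := fun e => hij (by rw [e])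
        have h1 : cpr M.toCoxeterSystem hp.isCartan (ev i.castSucc) (ev j.castSucc) = 1 := by
          apply cpr_eq_of_form M.toCoxeterSystem hp.isCartan (LL_root h _ _ (hb j))
          have h2 := hB i j
          have h3 := hB j j
          rw [if_neg hij'] at h2
          rw [if_pos rfl] at h3
          rw [h2]
          linarith
        have h2 := (LL_long h hp M.toCoxeterSystem).refl _ (hb i) _ (LL_root h _ _ (hb j))
        rwa [h1, one_smul] at h2
  · intro i j a b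
    simp only [form_sub_left, form_sub_right]
    have b1 := hg i a
    have b2 := hg i b
    have b3 := hg j a
    have b4 := hg j b
    unfold dl4
    linear_combination b1 - b2 - b3 + b4

end Long

/-! ### the move for long roots -/

section Simplex

variable {r : ℕ} [Fact r.Prime] {p : ℕ} [hpp : Fact p.Prime] [NeZero p] {hp} {e : ℕ} {τ : MulAut ↥(D.group (KK r))}
  {γ : (Fin l → ℤ) ≃+ (Fin l → ℤ)} {E H : Subgroup ↥(D.group (KK r))}

/-- the frame `b, w b, w² b, …, 0` -/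
noncomputable def evw (hp : IsType D l M) (p : ℕ) (w : M.Group) (b : Fin l → ℤ) (i : Fin (p + 1)) : Fin l → ℤ :=
  if (i : ℕ) < p then rep M.toCoxeterSystem hp.isCartan (w ^ (i : ℕ)) b else 0

theorem evw_cast {w : M.Group} {b : Fin l → ℤ} (i : Fin p) :
    evw hp p w b i.castSucc = rep M.toCoxeterSystem hp.isCartan (w ^ (i : ℕ)) b := by
  unfold evw
  rw [Fin.val_castSucc, if_pos i.2]

theorem evw_last {w : M.Group} {b : Fin l → ℤ} : evw hp p w b (Fin.last p) = 0 := by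
  unfold evw
  rw [Fin.val_last, if_neg (lt_irrefl _)]

theorem pow_mod_eq {G : Type*} [Group G] {w : G} (hw : w ^ p = 1) (n : ℕ) : w ^ (n % p) = w ^ n := by
  conv_rhs => rw [← Nat.div_add_mod n p, pow_add, pow_mul, hw, one_pow, one_mul]

/-- **The move**, `⟨w^j b, b⟩ = 1`. -/
theorem imp_simplex (h : HiList D) (h2 : p ≠ 2) (hpr : p ≠ r) (S : Sit hp r p e τ γ E H) {ε : ℤ}
    (hε : Eps p (r ^ e) ε) {f : ↥(D.group (KK r))} (hf : f ∈ E) {w : M.Group} (hw : NR hp r w f) {b : Fin l → ℤ}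
    (hb : b ∈ SS hp γ ε)
    (h1 : ∀ j : ℕ, ¬ p ∣ j →
      cpr M.toCoxeterSystem hp.isCartan (rep M.toCoxeterSystem hp.isCartan (w ^ j) b) b = 1)
    (hst : ∀ v ∈ VE hp r E, ∃ j : ℕ,
      rep M.toCoxeterSystem hp.isCartan v (b - rep M.toCoxeterSystem hp.isCartan w b) =
        rep M.toCoxeterSystem hp.isCartan (w ^ j) (b - rep M.toCoxeterSystem hp.isCartan w b))
    {ρ : M.Group} {m₀ : Matrix.SpecialLinearGroup (Fin p) (KK r)} {d₀ : Fin p → (KK r)ˣ}
    (hm₀ : toGL m₀ = mono (Equiv.addRight (1 : Fin p)) d₀)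
    (hρ : ∀ ψ s, Ah hp ψ (fun i : Fin p => rep M.toCoxeterSystem hp.isCartan (w ^ (i : ℕ)) b) s → NR hp r ρ (ψ m₀)) :
    ∃ y : ↥(D.group (KK r)), y⁻¹ * τ y ∈ TT D (KK r) ∧ (∀ x ∈ E, ∃ v, NR hp r v (y⁻¹ * x * y)) ∧
      (∀ x ∈ E, x ∈ TT D (KK r) → y⁻¹ * x * y ∈ TT D (KK r)) ∧ NR hp r (ρ⁻¹ * w) (y⁻¹ * f * y) := by
  have := finite_W hp M.toCoxeterSystem
  have := Fintype.ofFinite M.Group
  have hwp := pow_w S hf hw
  have hwV : w ∈ VE hp r E := ⟨f, hf, hw⟩
  have hbL : b ∈ LL M.toCoxeterSystem hp := hb.1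
  have hbr := LL_root h _ _ hbL
  have hsucc : ∀ (i : Fin p), w ^ ((i + 1 : Fin p) : ℕ) = w ^ ((i : ℕ) + 1) := by
    intro i
    rw [val_succ', pow_mod_eq hwp]
  have hev : AFr D l (evw hp p w b) := by
    refine afr_of_simplex (F := form M.toCoxeterSystem hp.isCartan b b) hp h (fun i => ?_) evw_last fun i j => ?_
    · rw [evw_cast]; exact LL_rep _ _ hbL _
    · rw [evw_cast, evw_cast]
      by_cases hij : i = j
      · rw [if_pos hij, hij, form_rep]; ring
      · rw [if_neg hij]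
        -- `⟨w^i b, w^j b⟩ = ⟨w^(i + p - j) b, b⟩`
        have h3 : w ^ (i : ℕ) = w ^ (j : ℕ) * w ^ ((i : ℕ) + (p - j)) := by
          rw [← pow_add]
          have : (j : ℕ) + (i + (p - j)) = i + p := by have := j.2; omega
          rw [this, pow_add, hwp, mul_one]
        have h4 : ¬ p ∣ (i : ℕ) + (p - j) := by
          intro h5
          apply hij
          apply Fin.ext
          have hi := i.2
          have hj := j.2
          obtain ⟨c, hc⟩ := h5
          have hc2 : c < 2 := by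
            by_contra hcon
            have : p * 2 ≤ p * c := Nat.mul_le_mul_left p (by omega)
            omega
          have hc1 : 0 < c := by
            rcases Nat.eq_zero_or_pos c with h6 | h6
            · rw [h6, mul_zero] at hc; omega
            · exact h6
          have : c = 1 := by omega
          rw [this, mul_one] at hc
          omega
        rw [h3, rep_mul_apply, form_rep, two_form_cpr _ _ _ hbr, h1 _ h4]
        ring
  refine imp h2 hpr S hε hf hw hev (fun i => ?_) evw_last (fun i => ?_) (fun v hv => ?_) hm₀ (fun ψ s A => hρ ψ s ?_)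
  · rw [evw_cast, evw_cast, hsucc, pow_succ', rep_mul_apply]
  · induction i using Fin.lastCases with
    | last => rw [evw_last, map_zero, smul_zero]
    | cast i =>
      rw [evw_cast]
      exact (VE_SS S h (pow_mem hwV _) hb).2
  · obtain ⟨j, hj⟩ := hst v hv
    refine ⟨Fin.ofNat p j, fun i => ?_⟩
    have h3 : ∀ i : Fin p, evw hp p w b i.castSucc - evw hp p w b (i + 1).castSucc =
        rep M.toCoxeterSystem hp.isCartan (w ^ (i : ℕ)) (b - rep M.toCoxeterSystem hp.isCartan w b) := by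
      intro i
      rw [evw_cast, evw_cast, hsucc, pow_succ, map_sub, rep_mul_apply]
    rw [h3, h3, ← rep_mul_apply, VE_comm S hv (pow_mem hwV _), rep_mul_apply, hj, ← rep_mul_apply, ← pow_add]
    have h4 : w ^ ((i + Fin.ofNat p j : Fin p) : ℕ) = w ^ ((i : ℕ) + j) := by
      rw [Fin.val_add, Fin.val_ofNat, Nat.add_mod_mod, pow_mod_eq hwp]
    rw [h4]
  · have h3 : (fun i : Fin p => evw hp p w b i.castSucc) =
        fun i : Fin p => rep M.toCoxeterSystem hp.isCartan (w ^ (i : ℕ)) b := funext fun i => evw_cast i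
    rwa [h3] at A

end Simplex

section Three

variable {r : ℕ} [Fact r.Prime] {hp} {e : ℕ} {τ : MulAut ↥(D.group (KK r))}
  {γ : (Fin l → ℤ) ≃+ (Fin l → ℤ)} {E H : Subgroup ↥(D.group (KK r))}

theorem cyc3 : Equiv.swap (0 : Fin 3) 1 * Equiv.swap 1 2 = Equiv.addRight 1 := by decide

theorem cyc5 : Equiv.swap (0 : Fin 5) 1 * Equiv.swap 1 2 * Equiv.swap 2 3 * Equiv.swap 3 4 = Equiv.addRight 1 := by
  decide

/-- **The move, p = 3.** -/
theorem imp_three (h : HiList D) (hpr : 3 ≠ r) (S : Sit hp r 3 e τ γ E H) {ε : ℤ}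
    (hε : Eps 3 (r ^ e) ε) {f : ↥(D.group (KK r))} (hf : f ∈ E) {w : M.Group} (hw : NR hp r w f) {b : Fin l → ℤ}
    (hb : b ∈ SS hp γ ε)
    (h1 : cpr M.toCoxeterSystem hp.isCartan (rep M.toCoxeterSystem hp.isCartan w b) b = 1)
    (hst : ∀ v ∈ VE hp r E, ∃ j : ℕ,
      rep M.toCoxeterSystem hp.isCartan v (b - rep M.toCoxeterSystem hp.isCartan w b) =
        rep M.toCoxeterSystem hp.isCartan (w ^ j) (b - rep M.toCoxeterSystem hp.isCartan w b))
    {s₀ s₁ : M.Group} (hs₀ : IsRfl hp s₀ (b - rep M.toCoxeterSystem hp.isCartan w b))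
    (hs₁ : IsRfl hp s₁ (rep M.toCoxeterSystem hp.isCartan w (b - rep M.toCoxeterSystem hp.isCartan w b))) :
    ∃ y : ↥(D.group (KK r)), y⁻¹ * τ y ∈ TT D (KK r) ∧ (∀ x ∈ E, ∃ v, NR hp r v (y⁻¹ * x * y)) ∧
      (∀ x ∈ E, x ∈ TT D (KK r) → y⁻¹ * x * y ∈ TT D (KK r)) ∧
      NR hp r ((s₀ * s₁)⁻¹ * w) (y⁻¹ * f * y) := by
  have := finite_W hp M.toCoxeterSystem
  have := Fintype.ofFinite M.Group
  have : Fact (Nat.Prime 3) := ⟨Nat.prime_three⟩
  have hwp := pow_w S hf hw
  have hbr := LL_root h _ _ hb.1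
  have h01 : (0 : Fin 3) ≠ 1 := by decide
  have h12 : (1 : Fin 3) ≠ 2 := by decide
  refine imp_simplex (p := 3) h (by norm_num) hpr S hε hf hw hb ?_ hst (ρ := s₀ * s₁)
    (m₀ := wij h01 1 * wij h12 1) (d₀ := _) (by rw [map_mul, toGL_wij, toGL_wij, mono_mul, cyc3]) ?_
  · have h2 : cpr M.toCoxeterSystem hp.isCartan (rep M.toCoxeterSystem hp.isCartan (w ^ 2) b) b = 1 := by
      apply cpr_eq_of_form M.toCoxeterSystem hp.isCartan hbr
      have e1 : form M.toCoxeterSystem hp.isCartan (rep M.toCoxeterSystem hp.isCartan (w ^ 2) b) b =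
          form M.toCoxeterSystem hp.isCartan (rep M.toCoxeterSystem hp.isCartan w b) b := by
        rw [← form_rep _ _ w, ← rep_mul_apply, ← pow_succ', hwp, map_one, Module.End.one_apply, form_comm]
      rw [e1, two_form_cpr _ _ _ hbr, h1]
    intro j hj
    rw [← pow_mod_eq hwp j]
    have h3 : j % 3 = 1 ∨ j % 3 = 2 := by omega
    rcases h3 with h3 | h3
    · rw [h3, pow_one]; exact h1
    · rw [h3]; exact h2
  · intro ψ s A
    rw [map_mul]
    refine nr_mul (A.nr_wij h01 ?_ 1) (A.nr_wij h12 ?_ 1)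
    · have e1 : rep M.toCoxeterSystem hp.isCartan (w ^ ((0 : Fin 3) : ℕ)) b -
          rep M.toCoxeterSystem hp.isCartan (w ^ ((1 : Fin 3) : ℕ)) b = b - rep M.toCoxeterSystem hp.isCartan w b := by
        show rep M.toCoxeterSystem hp.isCartan (w ^ 0) b - rep M.toCoxeterSystem hp.isCartan (w ^ 1) b = _
        rw [pow_zero, pow_one, map_one, Module.End.one_apply]
      rw [e1]; exact hs₀
    · have e1 : rep M.toCoxeterSystem hp.isCartan (w ^ ((1 : Fin 3) : ℕ)) b -
          rep M.toCoxeterSystem hp.isCartan (w ^ ((2 : Fin 3) : ℕ)) b =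
            rep M.toCoxeterSystem hp.isCartan w (b - rep M.toCoxeterSystem hp.isCartan w b) := by
        show rep M.toCoxeterSystem hp.isCartan (w ^ 1) b - rep M.toCoxeterSystem hp.isCartan (w ^ 2) b = _
        rw [pow_one, pow_two, map_sub, rep_mul_apply]
      rw [e1]; exact hs₁

/-- **The move, p = 5.** -/
theorem imp_five (h : HiList D) (hpr : 5 ≠ r) (S : Sit hp r 5 e τ γ E H) {ε : ℤ}
    (hε : Eps 5 (r ^ e) ε) {f : ↥(D.group (KK r))} (hf : f ∈ E) {w : M.Group} (hw : NR hp r w f) {b : Fin l → ℤ}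
    (hb : b ∈ SS hp γ ε)
    (h1 : cpr M.toCoxeterSystem hp.isCartan (rep M.toCoxeterSystem hp.isCartan w b) b = 1)
    (h2 : cpr M.toCoxeterSystem hp.isCartan (rep M.toCoxeterSystem hp.isCartan (w ^ 2) b) b = 1)
    (hst : ∀ v ∈ VE hp r E, ∃ j : ℕ,
      rep M.toCoxeterSystem hp.isCartan v (b - rep M.toCoxeterSystem hp.isCartan w b) =
        rep M.toCoxeterSystem hp.isCartan (w ^ j) (b - rep M.toCoxeterSystem hp.isCartan w b))
    {s₀ s₁ s₂ s₃ : M.Group} (hs₀ : IsRfl hp s₀ (b - rep M.toCoxeterSystem hp.isCartan w b))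
    (hs₁ : IsRfl hp s₁ (rep M.toCoxeterSystem hp.isCartan w (b - rep M.toCoxeterSystem hp.isCartan w b)))
    (hs₂ : IsRfl hp s₂ (rep M.toCoxeterSystem hp.isCartan (w ^ 2) (b - rep M.toCoxeterSystem hp.isCartan w b)))
    (hs₃ : IsRfl hp s₃ (rep M.toCoxeterSystem hp.isCartan (w ^ 3) (b - rep M.toCoxeterSystem hp.isCartan w b))) :
    ∃ y : ↥(D.group (KK r)), y⁻¹ * τ y ∈ TT D (KK r) ∧ (∀ x ∈ E, ∃ v, NR hp r v (y⁻¹ * x * y)) ∧
      (∀ x ∈ E, x ∈ TT D (KK r) → y⁻¹ * x * y ∈ TT D (KK r)) ∧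
      NR hp r ((s₀ * s₁ * s₂ * s₃)⁻¹ * w) (y⁻¹ * f * y) := by
  have := finite_W hp M.toCoxeterSystem
  have := Fintype.ofFinite M.Group
  have : Fact (Nat.Prime 5) := ⟨Nat.prime_five⟩
  have hwp := pow_w S hf hw
  have hbr := LL_root h _ _ hb.1
  have h01 : (0 : Fin 5) ≠ 1 := by decide
  have h12 : (1 : Fin 5) ≠ 2 := by decide
  have h23 : (2 : Fin 5) ≠ 3 := by decide
  have h34 : (3 : Fin 5) ≠ 4 := by decide
  refine imp_simplex (p := 5) h (by norm_num) hpr S hε hf hw hb ?_ hst (ρ := s₀ * s₁ * s₂ * s₃)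
    (m₀ := wij h01 1 * wij h12 1 * wij h23 1 * wij h34 1) (d₀ := _)
    (by rw [map_mul, map_mul, map_mul, toGL_wij, toGL_wij, toGL_wij, toGL_wij, mono_mul, mono_mul, mono_mul, cyc5]) ?_
  · have hsym : ∀ i j : ℕ, i + j = 5 →
        form M.toCoxeterSystem hp.isCartan (rep M.toCoxeterSystem hp.isCartan (w ^ i) b) b =
          form M.toCoxeterSystem hp.isCartan (rep M.toCoxeterSystem hp.isCartan (w ^ j) b) b := by
      intro i j hij
      rw [← form_rep _ _ (w ^ j), ← rep_mul_apply, ← pow_add, add_comm j i, hij, hwp, map_one, Module.End.one_apply,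
        form_comm]
    have h3 : cpr M.toCoxeterSystem hp.isCartan (rep M.toCoxeterSystem hp.isCartan (w ^ 3) b) b = 1 := by
      apply cpr_eq_of_form M.toCoxeterSystem hp.isCartan hbr
      rw [hsym 3 2 rfl, two_form_cpr _ _ _ hbr, h2]
    have h4 : cpr M.toCoxeterSystem hp.isCartan (rep M.toCoxeterSystem hp.isCartan (w ^ 4) b) b = 1 := by
      apply cpr_eq_of_form M.toCoxeterSystem hp.isCartan hbr
      rw [hsym 4 1 rfl, two_form_cpr _ _ _ hbr, pow_one, h1]
    intro j hj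
    rw [← pow_mod_eq hwp j]
    have h5 : j % 5 = 1 ∨ j % 5 = 2 ∨ j % 5 = 3 ∨ j % 5 = 4 := by omega
    rcases h5 with h5 | h5 | h5 | h5
    · rw [h5, pow_one]; exact h1
    · rw [h5]; exact h2
    · rw [h5]; exact h3
    · rw [h5]; exact h4
  · intro ψ s A
    rw [map_mul, map_mul, map_mul]
    refine nr_mul (nr_mul (nr_mul (A.nr_wij h01 ?_ 1) (A.nr_wij h12 ?_ 1)) (A.nr_wij h23 ?_ 1)) (A.nr_wij h34 ?_ 1)
    · have e1 : rep M.toCoxeterSystem hp.isCartan (w ^ ((0 : Fin 5) : ℕ)) b -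
          rep M.toCoxeterSystem hp.isCartan (w ^ ((1 : Fin 5) : ℕ)) b = b - rep M.toCoxeterSystem hp.isCartan w b := by
        show rep M.toCoxeterSystem hp.isCartan (w ^ 0) b - rep M.toCoxeterSystem hp.isCartan (w ^ 1) b = _
        rw [pow_zero, pow_one, map_one, Module.End.one_apply]
      rw [e1]; exact hs₀
    · have e1 : rep M.toCoxeterSystem hp.isCartan (w ^ ((1 : Fin 5) : ℕ)) b -
          rep M.toCoxeterSystem hp.isCartan (w ^ ((2 : Fin 5) : ℕ)) b =
            rep M.toCoxeterSystem hp.isCartan w (b - rep M.toCoxeterSystem hp.isCartan w b) := by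
        show rep M.toCoxeterSystem hp.isCartan (w ^ 1) b - rep M.toCoxeterSystem hp.isCartan (w ^ 2) b = _
        rw [pow_one, pow_two, map_sub, rep_mul_apply]
      rw [e1]; exact hs₁
    · have e1 : rep M.toCoxeterSystem hp.isCartan (w ^ ((2 : Fin 5) : ℕ)) b -
          rep M.toCoxeterSystem hp.isCartan (w ^ ((3 : Fin 5) : ℕ)) b =
            rep M.toCoxeterSystem hp.isCartan (w ^ 2) (b - rep M.toCoxeterSystem hp.isCartan w b) := by
        show rep M.toCoxeterSystem hp.isCartan (w ^ 2) b - rep M.toCoxeterSystem hp.isCartan (w ^ 3) b = _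
        rw [pow_succ w 2, map_sub, rep_mul_apply]
      rw [e1]; exact hs₂
    · have e1 : rep M.toCoxeterSystem hp.isCartan (w ^ ((3 : Fin 5) : ℕ)) b -
          rep M.toCoxeterSystem hp.isCartan (w ^ ((4 : Fin 5) : ℕ)) b =
            rep M.toCoxeterSystem hp.isCartan (w ^ 3) (b - rep M.toCoxeterSystem hp.isCartan w b) := by
        show rep M.toCoxeterSystem hp.isCartan (w ^ 3) b - rep M.toCoxeterSystem hp.isCartan (w ^ 4) b = _
        rw [pow_succ w 3, map_sub, rep_mul_apply]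
      rw [e1]; exact hs₃

end Three

end Cfsg.Agent.H46.X4
end

-- part: H875/Mono/Abs
section
/-!
# Long roots and elements of order three (helper875, for S2187)

Abstract setting: `B` a positive definite form on `ℤ^l`, `S` a connected set of vectors of norm two, closed under its
reflections. `w` an isometry of order three, `b ∈ S` with `B (w b) b = 1`, `c := b - w b`.

* `RSys.stab` : an isometry `v` of order three commuting with `w` permutes `{c, w c, w w c}` cyclically;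
* `RSys.split` : the rest of `w` outside the plane of `c` is trivial or has again some `b'` with `B (w' b') b' = 1`.
-/

set_option autoImplicit false

namespace Cfsg.Agent.H875.Mono

theorem sq_bd {p : ℤ} (h : p ^ 2 ≤ 2) : -1 ≤ p ∧ p ≤ 1 := by
  constructor
  · by_contra h2
    push Not at h2
    nlinarith only [h, h2]
  · by_contra h2
    push Not at h2
    nlinarith only [h, h2]

/-- non-zero weights of `A₃` have norm at least `3 / 4` -/
theorem num_split {m p0 p1 p2 : ℤ} (hm : m ≤ 0)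
    (h : 0 ≤ 96 * (1 + m) - 144 * (p0 ^ 2 + p1 ^ 2 + p2 ^ 2) + 36 * (p0 + p1 + p2) ^ 2) : p0 = 0 := by
  have h1 : 36 * (p0 ^ 2 + p1 ^ 2 + p2 ^ 2 + (p0 - p1) ^ 2 + (p1 - p2) ^ 2 + (p0 - p2) ^ 2) ≤ 96 := by linarith
  have key3 : p0 ^ 2 + p1 ^ 2 + p2 ^ 2 + (p0 - p1) ^ 2 + (p1 - p2) ^ 2 + (p0 - p2) ^ 2 ≤ 2 := by
    generalize p0 ^ 2 + p1 ^ 2 + p2 ^ 2 + (p0 - p1) ^ 2 + (p1 - p2) ^ 2 + (p0 - p2) ^ 2 = x at h1
    omega
  have h2 := sq_nonneg p0
  have h3 := sq_nonneg p1
  have h4 := sq_nonneg p2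
  have h5 := sq_nonneg (p0 - p1)
  have h6 := sq_nonneg (p1 - p2)
  have h7 := sq_nonneg (p0 - p2)
  obtain ⟨a1, a2⟩ := sq_bd (p := p0) (by omega)
  obtain ⟨a3, a4⟩ := sq_bd (p := p1) (by omega)
  obtain ⟨a5, a6⟩ := sq_bd (p := p2) (by omega)
  clear h h1 h2 h3 h4 h5 h6 h7
  interval_cases p0 <;> interval_cases p1 <;> interval_cases p2 <;> first | rfl | (exfalso; omega)

variable {l : ℕ}

/-- the setting -/
structure RSys (B : (Fin l → ℤ) → (Fin l → ℤ) → ℚ) (S : Set (Fin l → ℤ)) : Prop where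
  add_left : ∀ x y z, B (x + y) z = B x z + B y z
  symm : ∀ x y, B x y = B y x
  pos : ∀ x, x ≠ 0 → 0 < B x x
  two : ∀ a ∈ S, B a a = 2
  int : ∀ a ∈ S, ∀ x, ∃ n : ℤ, B x a = n
  refl : ∀ a ∈ S, ∀ b ∈ S, ∀ n : ℤ, B a b = n → a - n • b ∈ S
  conn : ∀ a ∈ S, ∀ b ∈ S, ∃ d ∈ S, B a d ≠ 0 ∧ B b d ≠ 0
  span : ∀ x, (∀ a ∈ S, B x a = 0) → x = 0

namespace RSys

variable {B : (Fin l → ℤ) → (Fin l → ℤ) → ℚ} {S : Set (Fin l → ℤ)} (H : RSys B S)

include H

theorem add_right (x y z : Fin l → ℤ) : B x (y + z) = B x y + B x z := by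
  rw [H.symm, H.add_left, H.symm y, H.symm z]

theorem zero_left (y : Fin l → ℤ) : B 0 y = 0 := by
  have h1 := H.add_left 0 0 y
  rw [add_zero] at h1
  linarith

theorem zero_right (y : Fin l → ℤ) : B y 0 = 0 := by rw [H.symm, H.zero_left]

theorem neg_left (x y : Fin l → ℤ) : B (-x) y = -B x y := by
  have h1 := H.add_left (-x) x y
  rw [neg_add_cancel, H.zero_left] at h1
  linarith

theorem neg_right (x y : Fin l → ℤ) : B x (-y) = -B x y := by rw [H.symm, H.neg_left, H.symm]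

theorem sub_left (x y z : Fin l → ℤ) : B (x - y) z = B x z - B y z := by
  rw [sub_eq_add_neg, H.add_left, H.neg_left, sub_eq_add_neg]

theorem sub_right (x y z : Fin l → ℤ) : B x (y - z) = B x y - B x z := by
  rw [H.symm, H.sub_left, H.symm y, H.symm z]

theorem nsmul_left (n : ℕ) (x y : Fin l → ℤ) : B (n • x) y = n * B x y := by
  induction n with
  | zero => rw [zero_smul, H.zero_left, Nat.cast_zero, zero_mul]
  | succ n ih => rw [succ_nsmul, H.add_left, ih, Nat.cast_add, Nat.cast_one]; ring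

theorem smul_left (n : ℤ) (x y : Fin l → ℤ) : B (n • x) y = n * B x y := by
  obtain ⟨m, rfl | rfl⟩ := n.eq_nat_or_neg
  · have h1 := H.nsmul_left m x y
    rw [← natCast_zsmul] at h1
    rw [h1, Int.cast_natCast]
  · have h1 := H.nsmul_left m x y
    rw [← natCast_zsmul] at h1
    rw [neg_smul, H.neg_left, h1, Int.cast_neg, Int.cast_natCast]
    ring

theorem smul_right (n : ℤ) (x y : Fin l → ℤ) : B x (n • y) = n * B x y := by rw [H.symm, H.smul_left, H.symm]

theorem nonneg (x : Fin l → ℤ) : 0 ≤ B x x := by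
  by_cases hx : x = 0
  · rw [hx, H.zero_left]
  · exact (H.pos x hx).le

theorem eq_zero {x : Fin l → ℤ} (hx : B x x = 0) : x = 0 := by
  by_contra hne
  exact absurd hx (H.pos x hne).ne'

theorem sum_left {ι : Type*} (s : Finset ι) (n : ι → ℤ) (f : ι → Fin l → ℤ) (y : Fin l → ℤ) :
    B (∑ i ∈ s, n i • f i) y = ∑ i ∈ s, n i * B (f i) y := by
  classical
  induction s using Finset.induction_on with
  | empty => rw [Finset.sum_empty, Finset.sum_empty, H.zero_left]
  | insert a s ha ih => rw [Finset.sum_insert ha, Finset.sum_insert ha, H.add_left, H.smul_left, ih]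

/-- the product of two vectors of norm two -/
theorem le_two {a b : Fin l → ℤ} (ha : B a a = 2) (hb : B b b = 2) : B a b ≤ 2 ∧ -2 ≤ B a b ∧ (B a b = 2 → a = b) ∧
    (B a b = -2 → a = -b) := by
  have h1 := H.nonneg (a - b)
  have h2 := H.nonneg (a + b)
  have h1' : B (a - b) (a - b) = 4 - 2 * B a b := by
    rw [H.sub_left, H.sub_right, H.sub_right, ha, hb, H.symm b a]; ring
  have h2' : B (a + b) (a + b) = 4 + 2 * B a b := by
    rw [H.add_left, H.add_right, H.add_right, ha, hb, H.symm b a]; ring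
  refine ⟨by linarith, by linarith, fun h => ?_, fun h => ?_⟩
  · exact sub_eq_zero.1 (H.eq_zero (by rw [h1', h]; norm_num))
  · exact eq_neg_of_add_eq_zero_left (H.eq_zero (by rw [h2', h]; norm_num))

variable {w v : Module.End ℤ (Fin l → ℤ)}

/-- the plane of `c` -/
theorem plane (hw : ∀ x y, B (w x) (w y) = B x y) (hwS : ∀ a ∈ S, w a ∈ S) (hw3 : ∀ x, w (w (w x)) = x)
    {b : Fin l → ℤ} (hb : b ∈ S) (h1 : B (w b) b = 1) :
    B b b = 2 ∧ B b (w b) = 1 ∧ B b (w (w b)) = 1 ∧ b - w b ∈ S ∧ B (b - w b) (b - w b) = 2 ∧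
      B (b - w b) (w (b - w b)) = -1 ∧ B (b - w b) (w (w (b - w b))) = -1 ∧
      (b - w b) + w (b - w b) + w (w (b - w b)) = 0 := by
  have h0 := H.two b hb
  have h2 : B b (w b) = 1 := by rw [H.symm, h1]
  have h3 : B b (w (w b)) = 1 := by
    rw [← hw, hw3, h1]
  have h4 : B (w b) (w b) = 2 := by rw [hw, h0]
  have h5 : B (w b) (w (w b)) = 1 := by rw [hw, h2]
  refine ⟨h0, h2, h3, ?_, ?_, ?_, ?_, ?_⟩
  · have h6 := H.refl b hb (w b) (hwS b hb) 1 (by rw [h2, Int.cast_one])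
    rwa [one_smul] at h6
  · rw [H.sub_left, H.sub_right, H.sub_right, h0, h4, h1, h2]; norm_num
  · rw [map_sub, H.sub_left, H.sub_right, H.sub_right, h2, h3, h4, h5]; norm_num
  · rw [map_sub, map_sub, hw3, H.sub_left, H.sub_right, H.sub_right, h0, h3, h5, h1]; norm_num
  · rw [map_sub, map_sub, hw3]; abel

/-- nine vectors in dimension eight -/
theorem nine (hl : l ≤ 8) (hw : ∀ x y, B (w x) (w y) = B x y)
    (hw3 : ∀ x, w (w (w x)) = x) (hv : ∀ x y, B (v x) (v y) = B x y) (hv3 : ∀ x, v (v (v x)) = x)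
    (hc : ∀ x, w (v x) = v (w x)) {b : Fin l → ℤ} (h0 : B b b = 2) (hb1 : B b (w b) = 1) (hb2 : B b (w (w b)) = 1)
    {t : ℤ} (e0 : B b (v b) = t) (e1 : B b (v (w b)) = t) (e2 : B b (v (w (w b))) = t) : False := by
  have hwl : ∀ x y, B (w x) y = B x (w (w y)) := fun x y => by rw [← hw x, hw3]
  have hvl : ∀ x y, B (v x) y = B x (v (v y)) := fun x y => by rw [← hv x, hv3]
  have f0 : B b (v (v b)) = t := by rw [← hv, hv3, H.symm, e0]
  have f1 : B b (v (v (w b))) = t := by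
    rw [H.symm]
    simp only [hvl, hwl, hv3, hc, e2]
  have f2 : B b (v (v (w (w b)))) = t := by
    rw [H.symm]
    simp only [hvl, hwl, hv3, hc, hw3, e1]
  -- `t ∈ {0, 1}`
  obtain ⟨l0, -, p0, -⟩ := H.le_two h0 (b := v b) (by rw [hv, h0])
  obtain ⟨-, -, p1, -⟩ := H.le_two h0 (b := v (w b)) (by rw [hv, hw, h0])
  rw [e0] at l0 p0
  rw [e1] at p1
  have t2 : t ≠ 2 := by
    rintro rfl
    have h2 := p0 (by norm_num)
    have h3 := p1 (by norm_num)
    have h4 : w b = b := by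
      have h5 : v (w b) = v b := by rw [← h3, ← h2]
      have h6 := congrArg v (congrArg v h5)
      rwa [hv3, hv3] at h6
    rw [h4, h0] at hb1
    norm_num at hb1
  have t3 : (0 : ℚ) ≤ 6 + 6 * t := by
    have h2 := H.nonneg (b + v b + v (v b))
    simp only [H.add_left, H.add_right, hvl, hv3, h0, e0, f0] at h2
    linarith
  have t4 : t ≠ -1 := by
    rintro rfl
    have h2 : b + v b + v (v b) = 0 := by
      apply H.eq_zero
      simp only [H.add_left, H.add_right, hvl, hv3, h0, e0, f0]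
      norm_num
    have h3 : B (b + v b + v (v b)) (w b) = 0 := by rw [h2, H.zero_left]
    simp only [H.add_left, hvl, hv3, hb1, e1, f1] at h3
    norm_num at h3
  have t01 : t = 0 ∨ t = 1 := by
    have h2 : t ≤ 2 := by exact_mod_cast l0
    have h3 : (0 : ℤ) ≤ 6 + 6 * t := by exact_mod_cast t3
    omega
  -- the nine vectors
  let f : Fin 9 → Fin l → ℤ := ![b, w b, w (w b), v b, v (w b), v (w (w b)), v (v b), v (v (w b)), v (v (w (w b)))]
  have hli : LinearIndependent ℤ f := by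
    rw [Fintype.linearIndependent_iff]
    intro n hn
    have key : ∀ y, ∑ p, n p * B (f p) y = 0 := fun y => by
      have h2 := H.sum_left Finset.univ n f y
      rw [hn, H.zero_left] at h2
      exact h2.symm
    have k : ∀ q, ∑ p, (n p : ℚ) * B (f p) (f q) = 0 := fun q => key (f q)
    have k0 := k 0
    have k1 := k 1
    have k2 := k 2
    have k3 := k 3
    have k4 := k 4
    have k5 := k 5
    have k6 := k 6
    have k7 := k 7
    have k8 := k 8
    simp only [Fin.sum_univ_succ, f, Matrix.cons_val_zero, Matrix.cons_val_succ, Finset.univ_unique,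
      Fin.default_eq_zero, Finset.sum_singleton, Matrix.cons_val] at k0 k1 k2 k3 k4 k5 k6 k7 k8
    simp only [hvl, hwl, hc, hw3, hv3, h0, hb1, hb2, e0, e1, e2, f0, f1, f2] at k0 k1 k2 k3 k4 k5 k6 k7 k8
    have K : n 0 = 0 ∧ n 1 = 0 ∧ n 2 = 0 ∧ n 3 = 0 ∧ n 4 = 0 ∧ n 5 = 0 ∧ n 6 = 0 ∧ n 7 = 0 ∧ n 8 = 0 := by
      have c0 : (Fin.succ 0 : Fin 9) = 1 := rfl
      have c1 : ((Fin.succ 0).succ : Fin 9) = 2 := rfl
      have c2 : ((Fin.succ 0).succ.succ : Fin 9) = 3 := rfl
      have c3 : ((Fin.succ 0).succ.succ.succ : Fin 9) = 4 := rfl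
      have c4 : ((Fin.succ 0).succ.succ.succ.succ : Fin 9) = 5 := rfl
      have c5 : ((Fin.succ 0).succ.succ.succ.succ.succ : Fin 9) = 6 := rfl
      have c6 : ((Fin.succ 0).succ.succ.succ.succ.succ.succ : Fin 9) = 7 := rfl
      have c7 : ((Fin.succ 0).succ.succ.succ.succ.succ.succ.succ : Fin 9) = 8 := rfl
      simp only [c0, c1, c2, c3, c4, c5, c6, c7] at k0 k1 k2 k3 k4 k5 k6 k7 k8
      rcases t01 with rfl | rfl
      · norm_cast at k0 k1 k2 k3 k4 k5 k6 k7 k8
        (clear * - k0 k1 k2 k3 k4 k5 k6 k7 k8; (solve | lia | omega))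
      · norm_cast at k0 k1 k2 k3 k4 k5 k6 k7 k8
        (clear * - k0 k1 k2 k3 k4 k5 k6 k7 k8; (solve | lia | omega))
    intro i
    obtain ⟨K0, K1, K2, K3, K4, K5, K6, K7, K8⟩ := K
    fin_cases i <;> assumption
  have h2 := hli.fintype_card_le_finrank
  rw [Module.finrank_fintype_fun_eq_card, Fintype.card_fin, Fintype.card_fin] at h2
  omega

/-- **M4b** : the `A₂` of a bad root is permuted cyclically -/
theorem stab (hl : l ≤ 8) (hw : ∀ x y, B (w x) (w y) = B x y) (hwS : ∀ a ∈ S, w a ∈ S)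
    (hw3 : ∀ x, w (w (w x)) = x) (hv : ∀ x y, B (v x) (v y) = B x y) (hv3 : ∀ x, v (v (v x)) = x)
    (hc : ∀ x, w (v x) = v (w x)) {b : Fin l → ℤ} (hb : b ∈ S) (h1 : B (w b) b = 1) :
    v (b - w b) = b - w b ∨ v (b - w b) = w (b - w b) ∨ v (b - w b) = w (w (b - w b)) := by
  obtain ⟨h0, hb1, hb2, hcS, hcc, -, -, -⟩ := H.plane hw hwS hw3 hb h1
  have hwl : ∀ x y, B (w x) y = B x (w (w y)) := fun x y => by rw [← hw x, hw3]
  have hvl : ∀ x y, B (v x) y = B x (v (v y)) := fun x y => by rw [← hv x, hv3]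
  obtain ⟨n0, e0⟩ := H.int b hb (v b)
  obtain ⟨n1, e1⟩ := H.int b hb (v (w b))
  obtain ⟨n2, e2⟩ := H.int b hb (v (w (w b)))
  rw [H.symm] at e0 e1 e2
  have x0 : B (b - w b) (v (b - w b)) = 2 * n0 - n1 - n2 := by
    simp only [map_sub, H.sub_left, H.sub_right, hwl, hc, hw3, e0, e1, e2]; ring
  have x1 : B (b - w b) (v (w (b - w b))) = 2 * n1 - n2 - n0 := by
    simp only [map_sub, H.sub_left, H.sub_right, hwl, hc, hw3, e0, e1, e2]; ring
  have x2 : B (b - w b) (v (w (w (b - w b)))) = 2 * n2 - n0 - n1 := by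
    simp only [map_sub, H.sub_left, H.sub_right, hwl, hc, hw3, e0, e1, e2]; ring
  have hc0 : b - w b ≠ 0 := by
    intro e
    rw [e, H.zero_left] at hcc
    norm_num at hcc
  generalize b - w b = c at *
  obtain ⟨l0, u0, p0, m0⟩ := H.le_two hcc (b := v c) (by rw [hv, hcc])
  obtain ⟨l1, u1, p1, m1⟩ := H.le_two hcc (b := v (w c)) (by rw [hv, hw, hcc])
  obtain ⟨l2, u2, p2, m2⟩ := H.le_two hcc (b := v (w (w c))) (by rw [hv, hw, hw, hcc])
  rw [x0] at l0 u0 p0 m0
  rw [x1] at l1 u1 p1 m1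
  rw [x2] at l2 u2 p2 m2
  have cast2 : ∀ n : ℤ, ((n : ℚ) ≤ 2 ↔ n ≤ 2) ∧ ((-2 : ℚ) ≤ n ↔ -2 ≤ n) ∧ ((n : ℚ) = 2 ↔ n = 2) ∧
      ((n : ℚ) = -2 ↔ n = -2) := fun n =>
    ⟨by exact_mod_cast Iff.rfl, by exact_mod_cast Iff.rfl, by exact_mod_cast Iff.rfl, by exact_mod_cast Iff.rfl⟩
  have y0 : (2 * n0 - n1 - n2 : ℚ) = ((2 * n0 - n1 - n2 : ℤ) : ℚ) := by push_cast; ring
  have y1 : (2 * n1 - n2 - n0 : ℚ) = ((2 * n1 - n2 - n0 : ℤ) : ℚ) := by push_cast; ring
  have y2 : (2 * n2 - n0 - n1 : ℚ) = ((2 * n2 - n0 - n1 : ℤ) : ℚ) := by push_cast; ring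
  rw [y0] at l0 u0 p0 m0
  rw [y1] at l1 u1 p1 m1
  rw [y2] at l2 u2 p2 m2
  rw [(cast2 _).1] at l0 l1 l2
  rw [(cast2 _).2.1] at u0 u1 u2
  rw [(cast2 _).2.2.1] at p0 p1 p2
  rw [(cast2 _).2.2.2] at m0 m1 m2
  have hneg : c ≠ -c := by
    intro e
    have h2 : B c c = -B c c := by
      conv_lhs => rw [e]
      rw [H.neg_left, ← e]
    rw [hcc] at h2
    norm_num at h2
  have hcases : (2 * n0 - n1 - n2 = 2 ∨ 2 * n1 - n2 - n0 = 2 ∨ 2 * n2 - n0 - n1 = 2) ∨
      (2 * n0 - n1 - n2 = -2 ∨ 2 * n1 - n2 - n0 = -2 ∨ 2 * n2 - n0 - n1 = -2) ∨ (n1 = n0 ∧ n2 = n0) := by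
    (clear * - u0 u1 u2; solve | lia | omega)
  rcases hcases with (h2 | h2 | h2) | (h2 | h2 | h2) | ⟨h2, h3⟩
  · left
    exact (p0 h2).symm
  · right; right
    have h3 := congrArg w (congrArg w (p1 h2))
    rw [hc, hc, hw3] at h3
    exact h3.symm
  · right; left
    have h3 := congrArg w (p2 h2)
    rw [hc, hw3] at h3
    exact h3.symm
  · exfalso
    have h3 : v c = -c := neg_eq_iff_eq_neg.1 (m0 h2).symm
    exact hneg (by
      calc c = v (v (v c)) := (hv3 c).symm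
        _ = -c := by simp only [h3, map_neg, neg_neg])
  · exfalso
    have h3 : v c = -w (w c) := by
      have h4 := congrArg w (congrArg w (m1 h2))
      rw [map_neg, map_neg, hc, hc, hw3] at h4
      rw [h4, neg_neg]
    exact hneg (by
      calc c = v (v (v c)) := (hv3 c).symm
        _ = -c := by simp only [h3, map_neg, neg_neg, ← hc, hw3])
  · exfalso
    have h3 : v c = -w c := by
      have h4 := congrArg w (m2 h2)
      rw [map_neg, hc, hw3] at h4
      rw [h4, neg_neg]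
    exact hneg (by
      calc c = v (v (v c)) := (hv3 c).symm
        _ = -c := by simp only [h3, map_neg, neg_neg, ← hc, hw3])
  · exfalso
    subst h2 h3
    exact H.nine hl hw hw3 hv hv3 hc h0 hb1 hb2 e0 e1 e2 

/-- the rotation of the plane of `c` -/
def rot (P Q : (Fin l → ℤ) → ℤ) (c d x : Fin l → ℤ) : Fin l → ℤ := x - (P x + Q x) • c - Q x • d

/-- what is left of `w` outside the plane of `c` -/
theorem rest {u : Module.End ℤ (Fin l → ℤ)} (hw : ∀ x y, B (w x) (w y) = B x y) (hwS : ∀ a ∈ S, w a ∈ S)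
    (hw3 : ∀ x, w (w (w x)) = x) {b : Fin l → ℤ} (hb : b ∈ S)
    (h1 : B (w b) b = 1) {P Q : (Fin l → ℤ) → ℤ} (hP : ∀ x, B x (b - w b) = P x)
    (hQ : ∀ x, B x (w (b - w b)) = Q x) (hR : ∀ x, rot P Q (b - w b) (w (b - w b)) (u x) = w x) :
    (∀ x, w x = x → u x = x) ∧ u b = b ∧ u (b - w b) = b - w b ∧ u (w (b - w b)) = w (b - w b) ∧
      ∀ x, u (u (u x)) = x := by
  obtain ⟨h0, hb1, hb2, hcS, hcc, hc1, hc2, hsum⟩ := H.plane hw hwS hw3 hb h1
  have hbc : b - (b - w b) = w b := by abel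
  have h3b : (3 : ℤ) • b = (b + w b + w (w b)) + (b - w b) - w (w (b - w b)) := by
    rw [map_sub, map_sub, hw3]
    have e : (3 : ℤ) • b = b + b + b := by
      rw [show (3 : ℤ) = 1 + 1 + 1 by norm_num, add_smul, add_smul, one_smul]
    rw [e]; abel
  have hfixc : ∀ x, w x = x → B x (b - w b) = 0 ∧ B x (w (b - w b)) = 0 := by
    intro x hx
    have h2 : B x (b - w b) = 0 := by
      rw [H.sub_right]
      nth_rw 2 [← hx]
      rw [hw, sub_self]
    refine ⟨h2, ?_⟩
    nth_rw 1 [← hx]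
    rw [hw, h2]
  generalize b - w b = c at *
  have hcc' : B (w c) (w c) = 2 := by rw [hw, hcc]
  have hc1' : B (w c) c = -1 := by rw [H.symm, hc1]
  have hww : w (w c) = -c - w c := by
    have h2 : w (w c) = -(c + w c) := (eq_neg_of_add_eq_zero_right hsum)
    rw [h2]; abel
  -- `R` is an isometry
  have hRi : ∀ x y, B (rot P Q c (w c) x) (rot P Q c (w c) y) = B x y := by
    intro x y
    have e1 : B c y = P y := by rw [H.symm, hP]
    have e2 : B (w c) y = Q y := by rw [H.symm, hQ]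
    simp only [rot, H.sub_left, H.sub_right, H.smul_left, H.smul_right, hP x, hQ x, e1, e2, hcc, hc1, hc1', hcc']
    push_cast
    ring
  have hRinj : ∀ x y, rot P Q c (w c) x = rot P Q c (w c) y → x = y := by
    intro x y hxy
    refine sub_eq_zero.1 (H.eq_zero ?_)
    have e1 := hRi x x
    have e2 := hRi x y
    have e3 := hRi y y
    rw [hxy] at e1 e2
    rw [H.sub_left, H.sub_right, H.sub_right, H.symm y x]
    linarith only [e1, e2, e3]
  have hPc : P c = 2 := by have := hP c; rw [hcc] at this; exact_mod_cast this.symm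
  have hQc : Q c = -1 := by have := hQ c; rw [hc1] at this; exact_mod_cast this.symm
  have hPd : P (w c) = -1 := by have := hP (w c); rw [hc1'] at this; exact_mod_cast this.symm
  have hQd : Q (w c) = 2 := by have := hQ (w c); rw [hcc'] at this; exact_mod_cast this.symm
  have hRc : rot P Q c (w c) c = w c := by
    simp only [rot, hPc, hQc]
    norm_num
  have hRd : rot P Q c (w c) (w c) = w (w c) := by
    simp only [rot, hPd, hQd]
    rw [hww]
    module
  have hRf : ∀ x, w x = x → rot P Q c (w c) x = x := by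
    intro x hx
    obtain ⟨h2, h3⟩ := hfixc x hx
    rw [hP] at h2
    rw [hQ] at h3
    have h4 : P x = 0 := by exact_mod_cast h2
    have h5 : Q x = 0 := by exact_mod_cast h3
    simp only [rot, h4, h5]
    norm_num
  have f1 : ∀ x, w x = x → u x = x := by
    intro x hx
    apply hRinj
    rw [hR, hx, hRf x hx]
  have f2 : u c = c := by
    apply hRinj
    rw [hR, hRc]
  have f3 : u (w c) = w c := by
    apply hRinj
    rw [hR, hRd]
  refine ⟨f1, ?_, f2, f3, ?_⟩
  · have h4 : u ((3 : ℤ) • b) = (3 : ℤ) • b := by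
      rw [h3b, map_sub, map_add, f1 (b + w b + w (w b)) (by rw [map_add, map_add, hw3]; abel), f2, hww, map_sub,
        map_neg, f2, f3]
    rw [map_smul] at h4
    exact smul_right_injective _ (by norm_num : (3 : ℤ) ≠ 0) h4
  · -- `P`, `Q` are additive
    have hPadd : ∀ x y, P (x - y) = P x - P y := fun x y => by
      have := hP (x - y)
      rw [H.sub_left, hP, hP] at this
      exact_mod_cast this.symm
    have hQadd : ∀ x y, Q (x - y) = Q x - Q y := fun x y => by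
      have := hQ (x - y)
      rw [H.sub_left, hQ, hQ] at this
      exact_mod_cast this.symm
    have hPs : ∀ (n : ℤ) x, P (n • x) = n * P x := fun n x => by
      have := hP (n • x)
      rw [H.smul_left, hP] at this
      exact_mod_cast this.symm
    have hQs : ∀ (n : ℤ) x, Q (n • x) = n * Q x := fun n x => by
      have := hQ (n • x)
      rw [H.smul_left, hQ] at this
      exact_mod_cast this.symm
    have hwc : ∀ x, w (rot P Q c (w c) x) = rot P Q c (w c) (w x) := by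
      intro x
      have e1 : Q (w x) = P x := by
        have := hQ (w x)
        rw [hw, hP] at this
        exact_mod_cast this.symm
      have e2 : P (w x) = -P x - Q x := by
        have := hP (w x)
        rw [← hw, ← hw, hw3, hww, H.sub_right, H.neg_right, hP, hQ] at this
        have h2 : ((P (w x) : ℤ) : ℚ) = ((-P x - Q x : ℤ) : ℚ) := by push_cast; exact this.symm
        exact_mod_cast h2
      simp only [rot, e1, e2, map_sub, map_smul, hww]
      module
    have hR3 : ∀ x, rot P Q c (w c) (rot P Q c (w c) (rot P Q c (w c) x)) = x := by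
      intro x
      simp only [rot, hPadd, hQadd, hPs, hQs, hPc, hQc, hPd, hQd]
      module
    have hcomm : ∀ x, u (rot P Q c (w c) x) = rot P Q c (w c) (u x) := by
      intro x
      apply hRinj
      rw [hR, hwc, hR]
    have hwu : ∀ x, w (u x) = u (w x) := fun x => by rw [← hR (u x), ← hcomm, hR]
    intro x
    rw [← hR3 (u (u (u x))), hR, hwu, hwu, hR, hwu, hR, hw3]

/-- **M4c** : what is left of `w` is trivial or has a bad root -/
theorem split {u : Module.End ℤ (Fin l → ℤ)} (hw : ∀ x y, B (w x) (w y) = B x y) (hwS : ∀ a ∈ S, w a ∈ S)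
    (hw3 : ∀ x, w (w (w x)) = x) (hu : ∀ x y, B (u x) (u y) = B x y) {b : Fin l → ℤ}
    (hb : b ∈ S) (h1 : B (w b) b = 1) {P Q : (Fin l → ℤ) → ℤ} (hP : ∀ x, B x (b - w b) = P x)
    (hQ : ∀ x, B x (w (b - w b)) = Q x) (hR : ∀ x, rot P Q (b - w b) (w (b - w b)) (u x) = w x) :
    (∀ x, u x = x) ∨ ∃ a ∈ S, B (u a) a = 1 := by
  obtain ⟨-, ub, uc, ud, u3⟩ := H.rest hw hwS hw3 hb h1 hP hQ hR
  obtain ⟨h0, hb1, hb2, -, -, -, -, -⟩ := H.plane hw hwS hw3 hb h1
  have uwb : u (w b) = w b := by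
    have e : w b = b - (b - w b) := by abel
    rw [e, map_sub, ub, uc]
  have uwwb : u (w (w b)) = w (w b) := by
    have e : w (w b) = b - (b - w b) - w (b - w b) := by rw [map_sub]; abel
    rw [e, map_sub, map_sub, ub, uc, ud]
  by_contra hcon
  push Not at hcon
  obtain ⟨⟨x₀, hx₀⟩, hno⟩ := hcon
  have hul : ∀ x y, B (u x) y = B x (u (u y)) := fun x y => by rw [← hu x, u3]
  have hwl : ∀ x y, B (w x) y = B x (w (w y)) := fun x y => by rw [← hw x, hw3]
  -- roots which are not fixed are orthogonal to `b`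
  have claim : ∀ a ∈ S, u a ≠ a → B a b = 0 := by
    intro a ha hua
    have haa := H.two a ha
    obtain ⟨m, hm⟩ := H.int a ha (u a)
    obtain ⟨l0, l1, l2, l3⟩ := H.le_two (a := u a) (b := a) (by rw [hu, haa]) haa
    have hm' : B a (u a) = m := by rw [H.symm, hm]
    have hm'' : B a (u (u a)) = m := by rw [← hul, hm]
    have m2 : m ≠ 2 := by
      rintro rfl
      exact hua (l2 (by rw [hm]; norm_num))
    have m1 : m ≠ 1 := by
      rintro rfl
      exact hno a ha (by rw [hm]; norm_num)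
    have mm2 : m ≤ 2 := by rw [hm] at l0; exact_mod_cast l0
    obtain ⟨p0, e0⟩ := H.int b hb a
    obtain ⟨p1, e1⟩ := H.int (w b) (hwS b hb) a
    obtain ⟨p2, e2⟩ := H.int (w (w b)) (hwS _ (hwS b hb)) a
    have key := H.nonneg ((4 : ℤ) • (a + u a + u (u a)) - (3 * (3 * p0 - p1 - p2)) • b -
      (3 * (3 * p1 - p0 - p2)) • w b - (3 * (3 * p2 - p0 - p1)) • w (w b))
    have s0 : B b a = p0 := by rw [H.symm, e0]
    have s1 : B (w b) a = p1 := by rw [H.symm, e1]
    have s2 : B (w (w b)) a = p2 := by rw [H.symm, e2]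
    have g1 : ∀ y, u y = y → B (u a) y = B a y := fun y hy => by
      nth_rw 1 [← hy]
      rw [hu]
    have g2 : ∀ y, u y = y → B (u (u a)) y = B a y := fun y hy => by
      nth_rw 1 [← hy]
      rw [hu, g1 y hy]
    have g3 : ∀ y, u y = y → B y (u a) = B y a := fun y hy => by rw [H.symm, g1 y hy, H.symm]
    have g4 : ∀ y, u y = y → B y (u (u a)) = B y a := fun y hy => by rw [H.symm, g2 y hy, H.symm]
    have t1 : B (w b) (w b) = 2 := by rw [hw, h0]
    have t2 : B (w (w b)) (w (w b)) = 2 := by rw [hw, hw, h0]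
    have t3 : B (w b) (w (w b)) = 1 := by rw [hw, hb1]
    have t4 : B (w b) b = 1 := by rw [H.symm, hb1]
    have t5 : B (w (w b)) b = 1 := by rw [H.symm, hb2]
    have t6 : B (w (w b)) (w b) = 1 := by rw [H.symm, t3]
    simp only [H.add_left, H.add_right, H.sub_left, H.sub_right, H.smul_left, H.smul_right, g1 b ub, g2 b ub,
      g3 b ub, g4 b ub, g1 _ uwb, g2 _ uwb, g3 _ uwb, g4 _ uwb, g1 _ uwwb, g2 _ uwwb, g3 _ uwwb, g4 _ uwwb, e0, e1, e2,
      s0, s1, s2, h0, hb1, hb2, t1, t2, t3, t4, t5, t6, haa, hm, hm', hm'', hul, u3] at key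
    have key2 : (0 : ℤ) ≤ 96 * (1 + m) - 144 * (p0 ^ 2 + p1 ^ 2 + p2 ^ 2) + 36 * (p0 + p1 + p2) ^ 2 := by
      have h2 : ((0 : ℤ) : ℚ) ≤
          ((96 * (1 + m) - 144 * (p0 ^ 2 + p1 ^ 2 + p2 ^ 2) + 36 * (p0 + p1 + p2) ^ 2 : ℤ) : ℚ) := by
        push_cast at key ⊢
        linarith only [key]
      exact_mod_cast h2
    have hp0 : p0 = 0 := num_split (by omega) key2
    rw [e0, hp0, Int.cast_zero]
  -- a root which is not fixed
  obtain ⟨a, ha, hua⟩ : ∃ a ∈ S, u a ≠ a := by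
    by_contra hall
    push Not at hall
    apply hx₀
    refine sub_eq_zero.1 (H.span _ fun a ha => ?_)
    rw [H.sub_left]
    nth_rw 1 [← hall a ha]
    rw [hu, sub_self]
  obtain ⟨d, hd, h2, h3⟩ := H.conn a ha b hb
  have hud : u d = d := by
    by_contra h4
    exact h3 (by rw [H.symm, claim d hd h4])
  obtain ⟨n, hn⟩ := H.int d hd a
  have hue : u (a - n • d) = a - n • d := by
    by_contra h4
    have h5 := claim _ (H.refl a ha d hd n hn) h4
    rw [H.sub_left, H.smul_left, claim a ha hua, ← hn, zero_sub, neg_eq_zero, mul_eq_zero] at h5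
    rcases h5 with h5 | h5
    · exact h2 h5
    · exact h3 (by rw [H.symm, h5])
  apply hua
  have e : a = (a - n • d) + n • d := by abel
  rw [e, map_add, map_smul, hue, hud]

end RSys

end Cfsg.Agent.H875.Mono
end

-- part: H875/Mono/Split
section
/-!
# S2187, M4b and M4c (helper875): bad roots of elements of order three

`D` one of `G₂, D₄, F₄, E₆, E₇, E₈` (`h : HiList D`), `LL` the long roots, `w³ = 1`, `b ∈ LL` with `⟨w b, b⟩ = 1`,
`c := b - w b`.

* `stab` : an element of order three commuting with `w` permutes `{c, w c, w w c}` cyclically;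
* `splitA` : `w' := (s₀ s₁)⁻¹ w`, `s₀`, `s₁` the reflections in `c`, `w c`, fixes the fixed vectors of `w` and `b`, and
  `w' = 1` or there is `b' ∈ LL` with `⟨w' b', b'⟩ = 1`.
-/

set_option autoImplicit false
set_option linter.unusedSectionVars false

namespace Cfsg.Agent.H875.Mono

open CoxeterSystem Cfsg Cfsg.Lie Cfsg.Lie.ChevalleyDatum
open Cfsg.Agent.ChevalleyStructure Cfsg.Agent.ChevalleyStructure.Elts Cfsg.Agent.ChevalleyStructure.CoxeterGeom
  Cfsg.Agent.ChevalleyStructure.CoxeterGeomTypes Cfsg.Agent.ChevalleyStructure.NPerm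
open Cfsg.Agent.Tits.Roots Cfsg.Agent.Tits.Core Cfsg.Agent.Nodes Cfsg.Agent.Nodes.Reps Cfsg.Agent.Nodes.BNOf
  Cfsg.Agent.Nodes.Coroot Cfsg.Agent.Nodes.SubComb Cfsg.Agent.KFacts.RgdSL Cfsg.Agent.H123.ExcComb
  Cfsg.Agent.Nodes.RGDChev Cfsg.Agent.BpExc.Fr
open Cfsg.Agent.H818.StrP.UTab Cfsg.Agent.H818.StrP.UAct
open Cfsg.Agent.H225.Gen (LL LL_rep LL_root LL_refl LL_conn LL_span th th_root Conn)

variable {D : ChevalleyDatum} {l : ℕ} {M : CoxeterMatrix (Fin l)} {W : Type*} [Group W]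

/-- the normalised form -/
noncomputable def BB (cs : CoxeterSystem M W) (hp : IsType D l M) [Fintype W] (x y : Fin l → ℤ) : ℚ :=
  2 * (form cs hp.isCartan x y : ℚ) / (form cs hp.isCartan (th D l) (th D l) : ℚ)

variable (h : HiList D) (hp : IsType D l M) (cs : CoxeterSystem M W)

include h in
theorem th_pos [Fintype W] : (0 : ℚ) < (form cs hp.isCartan (th D l) (th D l) : ℚ) := by
  exact_mod_cast form_pos cs hp.isCartan (th_root h hp cs).ne_zero

include h in
theorem BB_eq [Fintype W] (x : Fin l → ℤ) {a : Fin l → ℤ} (ha : a ∈ LL cs hp) :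
    BB cs hp x a = cpr cs hp.isCartan x a := by
  have h1 := two_form_cpr cs hp.isCartan x (LL_root h hp cs ha)
  have h2 : form cs hp.isCartan a a = form cs hp.isCartan (th D l) (th D l) := by
    obtain ⟨w, rfl⟩ := ha
    exact form_rep cs hp.isCartan w _ _
  have h3 := th_pos h hp cs
  rw [h2] at h1
  unfold BB
  rw [div_eq_iff h3.ne']
  exact_mod_cast h1

theorem BB_rep [Fintype W] (w : W) (x y : Fin l → ℤ) :
    BB cs hp (rep cs hp.isCartan w x) (rep cs hp.isCartan w y) = BB cs hp x y := by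
  unfold BB
  rw [form_rep]

include h in
/-- the long roots are a system as in `Abs` -/
theorem rsys [Fintype W] : RSys (BB cs hp) (LL cs hp) where
  add_left := fun x y z => by
    unfold BB
    rw [form_add_left, Int.cast_add]
    ring
  symm := fun x y => by
    unfold BB
    rw [form_comm]
  pos := fun x hx => by
    have h1 : (0 : ℚ) < form cs hp.isCartan x x := by exact_mod_cast form_pos cs hp.isCartan hx
    have h2 := th_pos h hp cs
    unfold BB
    positivity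
  two := fun a ha => by
    rw [BB_eq h hp cs a ha, cpr_self cs hp.isCartan (LL_root h hp cs ha)]
    norm_num
  int := fun a ha x => ⟨_, BB_eq h hp cs x ha⟩
  refl := fun a ha b hb n hn => by
    rw [BB_eq h hp cs a hb] at hn
    have h1 : cpr cs hp.isCartan a b = n := by exact_mod_cast hn
    rw [← h1]
    exact LL_refl hp cs ha (LL_root h hp cs hb)
  conn := fun a ha b hb => by
    obtain ⟨d, hd, h1, h2⟩ := LL_conn h hp cs ha hb
    refine ⟨d, hd, ?_, ?_⟩
    · rw [BB_eq h hp cs a hd]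
      exact_mod_cast h1
    · rw [BB_eq h hp cs b hd]
      have := finite_W hp cs
      have h3 : cpr cs hp.isCartan b d ≠ 0 := fun h4 =>
        h2 ((cpr_zero_comm cs hp.isCartan (LL_root h hp cs hb) (LL_root h hp cs hd)).1 h4)
      exact_mod_cast h3
  span := fun x hx => LL_span h hp cs fun a ha => by
    have h1 := hx a ha
    rw [BB_eq h hp cs x ha] at h1
    exact_mod_cast h1

theorem rep_three {w : W} (hw : w ^ 3 = 1) (x : Fin l → ℤ) :
    rep cs hp.isCartan w (rep cs hp.isCartan w (rep cs hp.isCartan w x)) = x := by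
  rw [← rep_mul_apply, ← rep_mul_apply]
  have h1 : w * w * w = 1 := by rw [← hw, pow_succ, pow_two]
  rw [h1, map_one, Module.End.one_apply]

include h in
theorem rank_le (hp : IsType D l M) : l ≤ 8 := by
  rw [← hp.rank_eq]
  simp only [HiList, List.mem_cons, List.not_mem_nil, or_false] at h
  rcases h with rfl | rfl | rfl | rfl | rfl | rfl <;> decide

include h in
/-- **M4b** : the `A₂` of a bad root is permuted cyclically. -/
theorem stab {w v : W} (hc : w * v = v * w) (hw : w ^ 3 = 1) (hv : v ^ 3 = 1) {b : Fin l → ℤ} (hb : b ∈ LL cs hp)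
    (h1 : cpr cs hp.isCartan (rep cs hp.isCartan w b) b = 1) :
    ∃ j : ℕ, rep cs hp.isCartan v (b - rep cs hp.isCartan w b) =
      rep cs hp.isCartan (w ^ j) (b - rep cs hp.isCartan w b) := by
  have := finite_W hp cs
  have := Fintype.ofFinite W
  have H := rsys h hp cs
  rcases H.stab (rank_le h hp) (w := rep cs hp.isCartan w) (v := rep cs hp.isCartan v) (BB_rep hp cs w)
    (fun a ha => LL_rep hp cs ha w) (rep_three hp cs hw) (BB_rep hp cs v) (rep_three hp cs hv)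
    (fun x => by rw [← rep_mul_apply, hc, rep_mul_apply]) hb (by rw [BB_eq h hp cs _ hb, h1, Int.cast_one]) with
    h2 | h2 | h2
  · exact ⟨0, by rw [pow_zero, map_one, Module.End.one_apply, h2]⟩
  · exact ⟨1, by rw [pow_one, h2]⟩
  · exact ⟨2, by rw [pow_two, rep_mul_apply, h2]⟩

variable {w : W} {b : Fin l → ℤ} {s₀ s₁ : W}

include h in
/-- the relation between `w` and `w' = (s₀ s₁)⁻¹ w` -/
theorem rot_rest [Fintype W] (hw : w ^ 3 = 1) (hb : b ∈ LL cs hp)
    (h1 : cpr cs hp.isCartan (rep cs hp.isCartan w b) b = 1)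
    (h0 : ∀ x, rep cs hp.isCartan s₀ x = x - cpr cs hp.isCartan x (b - rep cs hp.isCartan w b) •
      (b - rep cs hp.isCartan w b))
    (h1' : ∀ x, rep cs hp.isCartan s₁ x = x - cpr cs hp.isCartan x (rep cs hp.isCartan w (b - rep cs hp.isCartan w b)) •
      rep cs hp.isCartan w (b - rep cs hp.isCartan w b)) (x : Fin l → ℤ) :
    RSys.rot (fun x => cpr cs hp.isCartan x (b - rep cs hp.isCartan w b))
      (fun x => cpr cs hp.isCartan x (rep cs hp.isCartan w (b - rep cs hp.isCartan w b)))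
      (b - rep cs hp.isCartan w b) (rep cs hp.isCartan w (b - rep cs hp.isCartan w b))
      (rep cs hp.isCartan ((s₀ * s₁)⁻¹ * w) x) = rep cs hp.isCartan w x := by
  have H := rsys h hp cs
  obtain ⟨-, -, -, hcS, -, hc1, -, -⟩ := H.plane (w := rep cs hp.isCartan w) (BB_rep hp cs w)
    (fun a ha => LL_rep hp cs ha w) (rep_three hp cs hw) hb (by rw [BB_eq h hp cs _ hb, h1, Int.cast_one])
  have hdS := LL_rep hp cs hcS w
  generalize b - rep cs hp.isCartan w b = c at *
  generalize rep cs hp.isCartan w c = d at *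
  have hdc : cpr cs hp.isCartan d c = -1 := by
    rw [H.symm, BB_eq h hp cs _ hcS] at hc1
    exact_mod_cast hc1
  have e : rep cs hp.isCartan w x = rep cs hp.isCartan s₀ (rep cs hp.isCartan s₁
      (rep cs hp.isCartan ((s₀ * s₁)⁻¹ * w) x)) := by
    rw [← rep_mul_apply, ← rep_mul_apply]
    congr 2
    group
  rw [e, h1', h0]
  generalize rep cs hp.isCartan ((s₀ * s₁)⁻¹ * w) x = z
  have hcr := LL_root h hp cs hcS
  have := finite_W hp cs
  simp only [RSys.rot]
  rw [cpr_sub hcr, cpr_smul cs _ _ _ hcr, hdc]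
  module

include h in
/-- **M4c** -/
theorem splitA (hw : w ^ 3 = 1) (hb : b ∈ LL cs hp)
    (h1 : cpr cs hp.isCartan (rep cs hp.isCartan w b) b = 1)
    (h0 : ∀ x, rep cs hp.isCartan s₀ x = x - cpr cs hp.isCartan x (b - rep cs hp.isCartan w b) •
      (b - rep cs hp.isCartan w b))
    (h1' : ∀ x, rep cs hp.isCartan s₁ x = x - cpr cs hp.isCartan x (rep cs hp.isCartan w (b - rep cs hp.isCartan w b)) •
      rep cs hp.isCartan w (b - rep cs hp.isCartan w b)) :
    (∀ x, rep cs hp.isCartan w x = x → rep cs hp.isCartan ((s₀ * s₁)⁻¹ * w) x = x) ∧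
      rep cs hp.isCartan ((s₀ * s₁)⁻¹ * w) b = b ∧
      ((s₀ * s₁)⁻¹ * w = 1 ∨ ∃ b' ∈ LL cs hp,
        cpr cs hp.isCartan (rep cs hp.isCartan ((s₀ * s₁)⁻¹ * w) b') b' = 1) := by
  have := finite_W hp cs
  have := Fintype.ofFinite W
  have H := rsys h hp cs
  have hb1 : BB cs hp (rep cs hp.isCartan w b) b = 1 := by rw [BB_eq h hp cs _ hb, h1, Int.cast_one]
  obtain ⟨-, -, -, hcS, -, -, -, -⟩ := H.plane (w := rep cs hp.isCartan w) (BB_rep hp cs w)
    (fun a ha => LL_rep hp cs ha w) (rep_three hp cs hw) hb hb1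
  have hR := rot_rest h hp cs hw hb h1 h0 h1'
  obtain ⟨r1, r2, -, -, -⟩ := H.rest (w := rep cs hp.isCartan w) (u := rep cs hp.isCartan ((s₀ * s₁)⁻¹ * w))
    (BB_rep hp cs w) (fun a ha => LL_rep hp cs ha w) (rep_three hp cs hw) hb hb1 (fun x => BB_eq h hp cs x hcS)
    (fun x => BB_eq h hp cs x (LL_rep hp cs hcS w)) hR
  refine ⟨r1, r2, ?_⟩
  rcases H.split (w := rep cs hp.isCartan w) (u := rep cs hp.isCartan ((s₀ * s₁)⁻¹ * w))
    (BB_rep hp cs w) (fun a ha => LL_rep hp cs ha w) (rep_three hp cs hw) (BB_rep hp cs _) hb hb1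
    (fun x => BB_eq h hp cs x hcS) (fun x => BB_eq h hp cs x (LL_rep hp cs hcS w)) hR with h2 | ⟨a, ha, h2⟩
  · left
    apply rep_injective cs hp.isCartan
    rw [map_one]
    exact LinearMap.ext h2
  · right
    refine ⟨a, ha, ?_⟩
    rw [BB_eq h hp cs _ ha] at h2
    exact_mod_cast h2

end Cfsg.Agent.H875.Mono
end

-- part: H875/Mono/SplitB
section
/-!
# S2187, M4c for `E₆` with the graph automorphism (helper875)

* `splitB` : `γ = ε ρ`, `w` commutes with `γ`, `b ∈ SS hp γ ε`, `⟨w b, b⟩ = 1`: then `w` is the product of the reflections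
  in `c = b - w b` and `w c`.
-/

set_option autoImplicit false
set_option linter.unusedSectionVars false

namespace Cfsg.Agent.H875.Mono

section

variable {B : (Fin 6 → ℤ) → (Fin 6 → ℤ) → ℚ} {S : Set (Fin 6 → ℤ)} (H : RSys B S)

/-- fixed by the graph automorphism of `E₆` -/
def Fx (x : Fin 6 → ℤ) : Prop := x 5 = x 0 ∧ x 4 = x 2

include H

/-- four dimensions are not enough -/
theorem RSys.fix6 {w : Module.End ℤ (Fin 6 → ℤ)} (hw : ∀ x y, B (w x) (w y) = B x y)
    (hwS : ∀ a ∈ S, w a ∈ S) (hw3 : ∀ x, w (w (w x)) = x) (hσ : ∀ x, Fx x → Fx (w x)) {b : Fin 6 → ℤ} (hb : b ∈ S)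
    (h1 : B (w b) b = 1) (hbσ : Fx b) {y : Fin 6 → ℤ} (hy : Fx y) (y0 : B y b = 0) (y1 : B y (w b) = 0)
    (y2 : B y (w (w b)) = 0) : w y = y := by
  by_contra hne
  obtain ⟨h0, hb1, hb2, -, -, -, -, -⟩ := H.plane hw hwS hw3 hb h1
  have hwl : ∀ x y, B (w x) y = B x (w (w y)) := fun x y => by rw [← hw x, hw3]
  have z0 : B b y = 0 := by rw [H.symm, y0]
  have z1 : B b (w y) = 0 := by rw [← hw, ← hw, hw3, H.symm, y2]
  have z2 : B b (w (w y)) = 0 := by rw [← hw, hw3, H.symm, y1]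
  have hd1 : y - w y ≠ 0 := fun e => hne (sub_eq_zero.1 e).symm
  have hd2 : y + w y ≠ 0 := by
    intro e
    have e1 : w y = -y := eq_neg_of_add_eq_zero_right e
    have e2 := hw3 y
    simp only [e1, map_neg, neg_neg] at e2
    exact hne (by rw [e1, e2])
  have p1 := H.pos _ hd1
  have p2 := H.pos _ hd2
  obtain ⟨N, hN⟩ : ∃ N, B y y = N := ⟨_, rfl⟩
  obtain ⟨t, ht⟩ : ∃ t, B y (w y) = t := ⟨_, rfl⟩
  have ht' : B (w y) y = t := by rw [H.symm, ht]
  have hN' : B (w y) (w y) = N := by rw [hw, hN]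
  rw [H.sub_left, H.sub_right, H.sub_right, hN, ht, ht', hN'] at p1
  rw [H.add_left, H.add_right, H.add_right, hN, ht, ht', hN'] at p2
  let φ : (Fin 6 → ℤ) →ₗ[ℤ] (Fin 4 → ℤ) := LinearMap.funLeft ℤ ℤ ![0, 1, 2, 3]
  let f : Fin 5 → Fin 6 → ℤ := ![b, w b, w (w b), y, w y]
  have hli : LinearIndependent ℤ fun i => φ (f i) := by
    rw [Fintype.linearIndependent_iff]
    intro n hn
    have hv : ∑ i, n i • f i = 0 := by
      have e1 : φ (∑ i, n i • f i) = 0 := by
        rw [map_sum, ← hn]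
        exact Finset.sum_congr rfl fun i _ => map_smul _ _ _
      have e2 : Fx (∑ i, n i • f i) := by
        have g : ∀ i, Fx (f i) := by
          intro i
          fin_cases i
          · exact hbσ
          · exact hσ _ hbσ
          · exact hσ _ (hσ _ hbσ)
          · exact hy
          · exact hσ _ hy
        constructor
        · rw [Finset.sum_apply, Finset.sum_apply]
          exact Finset.sum_congr rfl fun i _ => by rw [Pi.smul_apply, Pi.smul_apply, (g i).1]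
        · rw [Finset.sum_apply, Finset.sum_apply]
          exact Finset.sum_congr rfl fun i _ => by rw [Pi.smul_apply, Pi.smul_apply, (g i).2]
      generalize ∑ i, n i • f i = v at e1 e2
      have c0 : v 0 = 0 := congrFun e1 0
      have c1 : v 1 = 0 := congrFun e1 1
      have c2 : v 2 = 0 := congrFun e1 2
      have c3 : v 3 = 0 := congrFun e1 3
      funext i
      fin_cases i
      · exact c0
      · exact c1
      · exact c2
      · exact c3
      · exact e2.2.trans c2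
      · exact e2.1.trans c0
    have key : ∀ y, ∑ p, n p * B (f p) y = 0 := fun y => by
      have h2 := H.sum_left Finset.univ n f y
      rw [hv, H.zero_left] at h2
      exact h2.symm
    have k0 := key b
    have k1 := key (w b)
    have k2 := key (w (w b))
    have k3 := key y
    have k4 := key (w y)
    simp only [Fin.sum_univ_five, f, Matrix.cons_val_zero, Matrix.cons_val_one, Matrix.cons_val] at k0 k1 k2 k3 k4
    simp only [hwl b, hwl (w b), hw3, h0, hb1, hb2, y0, y1, y2, z0, z1, z2, hN, ht, ht', hN', hw y b, hw y (w b),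
      hwl y b] at k0 k1 k2 k3 k4
    have m0 : (n 0 : ℚ) = 0 ∧ (n 1 : ℚ) = 0 ∧ (n 2 : ℚ) = 0 := by
      refine ⟨?_, ?_, ?_⟩ <;> linarith only [k0, k1, k2]
    have m3 : ((n 3 : ℚ) + n 4) * (N + t) = 0 := by linarith only [k3, k4]
    have m4 : ((n 3 : ℚ) - n 4) * (N - t) = 0 := by linarith only [k3, k4]
    have m5 : (n 3 : ℚ) + n 4 = 0 := (mul_eq_zero.1 m3).resolve_right (by intro e; linarith only [p2, e])
    have m6 : (n 3 : ℚ) - n 4 = 0 := (mul_eq_zero.1 m4).resolve_right (by intro e; linarith only [p1, e])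
    have m7 : (n 3 : ℚ) = 0 := by linarith only [m5, m6]
    have m8 : (n 4 : ℚ) = 0 := by linarith only [m5, m6]
    have a0 : n 0 = 0 := by exact_mod_cast m0.1
    have a1 : n 1 = 0 := by exact_mod_cast m0.2.1
    have a2 : n 2 = 0 := by exact_mod_cast m0.2.2
    have a3 : n 3 = 0 := by exact_mod_cast m7
    have a4 : n 4 = 0 := by exact_mod_cast m8
    intro i
    fin_cases i <;> assumption
  have h2 := hli.fintype_card_le_finrank
  rw [Module.finrank_fintype_fun_eq_card, Fintype.card_fin, Fintype.card_fin] at h2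
  omega

/-- what is left fixes the vectors fixed by the graph automorphism -/
theorem RSys.fix6' {w u : Module.End ℤ (Fin 6 → ℤ)} (hw : ∀ x y, B (w x) (w y) = B x y)
    (hwS : ∀ a ∈ S, w a ∈ S) (hw3 : ∀ x, w (w (w x)) = x) (hu : ∀ x y, B (u x) (u y) = B x y)
    (hσ : ∀ x, Fx x → Fx (w x)) {b : Fin 6 → ℤ} (hb : b ∈ S)
    (h1 : B (w b) b = 1) (hbσ : Fx b) {P Q : (Fin 6 → ℤ) → ℤ} (hP : ∀ x, B x (b - w b) = P x)
    (hQ : ∀ x, B x (w (b - w b)) = Q x) (hR : ∀ x, RSys.rot P Q (b - w b) (w (b - w b)) (u x) = w x)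
    {x : Fin 6 → ℤ} (hx : Fx x) : u x = x := by
  obtain ⟨-, ub, uc, ud, u3⟩ := H.rest hw hwS hw3 hb h1 hP hQ hR
  obtain ⟨h0, hb1, hb2, -, -, -, -, -⟩ := H.plane hw hwS hw3 hb h1
  have uwb : u (w b) = w b := by
    have e : w b = b - (b - w b) := by abel
    rw [e, map_sub, ub, uc]
  have uwwb : u (w (w b)) = w (w b) := by
    have e : w (w b) = b - (b - w b) - w (b - w b) := by rw [map_sub]; abel
    rw [e, map_sub, map_sub, ub, uc, ud]
  have t1 : B (w b) (w b) = 2 := by rw [hw, h0]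
  have t2 : B (w (w b)) (w (w b)) = 2 := by rw [hw, hw, h0]
  have t3 : B (w b) (w (w b)) = 1 := by rw [hw, hb1]
  have t4 : B (w b) b = 1 := by rw [H.symm, hb1]
  have t5 : B (w (w b)) b = 1 := by rw [H.symm, hb2]
  have t6 : B (w (w b)) (w b) = 1 := by rw [H.symm, t3]
  obtain ⟨q0, e0⟩ := H.int b hb x
  obtain ⟨q1, e1⟩ := H.int (w b) (hwS b hb) x
  obtain ⟨q2, e2⟩ := H.int (w (w b)) (hwS _ (hwS b hb)) x
  have hfadd : ∀ (m n : ℤ) (x y : Fin 6 → ℤ), Fx x → Fx y → Fx (m • x - n • y) := by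
    intro m n x y hx hy
    constructor
    · rw [Pi.sub_apply, Pi.sub_apply, Pi.smul_apply, Pi.smul_apply, Pi.smul_apply, Pi.smul_apply, hx.1, hy.1]
    · rw [Pi.sub_apply, Pi.sub_apply, Pi.smul_apply, Pi.smul_apply, Pi.smul_apply, Pi.smul_apply, hx.2, hy.2]
  obtain ⟨y, hy⟩ : ∃ y, y = (1 : ℤ) • ((1 : ℤ) • ((4 : ℤ) • x - (3 * q0 - q1 - q2) • b) -
      (3 * q1 - q0 - q2) • w b) - (3 * q2 - q0 - q1) • w (w b) := ⟨_, rfl⟩
  have hyF : Fx y := by
    rw [hy]
    exact hfadd _ _ _ _ (hfadd _ _ _ _ (hfadd _ _ _ _ hx hbσ) (hσ _ hbσ)) (hσ _ (hσ _ hbσ))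
  rw [one_smul, one_smul] at hy
  have y0 : B y b = 0 := by
    rw [hy]
    simp only [H.sub_left, H.smul_left, e0, h0, t4, t5]
    push_cast; ring
  have y1 : B y (w b) = 0 := by
    rw [hy]
    simp only [H.sub_left, H.smul_left, e1, hb1, t1, t6]
    push_cast; ring
  have y2 : B y (w (w b)) = 0 := by
    rw [hy]
    simp only [H.sub_left, H.smul_left, e2, hb2, t2, t3]
    push_cast; ring
  have hwy := H.fix6 hw hwS hw3 hσ hb h1 hbσ hyF y0 y1 y2
  have c0 : B (u y) (b - w b) = 0 := by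
    nth_rw 1 [← uc]
    rw [hu, H.sub_right, y0, y1, sub_zero]
  have c1 : B (u y) (w (b - w b)) = 0 := by
    nth_rw 1 [← ud]
    rw [hu, map_sub, H.sub_right, y1, y2, sub_zero]
  rw [hP] at c0
  rw [hQ] at c1
  have c0' : P (u y) = 0 := by exact_mod_cast c0
  have c1' : Q (u y) = 0 := by exact_mod_cast c1
  have huy : u y = y := by
    have h2 := hR y
    rw [hwy] at h2
    simp only [RSys.rot, c0', c1'] at h2
    rwa [add_zero, zero_smul, zero_smul, sub_zero, sub_zero] at h2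
  have h4 : (4 : ℤ) • x = y + (3 * q0 - q1 - q2) • b + (3 * q1 - q0 - q2) • w b + (3 * q2 - q0 - q1) • w (w b) := by
    rw [hy]; abel
  have h5 : u ((4 : ℤ) • x) = (4 : ℤ) • x := by
    rw [h4, map_add, map_add, map_add, map_smul, map_smul, map_smul, huy, ub, uwb, uwwb]
  rw [map_smul] at h5
  exact smul_right_injective _ (by norm_num : (4 : ℤ) ≠ 0) h5

end

section

open CoxeterSystem Cfsg Cfsg.Lie Cfsg.Lie.ChevalleyDatum
open Cfsg.Agent.ChevalleyStructure Cfsg.Agent.ChevalleyStructure.Elts Cfsg.Agent.ChevalleyStructure.CoxeterGeom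
  Cfsg.Agent.ChevalleyStructure.CoxeterGeomTypes Cfsg.Agent.ChevalleyStructure.NPerm
open Cfsg.Agent.Tits.Roots Cfsg.Agent.Tits.Core Cfsg.Agent.Nodes Cfsg.Agent.Nodes.Reps Cfsg.Agent.Nodes.BNOf
  Cfsg.Agent.Nodes.Coroot Cfsg.Agent.Nodes.SubComb Cfsg.Agent.KFacts.RgdSL Cfsg.Agent.H123.ExcComb
  Cfsg.Agent.Nodes.RGDChev Cfsg.Agent.BpExc.Fr
open Cfsg.Agent.H818.StrP.UTab Cfsg.Agent.H818.StrP.UAct
open Cfsg.Agent.H225.Gen (LL LL_rep LL_root LL_refl form_sum')
open Cfsg.Agent.H496.Mono (SS)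

/-- an element fixing a strictly dominant vector is trivial -/
theorem eq_one_of_dominant {I W : Type*} [Fintype I] [DecidableEq I] [Group W] {M : CoxeterMatrix I}
    (cs : CoxeterSystem M W) {A : I → I → ℤ} (h : IsCartan M A) [Finite W] {w : W} {x : I → ℤ}
    (hx : ∀ i, 0 < pairing A i x) (hw : rep cs h w x = x) : w = 1 := by
  have := Fintype.ofFinite W
  refine eq_one_of_nonneg cs h w fun i => ?_
  rcases nonneg_or_nonpos cs h w i with h1 | h1
  · exact h1
  exfalso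
  have hpos : ∀ j, 0 < form cs h (sr j) x := by
    intro j
    have h2 := two_form cs h j x
    have h3 := form_pos cs h (isRoot_sr cs h j).ne_zero
    rw [form_comm]
    have h4 := mul_pos (hx j) h3
    omega
  have h2 : form cs h (rep cs h w (sr i)) x = form cs h (sr i) x := by
    conv_lhs => rw [← hw]
    exact form_rep cs h w _ _
  have h3 : form cs h (rep cs h w (sr i)) x ≤ 0 := by
    have h1' : rep cs h w (sr i) ≤ 0 := h1
    generalize rep cs h w (sr i) = v at h1'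
    have h4 : form cs h (∑ k, v k • sr k) x ≤ 0 := by
      rw [form_sum']
      refine Finset.sum_nonpos fun k _ => ?_
      exact mul_nonpos_of_nonpos_of_nonneg (h1' k) (hpos k).le
    rwa [← eq_sum_sr v] at h4
  have h4 := hpos i
  omega

/-- twice the half-sum of the positive roots of `E₆` -/
def x6 : Fin 6 → ℤ := ![16, 22, 30, 42, 30, 16]

theorem pairing_x6 (i : Fin 6) : 0 < pairing (cartanOf chevE6 6) i x6 := by
  revert i
  decide +kernel

theorem Fx_x6 : Fx x6 := ⟨rfl, rfl⟩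

theorem Fx_iff (x : Fin 6 → ℤ) : Fx x ↔ H720.TwFr.permE H720.TwFr.rho6 x = x := by
  constructor
  · intro hx
    funext i
    fin_cases i
    · exact hx.1
    · rfl
    · exact hx.2
    · rfl
    · exact hx.2.symm
    · exact hx.1.symm
  · intro hx
    exact ⟨congrFun hx 0, congrFun hx 2⟩

/-- **M4c** for `E₆` and `γ = ε ρ` -/
theorem splitB {M : CoxeterMatrix (Fin 6)} (hp : IsType chevE6 6 M) {γ : (Fin 6 → ℤ) ≃+ (Fin 6 → ℤ)} {ε : ℤ}
    (hε : ε = 1 ∨ ε = -1) (hγ : ∀ x, γ x = ε • H720.TwFr.permE H720.TwFr.rho6 x) {w : M.Group} (hw : w ^ 3 = 1)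
    (hγw : ∀ x, γ (rep M.toCoxeterSystem hp.isCartan w x) = rep M.toCoxeterSystem hp.isCartan w (γ x))
    {b : Fin 6 → ℤ} (hb : b ∈ SS hp γ ε)
    (h1 : cpr M.toCoxeterSystem hp.isCartan (rep M.toCoxeterSystem hp.isCartan w b) b = 1) {s₀ s₁ : M.Group}
    (h0 : ∀ x, rep M.toCoxeterSystem hp.isCartan s₀ x = x -
      cpr M.toCoxeterSystem hp.isCartan x (b - rep M.toCoxeterSystem hp.isCartan w b) •
        (b - rep M.toCoxeterSystem hp.isCartan w b))
    (h1' : ∀ x, rep M.toCoxeterSystem hp.isCartan s₁ x = x -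
      cpr M.toCoxeterSystem hp.isCartan x
        (rep M.toCoxeterSystem hp.isCartan w (b - rep M.toCoxeterSystem hp.isCartan w b)) •
        rep M.toCoxeterSystem hp.isCartan w (b - rep M.toCoxeterSystem hp.isCartan w b)) :
    (s₀ * s₁)⁻¹ * w = 1 := by
  have h : HiList chevE6 := by simp [HiList]
  have hfin := finite_W hp M.toCoxeterSystem
  have hft := Fintype.ofFinite M.Group
  have H := rsys h hp M.toCoxeterSystem
  obtain ⟨hbL, hbγ⟩ := hb
  have hε0 : ε ≠ 0 := by rcases hε with rfl | rfl <;> norm_num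
  have hbσ : Fx b := by
    rw [Fx_iff]
    rw [hγ] at hbγ
    exact smul_right_injective _ hε0 hbγ
  have hσ : ∀ x, Fx x → Fx (rep M.toCoxeterSystem hp.isCartan w x) := by
    intro x hx
    rw [Fx_iff] at hx ⊢
    have h2 := hγw x
    rw [hγ, hγ, hx, map_smul] at h2
    exact smul_right_injective _ hε0 h2
  have hb1 : BB M.toCoxeterSystem hp (rep M.toCoxeterSystem hp.isCartan w b) b = 1 := by
    rw [BB_eq h hp _ _ hbL, h1, Int.cast_one]
  obtain ⟨-, -, -, hcS, -, -, -, -⟩ := H.plane (w := rep M.toCoxeterSystem hp.isCartan w) (BB_rep hp _ w)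
    (fun a ha => LL_rep hp _ ha w) (rep_three hp _ hw) hbL hb1
  have hR := rot_rest h hp M.toCoxeterSystem hw hbL h1 h0 h1'
  have h2 := H.fix6' (w := rep M.toCoxeterSystem hp.isCartan w)
    (u := rep M.toCoxeterSystem hp.isCartan ((s₀ * s₁)⁻¹ * w)) (BB_rep hp _ w) (fun a ha => LL_rep hp _ ha w)
    (rep_three hp _ hw) (BB_rep hp _ _) hσ hbL hb1 hbσ (fun x => BB_eq h hp _ x hcS)
    (fun x => BB_eq h hp _ x (LL_rep hp _ hcS w)) hR Fx_x6
  exact eq_one_of_dominant M.toCoxeterSystem hp.isCartan pairing_x6 h2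

end

end Cfsg.Agent.H875.Mono
end

-- part: H46/X4/NoPlus
section
/-!
# S2187, non-toral `E`: frames without `60°` (M6b, helper46)

* `exists_good` : the potential argument (`|E ∩ T|` maximal, then the number of roots fixed by a bad element maximal);
* `PStab`, `PSplitA`, `PSplitB` : the lattice facts M4b, M4c;
* `noPlusA`, `noPlusB` : `PNoPlusA m`, `PNoPlusB m` from the lattice facts; `pNoPlusA`, `pNoPlusB` : without hypotheses.
-/

set_option autoImplicit false
set_option linter.unusedSectionVars false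

universe v

namespace Cfsg.Agent.H46.X4

open CoxeterSystem Cfsg Cfsg.Lie Cfsg.Lie.ChevalleyDatum
open Cfsg.Agent.ChevalleyStructure Cfsg.Agent.ChevalleyStructure.Elts Cfsg.Agent.ChevalleyStructure.CoxeterGeom
  Cfsg.Agent.ChevalleyStructure.CoxeterGeomTypes Cfsg.Agent.ChevalleyStructure.NPerm
open Cfsg.Agent.Tits.Roots Cfsg.Agent.Tits.Core Cfsg.Agent.Nodes Cfsg.Agent.Nodes.Reps Cfsg.Agent.Nodes.BNOf
  Cfsg.Agent.Nodes.SubComb Cfsg.Agent.Nodes.RGDChev Cfsg.Agent.Nodes.Bruhat Cfsg.Agent.Nodes.Coroot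
open Cfsg.Agent.KFacts.RgdField Cfsg.Agent.KFacts.RgdChevCoord
open Cfsg.Agent.BpExc Cfsg.Agent.BpExc.TorCent Cfsg.Agent.BpExc.TorChev Cfsg.Agent.BpExc.Tow
  Cfsg.Agent.BpExc.TowChev Cfsg.Agent.BpExc.Fr Cfsg.Agent.BpExc.LangFr
open Cfsg.Agent.H469.Exc Cfsg.Agent.H316.U6 Cfsg.Agent.H818.Gen Cfsg.Agent.H818.Mono Cfsg.Agent.H696.GmnToral
open Cfsg.Agent.H225.Gen (LL LL_rep LL_root LL_neg LL_long LL_refl)
open Cfsg.Agent.H496.Mono Cfsg.Agent.H46.Gen
open Cfsg.Agent.H818.StrP.UTab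

variable {D : ChevalleyDatum} {l : ℕ} {M : CoxeterMatrix (Fin l)} {hp : IsType D l M}

/-! ### the potential argument -/

section Good

variable {r : ℕ} [Fact r.Prime] {q : ℕ} {K₀ : Type v} [Group K₀]

/-- the part of `E` in the torus of the frame -/
def tp (E : Subgroup ↥(D.group (KK r))) (z : ↥(D.group (KK r))) : Set ↥E := {x | z⁻¹ * x.1 * z ∈ TT D (KK r)}

theorem mem_tp {E : Subgroup ↥(D.group (KK r))} {z : ↥(D.group (KK r))} {x : ↥E} :
    x ∈ tp E z ↔ z⁻¹ * x.1 * z ∈ TT D (KK r) := Iff.rfl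

/-- the roots fixed by `w` -/
def fx (hp : IsType D l M) (w : M.Group) : Set (Fin D.nroots) :=
  {s | rep M.toCoxeterSystem hp.isCartan w (vec D l s) = vec D l s}

/-- **The potential argument.** -/
theorem exists_good (m : MData hp r q K₀) {E : Subgroup ↥(D.group (KK r))} [Finite ↥E] {γ : (Fin l → ℤ) ≃+ (Fin l → ℤ)}
    {bad : M.Group → Prop}
    (hstep : ∀ z, NFrame m E z γ → ∀ f ∈ E, ∀ w, NR hp r w (z⁻¹ * f * z) → bad w →
      ∃ y w', NFrame m E (z * y) γ ∧
        (∀ x ∈ E, z⁻¹ * x * z ∈ TT D (KK r) → (z * y)⁻¹ * x * (z * y) ∈ TT D (KK r)) ∧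
        NR hp r w' ((z * y)⁻¹ * f * (z * y)) ∧ (w' = 1 ∨ bad w') ∧
        (∀ x, rep M.toCoxeterSystem hp.isCartan w x = x → rep M.toCoxeterSystem hp.isCartan w' x = x) ∧
        ∃ b, IsRoot M.toCoxeterSystem hp.isCartan b ∧ rep M.toCoxeterSystem hp.isCartan w' b = b ∧
          rep M.toCoxeterSystem hp.isCartan w b ≠ b)
    {z : ↥(D.group (KK r))} (hz : NFrame m E z γ) :
    ∃ z', NFrame m E z' γ ∧ ∀ f ∈ E, ∀ w, NR hp r w (z'⁻¹ * f * z') → ¬ bad w := by
  have hE : ∀ z, (tp E z).ncard ≤ Nat.card ↥E := fun z => by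
    rw [← Set.ncard_univ]
    exact Set.ncard_le_ncard (Set.subset_univ _) Set.finite_univ
  have hR : ∀ w : M.Group, (fx hp w).ncard ≤ D.nroots := fun w => by
    have h1 := Set.ncard_le_ncard (Set.subset_univ (fx hp w)) Set.finite_univ
    rwa [Set.ncard_univ, Nat.card_eq_fintype_card, Fintype.card_fin] at h1
  -- inner induction
  have inner : ∀ n : ℕ, ∀ z, NFrame m E z γ → ∀ f ∈ E, ∀ w, NR hp r w (z⁻¹ * f * z) → bad w →
      D.nroots - (fx hp w).ncard = n → ∃ z', NFrame m E z' γ ∧ (tp E z).ncard < (tp E z').ncard := by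
    intro n
    induction n using Nat.strong_induction_on with
    | _ n ih =>
      intro z hz f hf w hw hbad hn
      obtain ⟨y, w', hF, hT, hw', hor, hfix, b, hb, hb1, hb2⟩ := hstep z hz f hf w hw hbad
      have hsub : tp E z ⊆ tp E (z * y) := fun x hx => mem_tp.2 (hT x.1 x.2 (mem_tp.1 hx))
      have hle := Set.ncard_le_ncard hsub (Set.toFinite _)
      rcases hor with h1 | h1
      · -- `f` is in the torus
        have hnot : ¬ tp E (z * y) ⊆ tp E z := by
          intro hcon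
          have h2 : (⟨f, hf⟩ : ↥E) ∈ tp E (z * y) := by
            rw [h1] at hw'
            exact mem_tp.2 (nr_mem_T hw')
          have h2' := mem_tp.1 (hcon h2)
          have h3 := (nr_mem_T_iff hw).1 h2'
          apply hb2
          rw [h3, map_one, Module.End.one_apply]
        exact ⟨z * y, hF, Set.ncard_lt_ncard (Set.ssubset_iff_exists.2
          ⟨hsub, Set.not_subset.1 hnot⟩) (Set.toFinite _)⟩
      · have hlt : (fx hp w).ncard < (fx hp w').ncard := by
          obtain ⟨s, hs, e⟩ := (isRoot_iff hp M.toCoxeterSystem _).1 hb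
          refine Set.ncard_lt_ncard (Set.ssubset_iff_exists.2 ⟨fun s hs => hfix _ hs, ⟨s, hs⟩, ?_, ?_⟩) (Set.toFinite _)
          · show rep M.toCoxeterSystem hp.isCartan w' (vec D l s) = vec D l s
            rw [e]; exact hb1
          · intro h3
            have h4 : rep M.toCoxeterSystem hp.isCartan w (vec D l s) = vec D l s := h3
            rw [e] at h4
            exact hb2 h4
        have h4 := hR w'
        obtain ⟨z', hz', h5⟩ := ih _ (by omega) (z * y) hF f hf w' hw' h1 rfl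
        exact ⟨z', hz', lt_of_le_of_lt hle h5⟩
  -- outer induction
  have outer : ∀ n : ℕ, ∀ z, NFrame m E z γ → Nat.card ↥E - (tp E z).ncard = n →
      ∃ z', NFrame m E z' γ ∧ ∀ f ∈ E, ∀ w, NR hp r w (z'⁻¹ * f * z') → ¬ bad w := by
    intro n
    induction n using Nat.strong_induction_on with
    | _ n ih =>
      intro z hz hn
      by_cases hc : ∀ f ∈ E, ∀ w, NR hp r w (z⁻¹ * f * z) → ¬ bad w
      · exact ⟨z, hz, hc⟩
      · push Not at hc
        obtain ⟨f, hf, w, hw, hbad⟩ := hc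
        obtain ⟨z', hz', h1⟩ := inner _ z hz f hf w hw hbad rfl
        have h2 := hE z'
        exact ih _ (by omega) z' hz' rfl
  exact outer _ z hz rfl

end Good

/-! ### the lattice facts (M4b, M4c) -/

/-- **M4b** -/
def PStab (hp : IsType D l M) : Prop :=
  ∀ w v : M.Group, w * v = v * w → w ^ 3 = 1 → v ^ 3 = 1 → ∀ b ∈ LL M.toCoxeterSystem hp,
    cpr M.toCoxeterSystem hp.isCartan (rep M.toCoxeterSystem hp.isCartan w b) b = 1 →
    ∃ j : ℕ, rep M.toCoxeterSystem hp.isCartan v (b - rep M.toCoxeterSystem hp.isCartan w b) =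
      rep M.toCoxeterSystem hp.isCartan (w ^ j) (b - rep M.toCoxeterSystem hp.isCartan w b)

/-- **M4c**, `γ = ε` -/
def PSplitA (hp : IsType D l M) : Prop :=
  ∀ w : M.Group, w ^ 3 = 1 → ∀ b ∈ LL M.toCoxeterSystem hp,
    cpr M.toCoxeterSystem hp.isCartan (rep M.toCoxeterSystem hp.isCartan w b) b = 1 →
    ∀ s₀ s₁ : M.Group, IsRfl hp s₀ (b - rep M.toCoxeterSystem hp.isCartan w b) →
      IsRfl hp s₁ (rep M.toCoxeterSystem hp.isCartan w (b - rep M.toCoxeterSystem hp.isCartan w b)) →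
      (∀ x, rep M.toCoxeterSystem hp.isCartan w x = x →
        rep M.toCoxeterSystem hp.isCartan ((s₀ * s₁)⁻¹ * w) x = x) ∧
      rep M.toCoxeterSystem hp.isCartan ((s₀ * s₁)⁻¹ * w) b = b ∧
      ((s₀ * s₁)⁻¹ * w = 1 ∨ ∃ b' ∈ LL M.toCoxeterSystem hp,
        cpr M.toCoxeterSystem hp.isCartan (rep M.toCoxeterSystem hp.isCartan ((s₀ * s₁)⁻¹ * w) b') b' = 1)

/-- **M4c**, `E₆`, `γ = ε ρ` -/
def PSplitB {M : CoxeterMatrix (Fin 6)} (hp : IsType chevE6 6 M) : Prop :=
  ∀ (γ : (Fin 6 → ℤ) ≃+ (Fin 6 → ℤ)) (ε : ℤ), (ε = 1 ∨ ε = -1) →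
    (∀ x, γ x = ε • H720.TwFr.permE H720.TwFr.rho6 x) →
    ∀ w : M.Group, w ^ 3 = 1 →
    (∀ x, γ (rep M.toCoxeterSystem hp.isCartan w x) = rep M.toCoxeterSystem hp.isCartan w (γ x)) →
    ∀ b ∈ SS hp γ ε, cpr M.toCoxeterSystem hp.isCartan (rep M.toCoxeterSystem hp.isCartan w b) b = 1 →
    ∀ s₀ s₁ : M.Group, IsRfl hp s₀ (b - rep M.toCoxeterSystem hp.isCartan w b) →
      IsRfl hp s₁ (rep M.toCoxeterSystem hp.isCartan w (b - rep M.toCoxeterSystem hp.isCartan w b)) →
      (s₀ * s₁)⁻¹ * w = 1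

section Main

variable {r : ℕ} [Fact r.Prime] {q : ℕ} {K₀ : Type v} [Group K₀]

theorem VE_gam' {p e : ℕ} {τ : MulAut ↥(D.group (KK r))} {γ : (Fin l → ℤ) ≃+ (Fin l → ℤ)}
    {E H : Subgroup ↥(D.group (KK r))} (S : Sit hp r p e τ γ E H) {v : M.Group} (hv : v ∈ VE hp r E)
    (x : Fin l → ℤ) : γ (rep M.toCoxeterSystem hp.isCartan v x) = rep M.toCoxeterSystem hp.isCartan v (γ x) := by
  conv_lhs => rw [eq_sum_sr x]
  conv_rhs => rw [eq_sum_sr x]
  rw [map_sum, map_sum, map_sum, map_sum]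
  refine Finset.sum_congr rfl fun i _ => ?_
  rw [map_zsmul, map_zsmul, map_zsmul, map_zsmul, VE_gam S hv (isRoot_sr _ _ i)]

/-- the step of the potential argument, for any consequence of the splitting -/
theorem noPlus_of (h : HiList D) (hs : PStab hp) (m : MData hp r q K₀) {γ : (Fin l → ℤ) ≃+ (Fin l → ℤ)} {ε : ℤ}
    (hsplit : ∀ w : M.Group, w ^ 3 = 1 →
      (∀ x, γ (rep M.toCoxeterSystem hp.isCartan w x) = rep M.toCoxeterSystem hp.isCartan w (γ x)) →
      ∀ b ∈ SS hp γ ε, cpr M.toCoxeterSystem hp.isCartan (rep M.toCoxeterSystem hp.isCartan w b) b = 1 →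
      ∀ s₀ s₁ : M.Group, IsRfl hp s₀ (b - rep M.toCoxeterSystem hp.isCartan w b) →
        IsRfl hp s₁ (rep M.toCoxeterSystem hp.isCartan w (b - rep M.toCoxeterSystem hp.isCartan w b)) →
        (∀ x, rep M.toCoxeterSystem hp.isCartan w x = x →
          rep M.toCoxeterSystem hp.isCartan ((s₀ * s₁)⁻¹ * w) x = x) ∧
        rep M.toCoxeterSystem hp.isCartan ((s₀ * s₁)⁻¹ * w) b = b ∧
        ((s₀ * s₁)⁻¹ * w = 1 ∨ ∃ b' ∈ SS hp γ ε,
          cpr M.toCoxeterSystem hp.isCartan (rep M.toCoxeterSystem hp.isCartan ((s₀ * s₁)⁻¹ * w) b') b' = 1)) :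
    PNoPlusAt m γ ε := by
  intro E hE hσ hr2 hr3 hq z hε hz
  have := finite_W hp M.toCoxeterSystem
  have hfin : Finite ↥E := by
    have := m.fin
    refine Finite.of_injective (fun x : ↥E => (⟨x.1, hσ x.1 x.2⟩ : ↥(fixedSubgroup m.σ))) fun a b hab => ?_
    exact Subtype.ext (congrArg (fun t : ↥(fixedSubgroup m.σ) => t.1) hab)
  have hε' : Eps 3 (r ^ m.e) ε := by rw [m.hq]; exact hε
  have key : ∃ z', NFrame m E z' γ ∧ ∀ f ∈ E, ∀ w, NR hp r w (z'⁻¹ * f * z') → ¬ ∃ b ∈ SS hp γ ε,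
      cpr M.toCoxeterSystem hp.isCartan (rep M.toCoxeterSystem hp.isCartan w b) b = 1 := by
    refine exists_good m (bad := fun w => ∃ b ∈ SS hp γ ε,
      cpr M.toCoxeterSystem hp.isCartan (rep M.toCoxeterSystem hp.isCartan w b) b = 1) ?_ hz
    rintro z hz f hf w hw ⟨b, hb, hb1⟩
    set! E' := E.map (MulAut.conj z⁻¹).toMonoidHom with hE'
    have S := hz.sit hE hσ
    have hmem : ∀ x ∈ E, z⁻¹ * x * z ∈ E' := by
      intro x hx
      refine ⟨x, hx, ?_⟩
      show z⁻¹ * x * z⁻¹⁻¹ = _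
      rw [inv_inv]
    have hbr := LL_root h _ _ hb.1
    have hfE := hmem f hf
    have hw3 := pow_w S hfE hw
    have hcr : IsRoot M.toCoxeterSystem hp.isCartan (b - rep M.toCoxeterSystem hp.isCartan w b) := by
      have h2 := (isRoot_refl M.toCoxeterSystem hp.isCartan (hbr.act w) hbr).neg
      rwa [hb1, one_smul, neg_sub] at h2
    obtain ⟨s₀, hs₀⟩ := exists_rfl' hp hcr
    obtain ⟨s₁, hs₁⟩ := exists_rfl' hp (hcr.act w)
    obtain ⟨y, hy1, hy2, hy3, hy4⟩ := imp_three h hr3 S hε' hfE hw hb hb1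
      (fun v hv => hs w v (VE_comm S ⟨_, hfE, hw⟩ hv) hw3 (VE_pow S hv) b hb.1 hb1) hs₀ hs₁
    obtain ⟨h3, h4, h5⟩ := hsplit w hw3 (VE_gam' S ⟨_, hfE, hw⟩) b hb hb1 s₀ s₁ hs₀ hs₁
    have e2 : ∀ x, (z * y)⁻¹ * x * (z * y) = y⁻¹ * (z⁻¹ * x * z) * y := fun x => by group
    refine ⟨y, (s₀ * s₁)⁻¹ * w, hz.change hy1 fun x hx => hy2 _ (hmem x hx), fun x hx hxT => ?_, ?_, h5, h3, b, hbr, h4,
      fun hcon => ?_⟩
    · rw [e2]
      exact hy3 _ (hmem x hx) hxT
    · rw [e2]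
      exact hy4
    · rw [hcon, cpr_self _ _ hbr] at hb1
      norm_num at hb1
  obtain ⟨z', hz', h1⟩ := key
  refine ⟨z', hz', ?_⟩
  rintro _ ⟨f, hf, rfl⟩ w hw b hb hcon
  have e1 : (MulAut.conj z'⁻¹).toMonoidHom f = z'⁻¹ * f * z' := by
    show z'⁻¹ * f * z'⁻¹⁻¹ = _
    rw [inv_inv]
  rw [e1] at hw
  exact h1 f hf w hw ⟨b, hb, hcon⟩

/-- **M6b**, `γ = ε` -/
theorem noPlusA (h : HiList D) (hs : PStab hp) (hA : PSplitA hp) (m : MData hp r q K₀) : PNoPlusA m := by
  intro γ ε hγ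
  refine noPlus_of h hs m fun w hw3 _ b hb hb1 s₀ s₁ hs₀ hs₁ => ?_
  obtain ⟨h1, h2, h3⟩ := hA w hw3 b hb.1 hb1 s₀ s₁ hs₀ hs₁
  refine ⟨h1, h2, ?_⟩
  rcases h3 with h3 | ⟨b', hb', h4⟩
  · exact Or.inl h3
  · exact Or.inr ⟨b', ⟨hb', hγ b'⟩, h4⟩

/-- **M6b**, `E₆`, `γ = ε ρ` -/
theorem noPlusB {M : CoxeterMatrix (Fin 6)} {hp : IsType chevE6 6 M} (h : HiList chevE6) (hs : PStab hp)
    (hB : PSplitB hp) (m : MData hp r q K₀) : PNoPlusB m := by
  intro γ ε hγ E hE hσ hr2 hr3 hq z hε hz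
  refine noPlus_of h hs m (fun w hw3 hwγ b hb hb1 s₀ s₁ hs₀ hs₁ => ?_) E hE hσ hr2 hr3 hq z hε hz
  have h1 := hB γ ε hε.1 hγ w hw3 hwγ b hb hb1 s₀ s₁ hs₀ hs₁
  rw [h1]
  exact ⟨fun x _ => by rw [map_one, Module.End.one_apply], by rw [map_one, Module.End.one_apply], Or.inl rfl⟩

end Main

end Cfsg.Agent.H46.X4
end

private theorem dce_f967f8c4e9c7 : _root_.True := by
  try have : _root_.True := by simp only [_root_.Cfsg.Agent.H818.Mono.NR.congr_simp]
  try have : _root_.True := by simp only [_root_.Cfsg.Agent.H46.X4.dl.congr_simp]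
  try have : _root_.True := by simp only [_root_.Cfsg.Agent.H875.Mono.RSys.rot.eq_1]
  try have : _root_.True := by simp only [_root_.Cfsg.Agent.H46.X4.cycLast.eq_1]
  exact _root_.True.intro
end

-- part: H82/Mono/Refl
section
prune_inst 0x34001d000300000000000000c0003e529600000200488000884000000480ce400002802014201010000080040030006811000000420000000a0004000118018010800204b048a000400006000000610000000000000000000000000000000000000000000
set_option linter.all false
open scoped Cfsg.Agent.FastGrp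

/-!
# S2187, X4: the reflections in the roots `c` with `γ c = ± c` (helper82)

`SL₂(k)`, `k` algebraically closed of characteristic `r ≠ 2`: the matrix `t ↦ (0, t; -t⁻¹, 0)` fixed by a Frobenius map is a
product of unipotent fixed elements.

* `Refl.exists_rep` : `γ c = ± c`, the `r`-elements of `⟨X c, X (-c)⟩` fixed by `τ` are in `H`: some `n ∈ H` fixed by `τ`
  represents the reflection in `c`;
* `Refl.ins_rep`, `Refl.ins_refl` : conjugation of `InS`.
-/

set_option autoImplicit false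
set_option linter.unusedSectionVars false

namespace Cfsg.Agent.H82.Mono.Refl

open CoxeterSystem Cfsg Cfsg.Lie Cfsg.Lie.ChevalleyDatum
open Cfsg.Agent.ChevalleyStructure Cfsg.Agent.ChevalleyStructure.Elts Cfsg.Agent.ChevalleyStructure.CoxeterGeom
  Cfsg.Agent.ChevalleyStructure.CoxeterGeomTypes Cfsg.Agent.ChevalleyStructure.NPerm
open Cfsg.Agent.Tits.Roots Cfsg.Agent.Tits.Core Cfsg.Agent.Nodes Cfsg.Agent.Nodes.Reps Cfsg.Agent.Nodes.BNOf
  Cfsg.Agent.Nodes.SubComb Cfsg.Agent.Nodes.RGDChev Cfsg.Agent.Nodes.Bruhat Cfsg.Agent.Nodes.Coroot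
open Cfsg.Agent.KFacts.RgdField Cfsg.Agent.KFacts.RgdChevCoord
open Cfsg.Agent.BpExc Cfsg.Agent.BpExc.TorCent Cfsg.Agent.BpExc.TorChev Cfsg.Agent.BpExc.Tow
  Cfsg.Agent.BpExc.TowChev Cfsg.Agent.BpExc.Fr Cfsg.Agent.BpExc.LangFr
open Cfsg.Agent.H469.Exc Cfsg.Agent.H316.U6 Cfsg.Agent.H818.Gen Cfsg.Agent.H818.Mono Cfsg.Agent.H496.Mono
open Cfsg.Agent.ChevalleyStructure.SL2Hom (up lo mem_closure_SL2)
open Cfsg.Agent.OddHalf.LongSL.Chev (phi phi_up phi_lo phi_eq_one)

/-! ### `SL₂` -/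

section SL

variable {k : Type} [Field k]

theorem det_eq (A : Matrix.SpecialLinearGroup (Fin 2) k) : A.1 0 0 * A.1 1 1 - A.1 0 1 * A.1 1 0 = 1 := by
  rw [← Matrix.det_fin_two]; exact A.2

/-- two homomorphisms of `SL₂` agreeing on the unitriangular elements -/
theorem ext2 {Y : Type*} [Group Y] {f g : Matrix.SpecialLinearGroup (Fin 2) k →* Y} (h1 : ∀ a, f (up a) = g (up a))
    (h2 : ∀ a, f (lo a) = g (lo a)) (A : Matrix.SpecialLinearGroup (Fin 2) k) : f A = g A := by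
  have h3 : Subgroup.closure (Set.range (up (F := k)) ∪ Set.range (lo (F := k))) ≤ f.eqLocus g := by
    rw [Subgroup.closure_le]
    rintro _ (⟨a, rfl⟩ | ⟨a, rfl⟩)
    · exact h1 a
    · exact h2 a
  exact h3 (mem_closure_SL2 A)

/-- the Frobenius map followed by the conjugation with `diag (c, 1)` -/
def fp (f : k →+* k) (c : k) (hc : c ≠ 0) :
    Matrix.SpecialLinearGroup (Fin 2) k →* Matrix.SpecialLinearGroup (Fin 2) k :=
  MonoidHom.mk' (fun A => ⟨!![f (A.1 0 0), c * f (A.1 0 1); c⁻¹ * f (A.1 1 0), f (A.1 1 1)], by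
    have h1 := congrArg f (det_eq A)
    rw [map_sub, map_mul, map_mul, map_one] at h1
    rw [Matrix.det_fin_two_of]
    refine Eq.trans ?_ h1
    field_simp⟩) (by
    intro A B
    apply Subtype.ext
    show !![f ((A * B).1 0 0), c * f ((A * B).1 0 1); c⁻¹ * f ((A * B).1 1 0), f ((A * B).1 1 1)] =
      !![f (A.1 0 0), c * f (A.1 0 1); c⁻¹ * f (A.1 1 0), f (A.1 1 1)] *
        !![f (B.1 0 0), c * f (B.1 0 1); c⁻¹ * f (B.1 1 0), f (B.1 1 1)]
    rw [Matrix.SpecialLinearGroup.coe_mul]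
    ext i j
    (revert i j; simp only [Matrix.mul_apply, Fin.sum_univ_two, _root_.Fin.forall_fin_succ, Fin.isValue, _root_.map_add, _root_.map_mul, _root_.Matrix.of_apply, _root_.Matrix.cons_val', _root_.Matrix.cons_val_fin_one, _root_.Matrix.cons_val_zero, _root_.Matrix.cons_val_one, _root_.Matrix.cons_val_succ, _root_.forall_const, _root_.add_right_inj, _root_.add_left_inj]) <;> (repeat' with_reducible apply And.intro) <;> field_simp)

/-- the Frobenius map followed by the conjugation with an antidiagonal matrix -/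
def fn (f : k →+* k) (c : k) (hc : c ≠ 0) :
    Matrix.SpecialLinearGroup (Fin 2) k →* Matrix.SpecialLinearGroup (Fin 2) k :=
  MonoidHom.mk' (fun A => ⟨!![f (A.1 1 1), c⁻¹ * f (A.1 1 0); c * f (A.1 0 1), f (A.1 0 0)], by
    have h1 := congrArg f (det_eq A)
    rw [map_sub, map_mul, map_mul, map_one] at h1
    rw [Matrix.det_fin_two_of]
    refine Eq.trans ?_ h1
    field_simp⟩) (by
    intro A B
    apply Subtype.ext
    show !![f ((A * B).1 1 1), c⁻¹ * f ((A * B).1 1 0); c * f ((A * B).1 0 1), f ((A * B).1 0 0)] =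
      !![f (A.1 1 1), c⁻¹ * f (A.1 1 0); c * f (A.1 0 1), f (A.1 0 0)] *
        !![f (B.1 1 1), c⁻¹ * f (B.1 1 0); c * f (B.1 0 1), f (B.1 0 0)]
    rw [Matrix.SpecialLinearGroup.coe_mul]
    ext i j
    (revert i j; simp only [Matrix.mul_apply, Fin.sum_univ_two, _root_.Fin.forall_fin_succ, Fin.isValue, _root_.map_add, _root_.map_mul, _root_.Matrix.of_apply, _root_.Matrix.cons_val', _root_.Matrix.cons_val_fin_one, _root_.Matrix.cons_val_zero, _root_.Matrix.cons_val_one, _root_.Matrix.cons_val_succ, _root_.forall_const]) <;> (repeat' with_reducible apply And.intro) <;> field_simp <;> ring)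

theorem fp_apply (f : k →+* k) (c : k) (hc : c ≠ 0) (A : Matrix.SpecialLinearGroup (Fin 2) k) :
    (fp f c hc A).1 = !![f (A.1 0 0), c * f (A.1 0 1); c⁻¹ * f (A.1 1 0), f (A.1 1 1)] := rfl

theorem fn_apply (f : k →+* k) (c : k) (hc : c ≠ 0) (A : Matrix.SpecialLinearGroup (Fin 2) k) :
    (fn f c hc A).1 = !![f (A.1 1 1), c⁻¹ * f (A.1 1 0); c * f (A.1 0 1), f (A.1 0 0)] := rfl

theorem coe_up (a : k) : (up a).1 = !![1, a; 0, 1] := rfl

theorem coe_lo (a : k) : (lo a).1 = !![1, 0; a, 1] := rfl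

theorem fp_up (f : k →+* k) (c : k) (hc : c ≠ 0) (a : k) : fp f c hc (up a) = up (c * f a) := by
  apply Subtype.ext
  rw [fp_apply, coe_up, coe_up]
  simp

theorem fp_lo (f : k →+* k) (c : k) (hc : c ≠ 0) (a : k) : fp f c hc (lo a) = lo (c⁻¹ * f a) := by
  apply Subtype.ext
  rw [fp_apply, coe_lo, coe_lo]
  simp only [_root_.Fin.isValue, _root_.Matrix.of_apply, _root_.Matrix.cons_val', _root_.Matrix.cons_val_zero, _root_.Matrix.cons_val_fin_one, _root_.map_one, _root_.Matrix.cons_val_one, _root_.map_zero, _root_.MulZeroClass.mul_zero]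

theorem fn_up (f : k →+* k) (c : k) (hc : c ≠ 0) (a : k) : fn f c hc (up a) = lo (c * f a) := by
  apply Subtype.ext
  rw [fn_apply, coe_up, coe_lo]
  simp

theorem fn_lo (f : k →+* k) (c : k) (hc : c ≠ 0) (a : k) : fn f c hc (lo a) = up (c⁻¹ * f a) := by
  apply Subtype.ext
  rw [fn_apply, coe_up, coe_lo]
  simp only [_root_.Fin.isValue, _root_.Matrix.of_apply, _root_.Matrix.cons_val', _root_.Matrix.cons_val_one, _root_.Matrix.cons_val_fin_one, _root_.map_one, _root_.Matrix.cons_val_zero, _root_.map_zero, _root_.MulZeroClass.mul_zero]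

theorem pow_tr (A : Matrix.SpecialLinearGroup (Fin 2) k) (h : A.1 0 0 + A.1 1 1 = 2) (m : ℕ) :
    (A ^ m).1 = !![1 + m * (A.1 0 0 - 1), m * A.1 0 1; m * A.1 1 0, 1 + m * (A.1 1 1 - 1)] := by
  have h1 := det_eq A
  have h2 : A.1 1 1 = 2 - A.1 0 0 := by linear_combination h
  induction m with
  | zero => rw [pow_zero, Matrix.SpecialLinearGroup.coe_one, Matrix.one_fin_two]; simp only [_root_.Nat.cast_zero, _root_.Fin.isValue, _root_.MulZeroClass.zero_mul, _root_.add_zero]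
  | succ m ih =>
    rw [pow_succ, Matrix.SpecialLinearGroup.coe_mul, ih]
    ext i j
    (revert i j; simp only [Matrix.mul_apply, Fin.sum_univ_two, _root_.Fin.forall_fin_succ, Fin.isValue, _root_.Matrix.of_apply, _root_.Matrix.cons_val', _root_.Matrix.cons_val_fin_one, _root_.Matrix.cons_val_zero, _root_.Matrix.cons_val_one, _root_.Nat.cast_add, _root_.Nat.cast_one, _root_.Matrix.cons_val_succ, _root_.Fin.succ_zero_eq_one, _root_.IsEmpty.forall_iff, _root_.forall_const, _root_.and_true, _root_.true_and]) <;> (repeat' with_reducible apply And.intro)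
    · rw [h2] at h1; linear_combination -(m : k) * h1
    · rw [h2]; ring
    · rw [h2]; ring
    · rw [h2] at h1 ⊢; linear_combination -(m : k) * h1

theorem pow_char (r : ℕ) [CharP k r] (A : Matrix.SpecialLinearGroup (Fin 2) k) (h : A.1 0 0 + A.1 1 1 = 2) :
    A ^ r = 1 := by
  apply Subtype.ext
  rw [pow_tr A h, Matrix.SpecialLinearGroup.coe_one, Matrix.one_fin_two, CharP.cast_eq_zero]
  simp

/-- the monomial matrices -/
def nn (t : k) : Matrix.SpecialLinearGroup (Fin 2) k := up t * lo (-t⁻¹) * up t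

theorem coe_nn {t : k} (ht : t ≠ 0) : (nn t).1 = !![0, t; -t⁻¹, 0] := by
  show !![(1 : k), t; 0, 1] * !![1, 0; -t⁻¹, 1] * !![1, t; 0, 1] = _
  ext i j
  (revert i j; simp only [Matrix.mul_apply, Fin.sum_univ_two, ht, _root_.Fin.forall_fin_succ, _root_.Matrix.cons_mul, _root_.Nat.succ_eq_add_one, Nat.reduceAdd, _root_.Matrix.vecMul_cons, _root_.Matrix.head_cons, _root_.one_smul, _root_.Matrix.tail_cons, _root_.Matrix.smul_cons, _root_.smul_eq_mul, _root_.mul_neg, _root_.ne_eq, _root_.not_false_eq_true, _root_.mul_inv_cancel₀, _root_.mul_one, _root_.Matrix.smul_empty, _root_.Matrix.empty_vecMul, _root_.add_zero, _root_.Matrix.add_cons, _root_.add_neg_cancel, _root_.zero_add, _root_.Matrix.empty_add_empty, _root_.zero_smul, _root_.Matrix.empty_mul, _root_.Equiv.symm_apply_apply, _root_.Matrix.of_apply, _root_.Matrix.cons_val', _root_.Matrix.cons_val_fin_one, Fin.isValue, _root_.Matrix.cons_val_zero, _root_.Matrix.cons_val_one, _root_.MulZeroClass.mul_zero,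 _root_.Matrix.cons_val_succ, _root_.forall_const, _root_.true_and, _root_.MulZeroClass.zero_mul, _root_.neg_mul, _root_.inv_mul_cancel₀, _root_.neg_add_cancel, _root_.implies_true, _root_.and_self])

variable [IsAlgClosed k] {f : k →+* k} {q : ℕ}

/-- **The matrix `nn t`, split case.** -/
theorem exists_fp (hf : ∀ x, f x = x ^ q) (hq : 1 < q) {c : k} (hc : c ≠ 0) :
    ∃ t : k, t ≠ 0 ∧ fp f c hc (up t) = up t ∧ fp f c hc (lo (-t⁻¹)) = lo (-t⁻¹) := by
  obtain ⟨t, ht⟩ := IsAlgClosed.exists_pow_nat_eq c⁻¹ (n := q - 1) (by omega)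
  have ht0 : t ≠ 0 := by
    rintro rfl
    rw [zero_pow (by omega)] at ht
    exact inv_ne_zero hc ht.symm
  have h1 : c * f t = t := by
    have h2 : t ^ q = t ^ (q - 1) * t := by rw [← pow_succ]; congr 1; omega
    rw [hf, h2, ht]
    field_simp
  refine ⟨t, ht0, by rw [fp_up, h1], ?_⟩
  rw [fp_lo, map_neg, map_inv₀]
  congr 1
  have h3 : f t = c⁻¹ * t := by rw [← h1]; field_simp; rw [h1]
  rw [h3]
  field_simp

/-- `x² + y² = 1`, `f x = -x`, `f y = -y` -/
theorem exists_xy (h2 : (2 : k) ≠ 0) (hf : ∀ x, f x = x ^ q) (hq : 1 < q) :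
    ∃ x y : k, f x = -x ∧ f y = -y ∧ x ^ 2 + y ^ 2 = 1 := by
  obtain ⟨i, hi⟩ := IsAlgClosed.exists_pow_nat_eq (-1 : k) (n := 2) (by norm_num)
  have hi0 : i ≠ 0 := by
    rintro rfl
    rw [zero_pow two_ne_zero] at hi
    exact neg_ne_zero.2 one_ne_zero hi.symm
  have h3 : f i = i ∨ f i = -i := by
    have h4 : f i ^ 2 = -1 := by rw [← map_pow, hi, map_neg, map_one]
    have h5 : (f i - i) * (f i + i) = 0 := by linear_combination h4 - hi
    rcases mul_eq_zero.1 h5 with h6 | h6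
    · left; exact sub_eq_zero.1 h6
    · right; exact eq_neg_of_add_eq_zero_left h6
  have hf2 : f 2 = 2 := map_ofNat f 2
  rcases h3 with h3 | h3
  · obtain ⟨z, hz⟩ := IsAlgClosed.exists_pow_nat_eq (-1 : k) (n := q - 1) (by omega)
    have hz0 : z ≠ 0 := by
      rintro rfl
      rw [zero_pow (by omega)] at hz
      exact neg_ne_zero.2 one_ne_zero hz.symm
    have h4 : f z = -z := by
      have h2 : z ^ q = z ^ (q - 1) * z := by rw [← pow_succ]; congr 1; omega
      rw [hf, h2, hz]; ring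
    refine ⟨(z + z⁻¹) / 2, (z - z⁻¹) / (2 * i), ?_, ?_, ?_⟩
    · rw [map_div₀, map_add, map_inv₀, h4, hf2]; field_simp; ring
    · rw [map_div₀, map_sub, map_inv₀, map_mul, h4, hf2, h3]; field_simp; ring
    · field_simp
      linear_combination ((z ^ 2 + 1) ^ 2 - 4 * z ^ 2) * hi
  · obtain ⟨z, hz⟩ := IsAlgClosed.exists_pow_nat_eq (-1 : k) (n := q + 1) (by omega)
    have hz0 : z ≠ 0 := by
      rintro rfl
      rw [zero_pow (by omega)] at hz
      exact neg_ne_zero.2 one_ne_zero hz.symm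
    have h4 : f z = -z⁻¹ := by
      rw [hf]
      rw [pow_succ] at hz
      field_simp
      linear_combination hz
    refine ⟨(z + z⁻¹) / 2, (z - z⁻¹) / (2 * i), ?_, ?_, ?_⟩
    · rw [map_div₀, map_add, map_inv₀, h4, hf2]; field_simp; ring
    · rw [map_div₀, map_sub, map_inv₀, map_mul, h4, hf2, h3]; field_simp; ring
    · field_simp
      linear_combination ((z ^ 2 + 1) ^ 2 - 4 * z ^ 2) * hi

/-- **The matrix `nn t`, nonsplit case.** -/
theorem exists_fn (h2 : (2 : k) ≠ 0) (hf : ∀ x, f x = x ^ q) (hq : 1 < q) {c : k} (hc : c ≠ 0) :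
    ∃ t : k, t ≠ 0 ∧ ∃ u v : Matrix.SpecialLinearGroup (Fin 2) k, fn f c hc u = u ∧ fn f c hc v = v ∧
      u.1 0 0 + u.1 1 1 = 2 ∧ v.1 0 0 + v.1 1 1 = 2 ∧ u * v = nn t := by
  obtain ⟨t, ht⟩ := IsAlgClosed.exists_pow_nat_eq (-c⁻¹) (n := q + 1) (by omega)
  have ht0 : t ≠ 0 := by
    rintro rfl
    rw [zero_pow (by omega)] at ht
    exact neg_ne_zero.2 (inv_ne_zero hc) ht.symm
  have hft : f t = -(c * t)⁻¹ := by
    rw [hf]
    rw [pow_succ] at ht
    have : t ^ q * t = -c⁻¹ := ht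
    rw [mul_inv, ← neg_mul, ← this]
    field_simp
  obtain ⟨x, y, hx, hy, hxy⟩ := exists_xy h2 hf hq
  let u : Matrix.SpecialLinearGroup (Fin 2) k := ⟨!![1 + x, (1 + y) * t; -((1 - y) * t⁻¹), 1 - x], by
    rw [Matrix.det_fin_two_of]
    field_simp
    linear_combination -hxy⟩
  let v : Matrix.SpecialLinearGroup (Fin 2) k := ⟨!![1 + y, (1 - x) * t; -((1 + x) * t⁻¹), 1 - y], by
    rw [Matrix.det_fin_two_of]
    field_simp
    linear_combination -hxy⟩
  refine ⟨t, ht0, u, v, ?_, ?_, ?_, ?_, ?_⟩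
  · apply Subtype.ext
    rw [fn_apply]
    show !![f (1 - x), c⁻¹ * f (-((1 - y) * t⁻¹)); c * f ((1 + y) * t), f (1 + x)] =
      !![1 + x, (1 + y) * t; -((1 - y) * t⁻¹), 1 - x]
    rw [map_sub, map_add, map_one, hx, map_neg, map_mul, map_sub, map_one, hy, map_inv₀, hft, map_mul, map_add,
      map_one, hy, hft]
    congr 1
    ext i j
    (revert i j; simp only [_root_.Fin.forall_fin_succ, _root_.Nat.succ_eq_add_one, Nat.reduceAdd, _root_.sub_neg_eq_add, _root_.mul_inv_rev, _root_.inv_neg, _root_.inv_inv, _root_.mul_neg, _root_.neg_neg, _root_.Matrix.cons_val', _root_.Matrix.cons_val_fin_one, Fin.isValue, _root_.Matrix.cons_val_zero, _root_.Matrix.cons_val_succ, _root_.forall_const, _root_.true_and, _root_.neg_inj]) <;> (repeat' with_reducible apply And.intro) <;> field_simp <;> try ring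
  · apply Subtype.ext
    rw [fn_apply]
    show !![f (1 - y), c⁻¹ * f (-((1 + x) * t⁻¹)); c * f ((1 - x) * t), f (1 + y)] =
      !![1 + y, (1 - x) * t; -((1 + x) * t⁻¹), 1 - y]
    rw [map_sub, map_add, map_one, hy, map_neg, map_mul, map_add, map_one, hx, map_inv₀, hft, map_mul, map_sub,
      map_one, hx, hft]
    congr 1
    ext i j
    (revert i j; simp only [_root_.Fin.forall_fin_succ, _root_.Nat.succ_eq_add_one, Nat.reduceAdd, _root_.sub_neg_eq_add, _root_.mul_inv_rev, _root_.inv_neg, _root_.inv_inv, _root_.mul_neg, _root_.neg_neg, _root_.Matrix.cons_val', _root_.Matrix.cons_val_fin_one, Fin.isValue, _root_.Matrix.cons_val_zero, _root_.Matrix.cons_val_succ, _root_.forall_const, _root_.true_and, _root_.neg_inj]) <;> (repeat' with_reducible apply And.intro) <;> field_simp <;> try ring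
  · show (1 + x) + (1 - x) = 2
    ring
  · show (1 + y) + (1 - y) = 2
    ring
  · apply Subtype.ext
    rw [coe_nn ht0]
    show !![1 + x, (1 + y) * t; -((1 - y) * t⁻¹), 1 - x] * !![1 + y, (1 - x) * t; -((1 + x) * t⁻¹), 1 - y] = _
    ext i j
    (revert i j; simp only [Matrix.mul_apply, Fin.sum_univ_two, _root_.Fin.forall_fin_succ, _root_.Matrix.of_apply, _root_.Matrix.cons_val', _root_.Matrix.cons_val_fin_one, Fin.isValue, _root_.Matrix.cons_val_zero, _root_.Matrix.cons_val_one, _root_.mul_neg, _root_.Matrix.cons_val_succ, _root_.forall_const, _root_.neg_mul, _root_.and_true, _root_.true_and]) <;> (repeat' with_reducible apply And.intro) <;> field_simp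
    · ring
    · linear_combination -hxy
    · linear_combination hxy
    · ring

end SL

/-! ### the group -/

section Y

variable {D : ChevalleyDatum} {l : ℕ} {M : CoxeterMatrix (Fin l)} (hp : IsType D l M) (r : ℕ) [Fact r.Prime]

theorem phi_up' (i : Fin l) (a : KK r) : phi hp (KK r) i (up a) = xc hp (sr i) a := by
  apply Subtype.ext
  rw [phi_up]
  have h1 := coe_xc (K := KK r) hp (simple_lt hp.inList (lt_rank hp i)) a
  rw [vec_simple hp] at h1
  exact h1.symm

theorem phi_lo' (i : Fin l) (a : KK r) : phi hp (KK r) i (lo a) = xc hp (-sr i) a := by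
  apply Subtype.ext
  rw [phi_lo]
  have h0 := simple_lt hp.inList (lt_rank hp i)
  have h1 := coe_xc (K := KK r) hp (neg_lt hp.inList h0) a
  rw [vec_neg hp h0, vec_simple hp] at h1
  exact h1.symm

theorem phi_ker {i : Fin l} {g : Matrix.SpecialLinearGroup (Fin 2) (KK r)} (hg : phi hp (KK r) i g = 1) :
    g = 1 ∨ g = -1 :=
  phi_eq_one (SL2All.good_of_mem D hp.inList (D.simple i) (simple_lt hp.inList (lt_rank hp i)))
    (congrArg Subtype.val hg)

theorem phi_mem (i : Fin l) (g : Matrix.SpecialLinearGroup (Fin 2) (KK r)) :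
    phi hp (KK r) i g ∈ RGD.Sup (XX D l (KK r)) {sr i, -sr i} := by
  have hs := simple_lt hp.inList (lt_rank hp i)
  have h1 : g ∈ (RGD.Sup (XX D l (KK r)) {sr i, -sr i}).comap (phi hp (KK r) i) := by
    refine (Subgroup.closure_le _).2 ?_ (mem_closure_SL2 g)
    rintro x (⟨t, rfl⟩ | ⟨t, rfl⟩)
    · show phi hp (KK r) i (up t) ∈ RGD.Sup (XX D l (KK r)) {sr i, -sr i}
      rw [phi_up']
      refine RGD.le_Sup (S := {sr i, -sr i}) (Set.mem_insert _ _) ?_
      rw [← vec_simple hp]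
      exact (HX.mem_XX_xc hp hs).2 ⟨t, rfl⟩
    · show phi hp (KK r) i (lo t) ∈ RGD.Sup (XX D l (KK r)) {sr i, -sr i}
      rw [phi_lo']
      refine RGD.le_Sup (S := {sr i, -sr i}) (Set.mem_insert_of_mem _ rfl) ?_
      rw [← vec_simple hp, ← vec_neg hp hs]
      exact (HX.mem_XX_xc hp (neg_lt hp.inList hs)).2 ⟨t, rfl⟩
  exact h1

theorem nr_nn (i : Fin l) {t : KK r} (ht : t ≠ 0) :
    NR hp r (M.toCoxeterSystem.simple i) (phi hp (KK r) i (nn t)) := by
  have h1 : phi hp (KK r) i (nn t) = hc hp i t * nc hp (KK r) i := by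
    apply Subtype.ext
    show ((phi hp (KK r) i (up t * lo (-t⁻¹) * up t) : ↥(D.group (KK r))) : GL D.Idx (KK r)) =
      hG hp.inList (D.simple i) t * nG hp.inList (D.simple i) 1
    rw [map_mul, map_mul, Subgroup.coe_mul, Subgroup.coe_mul, phi_up, phi_lo, hG_def,
      mul_assoc (nG hp.inList (D.simple i) t)]
    have h1 : nG hp.inList (D.simple i) (-1 : KK r) * nG hp.inList (D.simple i) 1 = 1 := by
      have e1 : (-(-1 : KK r)⁻¹) = 1 := by rw [inv_neg_one, _root_.neg_neg]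
      have e2 : (-(1 : KK r)⁻¹) = -1 := by rw [inv_one]
      rw [nG_def, nG_def, e1, e2, ← xG_inv hp.inList (D.simple i) (1 : KK r),
        ← xG_inv hp.inList (D.neg (D.simple i)) (1 : KK r)]
      group
    rw [h1, mul_one, nG_def, mul_assoc]
  rw [h1]
  have h2 := nr_mul (nr_of_T (hp := hp) (r := r) (hc_mem hp i ht))
    (rp_simple (cs := M.toCoxeterSystem) (tow (k := KK r) hp M.toCoxeterSystem (locFin r) r).nsys i)
  rwa [one_mul] at h2

theorem two_ne (hr2 : r ≠ 2) : (2 : KK r) ≠ 0 := by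
  intro h
  have h1 : ((2 : ℕ) : KK r) = 0 := by exact_mod_cast h
  rw [CharP.cast_eq_zero_iff (KK r) r] at h1
  exact hr2 ((Nat.prime_dvd_prime_iff_eq Fact.out Nat.prime_two).1 h1)

theorem ab_eq (hr2 : r ≠ 2) {i : Fin l} {A B : KK r} (hA : A ≠ 0)
    (h : phi hp (KK r) i (up A * lo B * up A) = phi hp (KK r) i (lo B * up A * lo B)) : A * B = -1 := by
  have h1 : phi hp (KK r) i ((up A * lo B * up A) * (lo B * up A * lo B)⁻¹) = 1 := by
    rw [map_mul, map_inv, h, mul_inv_cancel]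
  have e1 : (up A * lo B * up A : Matrix.SpecialLinearGroup (Fin 2) (KK r)).1 =
      !![1 + A * B, A * (2 + A * B); B, 1 + A * B] := by
    show !![1, A; 0, 1] * !![1, 0; B, 1] * !![1, A; 0, 1] = _
    ext i j
    (revert i j; simp only [Matrix.mul_apply, Fin.sum_univ_two, _root_.Fin.forall_fin_succ, _root_.Matrix.cons_mul, _root_.Nat.succ_eq_add_one, Nat.reduceAdd, _root_.Matrix.vecMul_cons, _root_.Matrix.head_cons, _root_.one_smul, _root_.Matrix.tail_cons, _root_.Matrix.smul_cons, _root_.smul_eq_mul, _root_.mul_one, _root_.Matrix.smul_empty, _root_.Matrix.empty_vecMul, _root_.add_zero, _root_.Matrix.add_cons, _root_.zero_add, _root_.Matrix.empty_add_empty, _root_.zero_smul, _root_.Matrix.empty_mul, _root_.Equiv.symm_apply_apply, _root_.Matrix.of_apply, _root_.Matrix.cons_val', _root_.Matrix.cons_val_fin_one, Fin.isValue, _root_.Matrix.cons_val_zero, _root_.Matrix.cons_val_one, _root_.MulZeroClass.mul_zero, _root_.Matrix.cons_val_succ,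 _root_.forall_const, _root_.true_and]) <;> (repeat' with_reducible apply And.intro) <;> ring
  have e2 : (lo B * up A * lo B : Matrix.SpecialLinearGroup (Fin 2) (KK r)).1 =
      !![1 + A * B, A; B * (2 + A * B), 1 + A * B] := by
    show !![1, 0; B, 1] * !![1, A; 0, 1] * !![1, 0; B, 1] = _
    ext i j
    (revert i j; simp only [Matrix.mul_apply, Fin.sum_univ_two, _root_.Fin.forall_fin_succ, _root_.Matrix.cons_mul, _root_.Nat.succ_eq_add_one, Nat.reduceAdd, _root_.Matrix.vecMul_cons, _root_.Matrix.head_cons, _root_.one_smul, _root_.Matrix.tail_cons, _root_.zero_smul, _root_.Matrix.empty_vecMul, _root_.add_zero, _root_.Matrix.smul_cons, _root_.smul_eq_mul, _root_.mul_one, _root_.Matrix.smul_empty, _root_.Matrix.add_cons, _root_.Matrix.empty_add_empty, _root_.Matrix.empty_mul, _root_.Equiv.symm_apply_apply, _root_.Matrix.of_apply, _root_.Matrix.cons_val', _root_.Matrix.cons_val_fin_one, Fin.isValue, _root_.Matrix.cons_val_zero, _root_.Matrix.cons_val_one,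 _root_.Matrix.cons_val_succ, _root_.MulZeroClass.mul_zero, _root_.zero_add, _root_.forall_const, _root_.and_self, _root_.true_and]) <;> (repeat' with_reducible apply And.intro) <;> ring
  rcases phi_ker hp r h1 with h2 | h2
  · have h3 := congrArg (fun g : Matrix.SpecialLinearGroup (Fin 2) (KK r) => g.1 0 1) (mul_inv_eq_one.1 h2)
    simp only [e1, e2] at h3
    have h4 : A * (2 + A * B) = A := by simpa only [_root_.Fin.isValue, _root_.Matrix.of_apply, _root_.Matrix.cons_val', _root_.Matrix.cons_val_one, _root_.Matrix.cons_val_fin_one, _root_.Matrix.cons_val_zero] using h3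
    have h5 : 2 + A * B = 1 := mul_left_cancel₀ hA (by rw [h4, mul_one])
    linear_combination h5
  · rw [mul_inv_eq_iff_eq_mul, neg_one_mul] at h2
    have h3 := congrArg (fun g : Matrix.SpecialLinearGroup (Fin 2) (KK r) => g.1 0 0) h2
    simp only [Matrix.SpecialLinearGroup.coe_neg, Matrix.neg_apply, e1, e2] at h3
    have h4 : 1 + A * B = -(1 + A * B) := by simpa only [_root_.neg_add_rev, _root_.Fin.isValue, _root_.Matrix.of_apply, _root_.Matrix.cons_val', _root_.Matrix.cons_val_zero, _root_.Matrix.cons_val_fin_one] using h3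
    have h5 : (2 : KK r) * (1 + A * B) = 0 := by linear_combination h4
    rcases mul_eq_zero.1 h5 with h6 | h6
    · exact absurd h6 (two_ne r hr2)
    · linear_combination h6

variable {r} {e : ℕ} {τ : MulAut ↥(D.group (KK r))} {γ : (Fin l → ℤ) ≃+ (Fin l → ℤ)}

/-- **The fundamental reflections.** -/
theorem exists_simple (hr2 : r ≠ 2) (he : 0 < e) (hτ : IsFrob r e τ)
    (F : Fr M.toCoxeterSystem hp.isCartan (TT D (KK r)) (XX D l (KK r)) τ γ) (i : Fin l) {ε : ℤ}
    (hε : ε = 1 ∨ ε = -1) (hγ : γ (sr i) = ε • sr i) :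
    ∃ n ∈ Subgroup.closure {u | u ∈ RGD.Sup (XX D l (KK r)) {sr i, -sr i} ∧ τ u = u ∧ ∃ j : ℕ, u ^ r ^ j = 1},
      NR hp r (M.toCoxeterSystem.simple i) n ∧ τ n = n := by
  have hri := isRoot_sr M.toCoxeterSystem hp.isCartan i
  obtain ⟨c1, hc1, h1⟩ := HX.fr_xc hp M.toCoxeterSystem hτ F hri
  obtain ⟨c2, hc2, h2⟩ := HX.fr_xc hp M.toCoxeterSystem hτ F hri.neg
  have hq : 1 < r ^ e := Nat.one_lt_pow he.ne' (Fact.out : r.Prime).one_lt
  let f : KK r →+* KK r := iterateFrobenius (KK r) r e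
  have hf : ∀ x, f x = x ^ r ^ e := fun x => iterateFrobenius_def ..
  have hodd : Odd (r ^ e) := by
    rcases (Fact.out : r.Prime).eq_two_or_odd' with h | h
    · exact absurd h hr2
    · exact h.pow
  have hru : ∀ u : Matrix.SpecialLinearGroup (Fin 2) (KK r), u.1 0 0 + u.1 1 1 = 2 →
      τ (phi hp (KK r) i u) = phi hp (KK r) i u → phi hp (KK r) i u ∈ Subgroup.closure
        {u | u ∈ RGD.Sup (XX D l (KK r)) {sr i, -sr i} ∧ τ u = u ∧ ∃ j : ℕ, u ^ r ^ j = 1} := by
    intro u hu hτu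
    refine Subgroup.subset_closure ⟨phi_mem hp r i u, hτu, 1, ?_⟩
    rw [pow_one, ← map_pow, pow_char r u hu, map_one]
  have hbr : nn (1 : KK r) = lo (-1) * up 1 * lo (-1) := by
    apply Subtype.ext
    rw [coe_nn one_ne_zero]
    show _ = !![1, 0; (-1 : KK r), 1] * !![1, 1; 0, 1] * !![1, 0; -1, 1]
    ext i j
    (revert i j; simp only [Matrix.mul_apply, Fin.sum_univ_two, _root_.Fin.forall_fin_succ, _root_.inv_one, _root_.Matrix.of_apply, _root_.Matrix.cons_val', _root_.Matrix.cons_val_fin_one, _root_.Matrix.cons_mul, _root_.Nat.succ_eq_add_one, Nat.reduceAdd, _root_.Matrix.vecMul_cons, _root_.Matrix.head_cons, _root_.one_smul, _root_.Matrix.tail_cons, _root_.zero_smul, _root_.Matrix.empty_vecMul, _root_.add_zero, _root_.neg_smul, _root_.Matrix.neg_cons, _root_.Matrix.neg_empty, _root_.Matrix.add_cons, _root_.neg_add_cancel, _root_.Matrix.empty_add_empty, _root_.Matrix.empty_mul, _root_.Equiv.symm_apply_apply, Fin.isValue, _root_.Matrix.cons_val_zero,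 _root_.Matrix.cons_val_one, _root_.mul_one, _root_.mul_neg, _root_.Matrix.cons_val_succ, _root_.MulZeroClass.mul_zero, _root_.zero_add, _root_.implies_true, _root_.and_true, _root_.add_neg_cancel, _root_.neg_zero, _root_.and_self])
  have hbr' : up (1 : KK r) * lo (-1) * up 1 = lo (-1) * up 1 * lo (-1) := by
    rw [← hbr, nn, inv_one]
  have hτ1 : τ (phi hp (KK r) i (up 1 * lo (-1) * up 1)) = τ (phi hp (KK r) i (lo (-1) * up 1 * lo (-1))) := by
    rw [hbr']
  rcases hε with rfl | rfl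
  · have g1 : γ (sr i) = sr i := by rw [hγ, one_smul]
    have g2 : γ (-sr i) = -sr i := by rw [map_neg, g1]
    rw [g1] at h1
    rw [g2] at h2
    ((conv at hτ1 => enter [@2, @6]; rw [map_mul]); (conv at hτ1 => enter [@2]; rw [map_mul]); (conv at hτ1 => enter [@2, @5, @6]; rw [map_mul]); (conv at hτ1 => enter [@2, @5]; rw [map_mul]); (conv at hτ1 => enter [@3, @6]; rw [map_mul]); (conv at hτ1 => enter [@3]; rw [map_mul]); (conv at hτ1 => enter [@3, @5, @6]; rw [map_mul]); (conv at hτ1 => enter [@3, @5]; rw [map_mul]); (conv at hτ1 => enter [@2, @5, @5, @6]; rw [phi_up']); (conv at hτ1 => enter [@2, @6, @6]; rw [phi_up']); (conv at hτ1 => enter [@3, @5, @6, @6]; rw [phi_up']); (conv at hτ1 => enter [@2, @5, @6, @6]; rw [phi_lo']); (conv at hτ1 => enter [@3, @5, @5, @6]; rw [phi_lo']); (conv at hτ1 => enter [@3, @6, @6]; rw [phi_lo']); rewrite [h1, h2, one_pow, hodd.neg_one_pow, mul_one] at hτ1; simp only [mul_neg_one] at hτ1; rewrite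 [← phi_up', ← phi_lo'] at hτ1; (conv at hτ1 => enter [@2, @5]; rw [← map_mul]); (conv at hτ1 => enter [@2]; rw [← map_mul]); (conv at hτ1 => enter [@3, @5]; rw [← map_mul]); rewrite [← map_mul] at hτ1)
    have h3 := ab_eq hp r hr2 hc1 hτ1
    have h4 : c2 = c1⁻¹ := by
      field_simp
      linear_combination -h3
    have h5 : ∀ A, τ (phi hp (KK r) i A) = phi hp (KK r) i (fp f c1 hc1 A) := by
      intro A
      refine ext2 (f := τ.toMonoidHom.comp (phi hp (KK r) i)) (g := (phi hp (KK r) i).comp (fp f c1 hc1))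
        (fun a => ?_) (fun a => ?_) A
      · show τ (phi hp (KK r) i (up a)) = phi hp (KK r) i (fp f c1 hc1 (up a))
        rw [fp_up, phi_up', phi_up', h1, hf]
      · show τ (phi hp (KK r) i (lo a)) = phi hp (KK r) i (fp f c1 hc1 (lo a))
        rw [fp_lo, phi_lo', phi_lo', h2, hf, h4]
    obtain ⟨t, ht0, ht1, ht2⟩ := exists_fp hf hq hc1
    refine ⟨phi hp (KK r) i (nn t), ?_, nr_nn hp r i ht0, ?_⟩
    · rw [nn, map_mul, map_mul]
      have k1 := hru (up t) (by rw [coe_up]; simp; norm_num) (by rw [h5, ht1])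
      have k2 := hru (lo (-t⁻¹)) (by rw [coe_lo]; simp; norm_num) (by rw [h5, ht2])
      exact mul_mem (mul_mem k1 k2) k1
    · rw [h5, nn, map_mul (fp f c1 hc1), map_mul (fp f c1 hc1), ht1, ht2]
  · have g1 : γ (sr i) = -sr i := by rw [hγ, neg_smul, one_smul]
    have g2 : γ (-sr i) = sr i := by rw [map_neg, g1, neg_neg]
    rw [g1] at h1
    rw [g2] at h2
    (rewrite [map_mul, map_mul] at hτ1; (conv at hτ1 => enter [@2, @5, @6]; rw [map_mul]); (conv at hτ1 => enter [@2, @5]; rw [map_mul]); (conv at hτ1 => enter [@3, @6]; rw [map_mul]); (conv at hτ1 => enter [@3]; rw [map_mul]); (conv at hτ1 => enter [@3, @5, @6]; rw [map_mul]); (conv at hτ1 => enter [@3, @5]; rw [map_mul]); (conv at hτ1 => enter [@2, @5, @5, @6]; rw [phi_up']); (conv at hτ1 => enter [@2, @6, @6]; rw [phi_up']); (conv at hτ1 => enter [@3, @5, @6, @6]; rw [phi_up']); (conv at hτ1 => enter [@2, @5, @6, @6]; rw [phi_lo']); (conv at hτ1 => enter [@3, @5, @5, @6]; rw [phi_lo']);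 (conv at hτ1 => enter [@3, @6, @6]; rw [phi_lo']); rewrite [h1, h2, one_pow, hodd.neg_one_pow, mul_one] at hτ1; simp only [mul_neg_one] at hτ1; rewrite [← phi_up', ← phi_lo'] at hτ1; (conv at hτ1 => enter [@2, @5]; rw [← map_mul]); (conv at hτ1 => enter [@2]; rw [← map_mul]); (conv at hτ1 => enter [@3, @5]; rw [← map_mul]); rewrite [← map_mul] at hτ1)
    have h3 := ab_eq hp r hr2 (neg_ne_zero.2 hc2) hτ1.symm
    have h4 : c2 = c1⁻¹ := by
      field_simp
      linear_combination -h3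
    have h5 : ∀ A, τ (phi hp (KK r) i A) = phi hp (KK r) i (fn f c1 hc1 A) := by
      intro A
      refine ext2 (f := τ.toMonoidHom.comp (phi hp (KK r) i)) (g := (phi hp (KK r) i).comp (fn f c1 hc1))
        (fun a => ?_) (fun a => ?_) A
      · show τ (phi hp (KK r) i (up a)) = phi hp (KK r) i (fn f c1 hc1 (up a))
        rw [fn_up, phi_up', phi_lo', h1, hf]
      · show τ (phi hp (KK r) i (lo a)) = phi hp (KK r) i (fn f c1 hc1 (lo a))
        rw [fn_lo, phi_lo', phi_up', h2, hf, h4]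
    obtain ⟨t, ht0, u, v, hu, hv, hu2, hv2, huv⟩ := exists_fn (two_ne r hr2) hf hq hc1
    refine ⟨phi hp (KK r) i (nn t), ?_, nr_nn hp r i ht0, ?_⟩
    · rw [← huv, map_mul]
      exact mul_mem (hru u hu2 (by rw [h5, hu])) (hru v hv2 (by rw [h5, hv]))
    · rw [h5, ← huv, map_mul (fn f c1 hc1), hu, hv]

variable {hp} {p : ℕ} {E H : Subgroup ↥(D.group (KK r))}

/-- conjugation of `InS` with fixed elements of `H` -/
theorem ins_rep {n : ↥(D.group (KK r))} (hn : n ∈ H) (hτ : τ n = n) {w : M.Group} (hw : NR hp r w n)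
    {S S' : Set (Fin l → ℤ)} (hS : ∀ a ∈ S, IsRoot M.toCoxeterSystem hp.isCartan a)
    (hSS : ∀ a, rep M.toCoxeterSystem hp.isCartan w a ∈ S' ↔ a ∈ S) (h : InS r l τ H S) : InS r l τ H S' := by
  rintro u hu hτu ⟨j, hj⟩
  have h1 : n⁻¹ * u * n ∈ H := by
    refine h _ ?_ ?_ ⟨j, ?_⟩
    · rw [← (nr_frame hw).mem_Sup hS hSS]
      have h2 : MulAut.conj n (n⁻¹ * u * n) = u := by rw [MulAut.conj_apply]; group
      rw [h2]
      exact hu
    · rw [map_mul, map_mul, map_inv, hτ, hτu]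
    · have h2 : n⁻¹ * u * n = n⁻¹ * u * n⁻¹⁻¹ := by rw [inv_inv]
      rw [h2, conj_pow, hj, mul_one, mul_inv_cancel]
  have h2 : u = n * (n⁻¹ * u * n) * n⁻¹ := by group
  rw [h2]
  exact mul_mem (mul_mem hn h1) (inv_mem hn)

/-- **The reflections in the roots `c` with `γ c = ± c`.** -/
theorem exists_rep (S : Sit hp r p e τ γ E H) (hr2 : r ≠ 2) {c : Fin l → ℤ}
    (hc : IsRoot M.toCoxeterSystem hp.isCartan c) {ε : ℤ} (hε : ε = 1 ∨ ε = -1) (hγ : γ c = ε • c)
    (hS : InS r l τ H {c, -c}) : ∃ n ∈ H, τ n = n ∧ ∃ s : M.Group, NR hp r s n ∧ s * s = 1 ∧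
      ∀ x, rep M.toCoxeterSystem hp.isCartan s x = x - cpr M.toCoxeterSystem hp.isCartan x c • c := by
  have := finite_W hp M.toCoxeterSystem
  obtain ⟨w, i, rfl⟩ := hc
  obtain ⟨g, hg⟩ : ∃ g, NR hp r w g :=
    exists_rp M.toCoxeterSystem (tow (k := KK r) hp M.toCoxeterSystem (locFin r) r).nsys w
  have F1 := ((nr_frame (nr_inv hg)).mul S.fr).mul (nr_frame hg)
  have e1 : MulAut.conj g⁻¹ * τ * MulAut.conj g = MulAut.conj (g⁻¹ * τ g) * τ := by
    apply MulEquiv.ext
    intro u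
    show g⁻¹ * τ (g * u * g⁻¹) * g⁻¹⁻¹ = (g⁻¹ * τ g) * τ u * (g⁻¹ * τ g)⁻¹
    rw [map_mul, map_mul, map_inv]
    group
  have hfr : IsFrob r e (MulAut.conj g⁻¹ * τ * MulAut.conj g) := by
    rw [e1]; exact S.frob.conj_mul _
  obtain ⟨n, hn, hn1, hn2⟩ := exists_simple hp hr2 S.he hfr F1 i hε (by
    show rep M.toCoxeterSystem hp.isCartan w⁻¹ (γ (rep M.toCoxeterSystem hp.isCartan w (sr i))) = ε • sr i
    rw [hγ, map_zsmul, rep_inv_apply])
  have hτg : ∀ u, (MulAut.conj g⁻¹ * τ * MulAut.conj g) u = u → τ (g * u * g⁻¹) = g * u * g⁻¹ := by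
    intro u hu
    have h1 : g⁻¹ * τ (g * u * g⁻¹) * g⁻¹⁻¹ = u := hu
    calc τ (g * u * g⁻¹) = g * (g⁻¹ * τ (g * u * g⁻¹) * g⁻¹⁻¹) * g⁻¹ := by group
      _ = _ := by rw [h1]
  have hH : Subgroup.closure {u | u ∈ RGD.Sup (XX D l (KK r)) {sr i, -sr i} ∧
      (MulAut.conj g⁻¹ * τ * MulAut.conj g) u = u ∧ ∃ j : ℕ, u ^ r ^ j = 1} ≤ H.comap (MulAut.conj g).toMonoidHom := by
    refine (Subgroup.closure_le _).2 ?_
    rintro u ⟨hu, hu1, j, hj⟩
    show g * u * g⁻¹ ∈ H
    refine hS _ ?_ (hτg u hu1) ⟨j, by rw [conj_pow, hj, mul_one, mul_inv_cancel]⟩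
    have hri := isRoot_sr M.toCoxeterSystem hp.isCartan i
    refine ((nr_frame hg).mem_Sup (S := {sr i, -sr i}) ?_ ?_ u).2 hu
    · rintro a (rfl | rfl)
      · exact hri
      · exact hri.neg
    · intro a
      show rep M.toCoxeterSystem hp.isCartan w a ∈ _ ↔ _
      rw [Set.mem_insert_iff, Set.mem_singleton_iff, Set.mem_insert_iff, Set.mem_singleton_iff, ← map_neg]
      have hinj : Function.Injective (rep M.toCoxeterSystem hp.isCartan w) := by
        intro a b hab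
        have h3 := congrArg (rep M.toCoxeterSystem hp.isCartan w⁻¹) hab
        rwa [rep_inv_apply, rep_inv_apply] at h3
      rw [hinj.eq_iff, hinj.eq_iff]
  refine ⟨g * n * g⁻¹, hH hn, hτg n hn2, rfl' M.toCoxeterSystem w i, nr_conj hn1 hg, ?_, fun x => rep_rfl'_eq _ _ w i x⟩
  unfold rfl'
  have h3 := M.toCoxeterSystem.simple_mul_simple_self i
  calc w * M.toCoxeterSystem.simple i * w⁻¹ * (w * M.toCoxeterSystem.simple i * w⁻¹) =
      w * (M.toCoxeterSystem.simple i * M.toCoxeterSystem.simple i) * w⁻¹ := by group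
    _ = 1 := by rw [h3]; group

/-- **Conjugation of `InS` with the reflections in the roots `c` with `γ c = ± c`.** -/
theorem ins_refl (S : Sit hp r p e τ γ E H) (hr2 : r ≠ 2) {c : Fin l → ℤ}
    (hc : IsRoot M.toCoxeterSystem hp.isCartan c) {ε : ℤ} (hε : ε = 1 ∨ ε = -1) (hγ : γ c = ε • c)
    (hS : InS r l τ H {c, -c}) {A A' : Set (Fin l → ℤ)} (hA : ∀ a ∈ A, IsRoot M.toCoxeterSystem hp.isCartan a)
    (hAA : ∀ a, a - cpr M.toCoxeterSystem hp.isCartan a c • c ∈ A' ↔ a ∈ A) (h : InS r l τ H A) : InS r l τ H A' := by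
  obtain ⟨n, hn, hτ, s, hs, -, hsx⟩ := exists_rep S hr2 hc hε hγ hS
  exact ins_rep hn hτ hs hA (fun a => by rw [hsx]; exact hAA a) h

end Y

end Cfsg.Agent.H82.Mono.Refl

private theorem dce_5c91a280c249 : _root_.True := by
  try have : _root_.True := by simp only [_root_.Cfsg.Agent.H82.Mono.Refl.nn.eq_1]
  exact _root_.True.intro
end

-- part: H82/Mono/E6Link
section
prune_inst 0x142049004300020000000010800000100c0000000040800008a00102000882608902a0000c00001000028000000000000000001000000000000004000000010010a00206a148000000000e801002610000000000000000000000000000000000000000000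
set_option linter.all false
open scoped Cfsg.Agent.FastGrp

-- part: H82/Mono/Comb6
section
/-!
# S2187, non-toral `E`, `E₆` with the unmatched sign: the root lattice of `E₆` (helper82)

`dl` the diagram automorphism, `B` the form; `Rot w`: `w` of order dividing 3, commutes with `dl`, `⟨w b, b⟩ ≠ 1` for the roots
`b` fixed by `dl`.

* `Rot.exists_three` : `w ≠ 1`: there is a root `a`, `dl a ≠ a`, `a + w a + w w a = 0`;
* `Rot.orth` : such `w ^ i a`, `dl (w ^ j a)` are orthogonal;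
* `Rot.eq_pow` : a commutative family of such `w` consists of the powers of one of them;
* `reach` : every root `b`, `dl b ≠ b`, is up to sign `w ^ i a` or `- dl (w ^ i a)` or `w ^ i a - c`, `c` a root fixed by `dl`.
-/

set_option autoImplicit false
set_option linter.unusedSectionVars false

namespace Cfsg.Agent.H82.Mono

open CoxeterSystem Cfsg Cfsg.Lie Cfsg.Lie.ChevalleyDatum
open Cfsg.Agent.ChevalleyStructure Cfsg.Agent.ChevalleyStructure.CoxeterGeom
  Cfsg.Agent.ChevalleyStructure.CoxeterGeomTypes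
open Cfsg.Agent.Tits.Roots Cfsg.Agent.Tits.Core Cfsg.Agent.Nodes.Coroot Cfsg.Agent.Nodes.RGDChev
open Cfsg.Agent.H720.TwFr

/-- the form -/
def B (x y : Fin 6 → ℤ) : ℤ :=
  2 * (x 0 * y 0 + x 1 * y 1 + x 2 * y 2 + x 3 * y 3 + x 4 * y 4 + x 5 * y 5) - (x 0 * y 2 + x 2 * y 0) -
    (x 2 * y 3 + x 3 * y 2) - (x 3 * y 4 + x 4 * y 3) - (x 4 * y 5 + x 5 * y 4) - (x 1 * y 3 + x 3 * y 1)

/-- the roots -/
def R6 (x : Fin 6 → ℤ) : Prop := ∃ r < 72, vec chevE6 6 r = x

/-- the diagram automorphism -/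
def dl (x : Fin 6 → ℤ) : Fin 6 → ℤ := ![x 5, x 1, x 4, x 3, x 2, x 0]

/-- the roots fixed by the diagram automorphism -/
def fxl : List ℕ := [0, 1, 2, 6, 8, 11, 18, 20, 24, 25, 27, 32, 39, 44, 46, 47, 51, 53, 60, 63, 65, 69, 70, 71]

theorem dl_eq (x : Fin 6 → ℤ) : permE rho6 x = dl x := by
  funext i
  fin_cases i <;> rfl

private noncomputable def _root_.Cfsg.Agent.LsF.ffb5f9b_0 : {f // @Cfsg.Agent.H82.Mono.dl = f} := ⟨_, by first | (delta Cfsg.Agent.H82.Mono.dl; rewrite [Cfsg.Agent.LsF.vecCons_eq]; exact rfl) | exact rfl⟩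
private noncomputable def _root_.Cfsg.Agent.LsF.ffb5f9b_1 : {f // @Cfsg.Agent.ChevalleyStructure.RootVecTab.dig = f} := ⟨_, by first | (delta Cfsg.Agent.ChevalleyStructure.RootVecTab.dig; rewrite [Cfsg.Agent.LsF.nmul_pat]; exact rfl) | exact rfl⟩
private noncomputable def _root_.Cfsg.Agent.LsF.ffb5f9b_2 : {f // @Cfsg.Agent.ChevalleyStructure.RootVecTab.packTab = f} := ⟨_, by first | (delta Cfsg.Agent.ChevalleyStructure.RootVecTab.packTab; rewrite [Cfsg.Agent.LsF.instDecEq_eq, Cfsg.Agent.LsF.ite_eq]; exact rfl) | exact rfl⟩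
private noncomputable def _root_.Cfsg.Agent.LsF.ffb5f9b_3 : {f // @Cfsg.Agent.ChevalleyStructure.RootVecTab.code = f} := ⟨_, by first | (delta Cfsg.Agent.ChevalleyStructure.RootVecTab.code; rewrite [Cfsg.Agent.LsF.ffb5f9b_2.2, Cfsg.Agent.LsF.nmul_pat, Cfsg.Agent.LsF.npow_pat]; exact rfl) | exact rfl⟩
private noncomputable def _root_.Cfsg.Agent.LsF.ffb5f9b_4 : {f // @Cfsg.Agent.ChevalleyStructure.RootVec.rt = f} := ⟨_, by first | (delta Cfsg.Agent.ChevalleyStructure.RootVec.rt; rewrite [Cfsg.Agent.LsF.ffb5f9b_1.2, Cfsg.Agent.LsF.ffb5f9b_3.2, Cfsg.Agent.LsF.nsub_pat, Cfsg.Agent.LsF.isub_pat, Cfsg.Agent.LsF.icast_pat, Cfsg.Agent.LsF.decLt_eq, Cfsg.Agent.LsF.dAnd_eq, Cfsg.Agent.LsF.ite_eq]; exact rfl) | exact rfl⟩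
private noncomputable def _root_.Cfsg.Agent.LsF.ffb5f9b_5 : {f // @Cfsg.Agent.Nodes.RGDChev.vec = f} := ⟨_, by first | (delta Cfsg.Agent.Nodes.RGDChev.vec; rewrite [Cfsg.Agent.LsF.ffb5f9b_4.2]; exact rfl) | exact rfl⟩
theorem t_fix : ∀ i < 72, dl (vec chevE6 6 i) = vec chevE6 6 i → i ∈ fxl := by (refine of_decide_eq_true ?_; (try (rewrite [Cfsg.Agent.LsF.dPiF_pat, Cfsg.Agent.LsF.dMemE_pat, Cfsg.Agent.LsF.ffb5f9b_0.2, Cfsg.Agent.LsF.ffb5f9b_5.2, Cfsg.Agent.LsF.instDecEq_eq, Cfsg.Agent.LsF.instIDecEq_eq, Cfsg.Agent.LsF.dBallLT_eq, Cfsg.Agent.LsF.dAllP_eq, Cfsg.Agent.LsF.decide_eq])); decide +kernel)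

private noncomputable def _root_.Cfsg.Agent.LsF.ffb5f9b_6 : {f // @Cfsg.Agent.H82.Mono.B = f} := ⟨_, by first | (delta Cfsg.Agent.H82.Mono.B; rewrite [Cfsg.Agent.LsF.iadd_pat, Cfsg.Agent.LsF.imul_pat, Cfsg.Agent.LsF.isub_pat]; exact rfl) | exact rfl⟩
private noncomputable def _root_.Cfsg.Agent.LsF.ffb5f9b_7 : {f // @Cfsg.Agent.ChevFast.Lin.dB = f} := ⟨_, by first | (delta Cfsg.Agent.ChevFast.Lin.dB; rewrite [Cfsg.Agent.LsF.dIff_eq, Cfsg.Agent.LsF.dBoolEq_eq]; exact rfl) | exact rfl⟩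
private noncomputable def _root_.Cfsg.Agent.LsF.ffb5f9b_8 : {f // @Cfsg.Agent.ChevFast.Lin.dX = f} := ⟨_, by first | (delta Cfsg.Agent.ChevFast.Lin.dX; rewrite [Cfsg.Agent.LsF.dIff_eq, Cfsg.Agent.LsF.dBoolEq_eq]; exact rfl) | exact rfl⟩
theorem t_norm : ∀ i < 72, B (vec chevE6 6 i) (vec chevE6 6 i) = 2 ∧ dl (vec chevE6 6 i) ≠ -vec chevE6 6 i ∧
    (dl (vec chevE6 6 i) = vec chevE6 6 i ∨ B (vec chevE6 6 i) (dl (vec chevE6 6 i)) = 0) ∧
    ∃ j < 72, vec chevE6 6 j = dl (vec chevE6 6 i) := by (open scoped Cfsg.Agent.ChevFast.Lin in (refine of_decide_eq_true ?_; (try (rewrite [Cfsg.Agent.LsF.pneg_pat, Cfsg.Agent.LsF.dPiF_pat, Cfsg.Agent.LsF.ffb5f9b_6.2, Cfsg.Agent.LsF.ffb5f9b_5.2, Cfsg.Agent.LsF.ffb5f9b_0.2, Cfsg.Agent.LsF.ffb5f9b_7.2, Cfsg.Agent.LsF.ffb5f9b_8.2, Cfsg.Agent.LsF.ineg_pat, Cfsg.Agent.LsF.instIDecEq_eq, Cfsg.Agent.LsF.dAnd_eq, Cfsg.Agent.LsF.dOr_eq, Cfsg.Agent.LsF.dNot_eq, Cfsg.Agent.LsF.decide_eq])); decide +kernel))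

theorem t_diff : ∀ i ∈ fxl, ∀ j ∈ fxl, B (vec chevE6 6 i) (vec chevE6 6 j) = 0 →
    ∃ k < 72, dl (vec chevE6 6 k) ≠ vec chevE6 6 k ∧
      vec chevE6 6 k + dl (vec chevE6 6 k) = vec chevE6 6 i - vec chevE6 6 j := by (open scoped Cfsg.Agent.ChevFast.Lin in (refine of_decide_eq_true ?_; (try (rewrite [Cfsg.Agent.LsF.padd_pat, Cfsg.Agent.LsF.psub_pat, Cfsg.Agent.LsF.dPiF_pat, Cfsg.Agent.LsF.ffb5f9b_6.2, Cfsg.Agent.LsF.ffb5f9b_5.2, Cfsg.Agent.LsF.ffb5f9b_0.2, Cfsg.Agent.LsF.ffb5f9b_8.2, Cfsg.Agent.LsF.iadd_pat, Cfsg.Agent.LsF.isub_pat, Cfsg.Agent.LsF.instIDecEq_eq, Cfsg.Agent.LsF.dAnd_eq, Cfsg.Agent.LsF.dNot_eq, Cfsg.Agent.LsF.dBAll_eq, Cfsg.Agent.LsF.dAllP_eq, Cfsg.Agent.LsF.decide_eq])); decide +kernel))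

theorem t_sum : ∀ k < 72, dl (vec chevE6 6 k) ≠ vec chevE6 6 k → ∃ i ∈ fxl, ∃ j ∈ fxl,
    vec chevE6 6 k + dl (vec chevE6 6 k) = vec chevE6 6 i - vec chevE6 6 j := by (delta Cfsg.Agent.H82.Mono.dl Cfsg.Agent.Nodes.RGDChev.vec Cfsg.Agent.ChevalleyStructure.RootVec.rt; set_option synthInstance.maxSize 100000 in exact Cfsg.Agent.Lib.Refl.of (by ((try (rewrite [Cfsg.Agent.LsF.ffb5f9b_1.2, Cfsg.Agent.LsF.ffb5f9b_3.2, Cfsg.Agent.LsF.nsub_pat, Cfsg.Agent.LsF.vecCons_eq])); decide +kernel)))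

theorem t_conn : ∀ i ∈ fxl, ∀ j ∈ fxl, ∃ k ∈ fxl, B (vec chevE6 6 i) (vec chevE6 6 k) ≠ 0 ∧
    B (vec chevE6 6 k) (vec chevE6 6 j) ≠ 0 := by (refine of_decide_eq_true ?_; (try (rewrite [Cfsg.Agent.LsF.ffb5f9b_6.2, Cfsg.Agent.LsF.ffb5f9b_5.2, Cfsg.Agent.LsF.instIDecEq_eq, Cfsg.Agent.LsF.dAnd_eq, Cfsg.Agent.LsF.dNot_eq, Cfsg.Agent.LsF.dBAll_eq, Cfsg.Agent.LsF.dBEx_eq, Cfsg.Agent.LsF.decide_eq])); decide +kernel)

theorem t_fxr : ∀ i ∈ fxl, i < 72 ∧ dl (vec chevE6 6 i) = vec chevE6 6 i := by decide +kernel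

/-! ### the form -/

theorem B_comm (x y : Fin 6 → ℤ) : B x y = B y x := by unfold B; ring
theorem B_add (x y z : Fin 6 → ℤ) : B (x + y) z = B x z + B y z := by unfold B; simp only [Pi.add_apply]; ring
theorem B_neg (x z : Fin 6 → ℤ) : B (-x) z = -B x z := by unfold B; simp only [Pi.neg_apply]; ring
theorem B_sub (x y z : Fin 6 → ℤ) : B (x - y) z = B x z - B y z := by unfold B; simp only [Pi.sub_apply]; ring
theorem B_add' (x y z : Fin 6 → ℤ) : B z (x + y) = B z x + B z y := by rw [B_comm, B_add, B_comm x, B_comm y]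
theorem B_sub' (x y z : Fin 6 → ℤ) : B z (x - y) = B z x - B z y := by rw [B_comm, B_sub, B_comm x, B_comm y]
theorem B_neg' (x z : Fin 6 → ℤ) : B z (-x) = -B z x := by rw [B_comm, B_neg, B_comm x]
theorem B_zero' (z : Fin 6 → ℤ) : B z 0 = 0 := by unfold B; simp

theorem B_dl (x y : Fin 6 → ℤ) : B (dl x) (dl y) = B x y := by
  unfold B dl; simp only [_root_.Fin.isValue, _root_.Matrix.cons_val_zero, _root_.Matrix.cons_val_one, _root_.Matrix.cons_val, _root_.sub_left_inj]; ring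

theorem dl_dl (x : Fin 6 → ℤ) : dl (dl x) = x := by
  funext i
  fin_cases i <;> rfl

theorem dl_add (x y : Fin 6 → ℤ) : dl (x + y) = dl x + dl y := by
  funext i
  fin_cases i <;> rfl

theorem dl_neg (x : Fin 6 → ℤ) : dl (-x) = -dl x := by
  funext i
  fin_cases i <;> rfl

theorem dl_sub (x y : Fin 6 → ℤ) : dl (x - y) = dl x - dl y := by
  funext i
  fin_cases i <;> rfl

theorem six_B (x : Fin 6 → ℤ) : 6 * B x x = 3 * (2 * x 0 - x 2) ^ 2 + 3 * (2 * x 5 - x 4) ^ 2 +
    3 * (2 * x 1 - x 3) ^ 2 + (3 * x 2 - 2 * x 3) ^ 2 + (3 * x 4 - 2 * x 3) ^ 2 + x 3 ^ 2 := by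
  unfold B; ring

theorem B_nonneg (x : Fin 6 → ℤ) : 0 ≤ B x x := by
  have h := six_B x
  linarith only [h, sq_nonneg (2 * x 0 - x 2), sq_nonneg (2 * x 5 - x 4), sq_nonneg (2 * x 1 - x 3), sq_nonneg (3 * x 2 - 2 * x 3), sq_nonneg (3 * x 4 - 2 * x 3), sq_nonneg (x 3)]

theorem eq_zero_of_B {x : Fin 6 → ℤ} (h0 : B x x = 0) : x = 0 := by
  have h := six_B x
  rw [h0, mul_zero] at h
  have key : ∀ s1 s2 s3 s4 s5 s6 : ℤ, 0 = 3 * s1 ^ 2 + 3 * s2 ^ 2 + 3 * s3 ^ 2 + s4 ^ 2 + s5 ^ 2 + s6 ^ 2 →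
      s1 = 0 ∧ s2 = 0 ∧ s3 = 0 ∧ s4 = 0 ∧ s5 = 0 ∧ s6 = 0 := fun s1 s2 s3 s4 s5 s6 h => by
    have a1 := sq_nonneg s1
    have a2 := sq_nonneg s2
    have a3 := sq_nonneg s3
    have a4 := sq_nonneg s4
    have a5 := sq_nonneg s5
    have a6 := sq_nonneg s6
    have z : ∀ {s : ℤ}, s ^ 2 ≤ 0 → s = 0 := fun h => pow_eq_zero_iff two_ne_zero |>.1 (le_antisymm h (sq_nonneg _))
    refine ⟨z ?_, z ?_, z ?_, z ?_, z ?_, z ?_⟩ <;> linarith only [h, a1, a2, a3, a4, a5, a6]
  obtain ⟨e1, e2, e3, e4, e5, e6⟩ := key _ _ _ _ _ _ h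
  clear key h h0
  funext i
  fin_cases i
  · show x 0 = 0; omega
  · show x 1 = 0; omega
  · show x 2 = 0; omega
  · show x 3 = 0; omega
  · show x 4 = 0; omega
  · show x 5 = 0; omega

/-! ### roots -/

theorem R6.norm {a : Fin 6 → ℤ} (ha : R6 a) : B a a = 2 := by
  obtain ⟨r, hr, rfl⟩ := ha; exact (t_norm r hr).1

theorem R6.dl {a : Fin 6 → ℤ} (ha : R6 a) : R6 (dl a) := by
  obtain ⟨r, hr, rfl⟩ := ha; exact (t_norm r hr).2.2.2

theorem R6.dl_ne {a : Fin 6 → ℤ} (ha : R6 a) : Mono.dl a ≠ -a := by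
  obtain ⟨r, hr, rfl⟩ := ha; exact (t_norm r hr).2.1

theorem R6.dl_orth {a : Fin 6 → ℤ} (ha : R6 a) (h : Mono.dl a ≠ a) : B a (Mono.dl a) = 0 := by
  obtain ⟨r, hr, rfl⟩ := ha; exact (t_norm r hr).2.2.1.resolve_left h

theorem le_two {x y : Fin 6 → ℤ} (hx : B x x = 2) (hy : B y y = 2) : B x y ≤ 2 := by
  have h := B_nonneg (x - y)
  rw [B_sub, B_sub', B_sub', hx, hy, B_comm y x] at h
  linarith

theorem ge_two {x y : Fin 6 → ℤ} (hx : B x x = 2) (hy : B y y = 2) : -2 ≤ B x y := by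
  have h := B_nonneg (x + y)
  rw [B_add, B_add', B_add', hx, hy, B_comm y x] at h
  linarith

theorem eq_of_two {x y : Fin 6 → ℤ} (hx : B x x = 2) (hy : B y y = 2) (h : B x y = 2) : x = y := by
  have h1 : B (x - y) (x - y) = 0 := by
    rw [B_sub, B_sub', B_sub', hx, hy, B_comm y x, h]; norm_num
  exact sub_eq_zero.1 (eq_zero_of_B h1)

theorem eq_neg_of {x y : Fin 6 → ℤ} (hx : B x x = 2) (hy : B y y = 2) (h : B x y = -2) : x = -y := by
  have h1 : B (x + y) (x + y) = 0 := by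
    rw [B_add, B_add', B_add', hx, hy, B_comm y x, h]; norm_num
  exact eq_neg_of_add_eq_zero_left (eq_zero_of_B h1)

theorem four_of_anti {x : Fin 6 → ℤ} (h : dl x = -x) : B x x = 4 * (x 0 ^ 2 - x 0 * x 2 + x 2 ^ 2) := by
  have h0 := congrFun h 0
  have h1 := congrFun h 1
  have h2 := congrFun h 2
  have h3 := congrFun h 3
  simp only [dl, Pi.neg_apply, Matrix.cons_val_zero, Matrix.cons_val_one, Matrix.cons_val] at h0 h1 h2 h3
  have e1 : x 1 = 0 := by omega
  have e3 : x 3 = 0 := by omega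
  unfold B
  rw [h0, h2, e1, e3]; ring

/-! ### elements of order three commuting with the diagram automorphism -/

/-- `w` of order dividing three -/
structure Rot (w : (Fin 6 → ℤ) → (Fin 6 → ℤ)) : Prop where
  add : ∀ x y, w (x + y) = w x + w y
  iso : ∀ x y, B (w x) (w y) = B x y
  cube : ∀ x, w (w (w x)) = x
  com : ∀ x, w (dl x) = dl (w x)
  root : ∀ x, R6 x → R6 (w x)
  np : ∀ b, R6 b → dl b = b → B (w b) b ≠ 1

variable {w : (Fin 6 → ℤ) → (Fin 6 → ℤ)}

theorem Rot.zero (h : Rot w) : w 0 = 0 := by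
  have := h.add 0 0
  rw [add_zero] at this
  exact left_eq_add.1 this

theorem Rot.neg (h : Rot w) (x : Fin 6 → ℤ) : w (-x) = -w x := by
  have := h.add (-x) x
  rw [neg_add_cancel, h.zero] at this
  exact eq_neg_of_add_eq_zero_left this.symm

theorem Rot.sub (h : Rot w) (x y : Fin 6 → ℤ) : w (x - y) = w x - w y := by
  rw [sub_eq_add_neg, h.add, h.neg, sub_eq_add_neg]

/-- the norm of `a + w a + w w a` -/
theorem Rot.norm_sum (h : Rot w) {a : Fin 6 → ℤ} (ha : B a a = 2) :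
    B (a + w a + w (w a)) (a + w a + w (w a)) = 6 + 6 * B (w a) a := by
  have e1 : B (w (w a)) (w a) = B (w a) a := h.iso _ _
  have e2 : B (w (w a)) a = B (w a) a := by
    have := h.iso (w (w a)) a
    rw [h.cube, B_comm] at this
    exact this.symm
  have e3 : B (w a) (w a) = 2 := by rw [h.iso, ha]
  have e4 : B (w (w a)) (w (w a)) = 2 := by rw [h.iso, e3]
  simp only [B_add, B_add']
  rw [B_comm a (w a), B_comm a (w (w a)), B_comm (w a) (w (w a)), ha, e1, e2, e3, e4]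
  ring

/-- `⟨w a, a⟩ = -1` -/
theorem Rot.sum_zero (h : Rot w) {a : Fin 6 → ℤ} (ha : B a a = 2) (h1 : B (w a) a = -1) : a + w a + w (w a) = 0 := by
  apply eq_zero_of_B
  rw [h.norm_sum ha, h1]; norm_num

/-- the key step -/
theorem Rot.lift (h : Rot w) {a : Fin 6 → ℤ} (ha : R6 a) (hne : dl a ≠ a)
    (hc : (a + dl a) + w (a + dl a) + w (w (a + dl a)) = 0) : B (w a) a = -1 := by
  have hwa : R6 (w a) := h.root a ha
  have hs : dl (a + w a + w (w a)) = -(a + w a + w (w a)) := by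
    rw [dl_add, dl_add, ← h.com, ← h.com, ← h.com]
    rw [h.add, h.add] at hc
    have h1 : dl a + w (dl a) + w (w (dl a)) = (a + dl a + (w a + w (dl a)) + (w (w a) + w (w (dl a)))) -
      (a + w a + w (w a)) := by abel
    rw [h1, hc, zero_sub]
  have h4 := four_of_anti hs
  rw [h.norm_sum ha.norm] at h4
  have hle := le_two hwa.norm ha.norm
  have hge := ge_two hwa.norm ha.norm
  set n := B (w a) a with hn
  have hn1 : n = -1 ∨ n = 1 := by omega
  rcases hn1 with h1 | h1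
  · exact h1
  exfalso
  have h0 : B a (dl a) = 0 := ha.dl_orth hne
  have hcc : B (a + dl a) (a + dl a) = 4 := by
    rw [B_add, B_add', B_add', B_dl, ha.norm, h0, B_comm, h0]; norm_num
  have h2 : B (w (w (a + dl a))) (a + dl a) = B (w (a + dl a)) (a + dl a) := by
    have := h.iso (w (w (a + dl a))) (a + dl a)
    rw [h.cube, B_comm] at this
    exact this.symm
  have h3 : 2 * B (w (a + dl a)) (a + dl a) = -4 := by
    have h5 : B (a + dl a + w (a + dl a) + w (w (a + dl a))) (a + dl a) = B 0 (a + dl a) := by rw [hc]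
    rw [B_add (a + dl a + w (a + dl a)), B_add (a + dl a), h2, hcc, B_comm 0, B_zero'] at h5
    linarith
  have h5 : B (w (dl a)) (dl a) = n := by rw [h.com, B_dl]
  have h6 : B (w (dl a)) a = B (w a) (dl a) := by
    rw [h.com, ← B_dl, dl_dl]
  rw [h.add, B_add, B_add', B_add', h5, h6, ← hn, h1] at h3
  have h7 : w a = -dl a := eq_neg_of hwa.norm ha.dl.norm (by linarith only [h3])
  have h8 : w (w a) = a := by rw [h7, h.neg, h.com, h7, dl_neg, neg_neg, dl_dl]
  have h9 : w a = a := by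
    have := h.cube a
    rw [h8] at this
    exact this
  rw [h9] at h7
  exact ha.dl_ne (neg_eq_iff_eq_neg.1 h7.symm)

/-- `⟨w b, b⟩` for `b` fixed by `dl` -/
theorem Rot.cases (h : Rot w) {b : Fin 6 → ℤ} (hb : R6 b) (hd : dl b = b) :
    w b = b ∨ B (w b) b = 0 ∨ b + w b + w (w b) = 0 := by
  have hwb : R6 (w b) := h.root b hb
  have hle := le_two hwb.norm hb.norm
  have hge := ge_two hwb.norm hb.norm
  have hnp := h.np b hb hd
  have h1 : B (w b) b ≠ -2 := by
    intro h2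
    have h3 := eq_neg_of hwb.norm hb.norm h2
    have h4 := h.cube b
    rw [h3, h.neg, h3, neg_neg, h3] at h4
    have h5 : B (-b) b = -B b b := B_neg b b
    rw [h4, hb.norm] at h5
    omega
  have h2 : B (w b) b = 2 ∨ B (w b) b = 0 ∨ B (w b) b = -1 := by omega
  rcases h2 with h2 | h2 | h2
  · exact Or.inl (eq_of_two hwb.norm hb.norm h2)
  · exact Or.inr (Or.inl h2)
  · exact Or.inr (Or.inr (h.sum_zero hb.norm h2))

theorem R6.ix {b : Fin 6 → ℤ} (hb : R6 b) (hd : Mono.dl b = b) : ∃ i ∈ fxl, vec chevE6 6 i = b := by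
  obtain ⟨r, hr, rfl⟩ := hb
  exact ⟨r, t_fix r hr hd, rfl⟩

theorem R6.of_ix {i : ℕ} (hi : i ∈ fxl) : R6 (vec chevE6 6 i) ∧ Mono.dl (vec chevE6 6 i) = vec chevE6 6 i :=
  ⟨⟨i, (t_fxr i hi).1, rfl⟩, (t_fxr i hi).2⟩

/-- **a root of type `Ã₂`** -/
theorem Rot.exists_three (h : Rot w) (hw : ∃ x, R6 x ∧ w x ≠ x) : ∃ a, R6 a ∧ dl a ≠ a ∧ B (w a) a = -1 := by
  by_cases hA : ∃ b, R6 b ∧ dl b = b ∧ B (w b) b = 0
  · obtain ⟨b, hb, hd, hb0⟩ := hA
    obtain ⟨i, hi, hib⟩ := hb.ix hd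
    obtain ⟨j, hj, hjb⟩ := (h.root b hb).ix (by rw [← h.com, hd])
    obtain ⟨k, hk, h1, h2⟩ := t_diff i hi j hj (by rw [hib, hjb, B_comm, hb0])
    refine ⟨_, ⟨k, hk, rfl⟩, h1, h.lift ⟨k, hk, rfl⟩ h1 ?_⟩
    rw [h2, hib, hjb, h.sub, h.sub, h.cube]
    abel
  push Not at hA
  have hB : ∀ b, R6 b → dl b = b → w b = b ∨ b + w b + w (w b) = 0 := by
    intro b hb hd
    rcases h.cases hb hd with h1 | h1 | h1
    · exact Or.inl h1
    · exact absurd h1 (hA b hb hd)
    · exact Or.inr h1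
  -- fixed and moved roots are orthogonal
  have ho : ∀ b c, R6 b → dl b = b → R6 c → dl c = c → w b = b → c + w c + w (w c) = 0 → B b c = 0 := by
    intro b c hb hbd hc hcd h1 h2
    have h3 : B b (c + w c + w (w c)) = B b 0 := by rw [h2]
    have h4 : B b (w c) = B b c := by
      have := h.iso b c
      rwa [h1] at this
    have h5 : B b (w (w c)) = B b c := by
      have := h.iso b (w c)
      rwa [h1, h4] at this
    rw [B_add', B_add', h4, h5, B_zero'] at h3
    omega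
  by_cases hC : ∃ b, R6 b ∧ dl b = b ∧ w b = b
  · -- all roots fixed by `dl` are fixed
    exfalso
    obtain ⟨b, hb, hbd, hwb⟩ := hC
    have hall : ∀ c, R6 c → dl c = c → w c = c := by
      intro c hc hcd
      rcases hB c hc hcd with h1 | h1
      · exact h1
      exfalso
      obtain ⟨i, hi, hib⟩ := hb.ix hbd
      obtain ⟨j, hj, hjc⟩ := hc.ix hcd
      obtain ⟨k, hk, h2, h3⟩ := t_conn i hi j hj
      obtain ⟨hkr, hkd⟩ := R6.of_ix hk
      rw [hib] at h2
      rw [hjc] at h3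
      rcases hB _ hkr hkd with h4 | h4
      · exact h3 (ho _ _ hkr hkd hc hcd h4 h1)
      · exact h2 (ho _ _ hb hbd hkr hkd hwb h4)
    obtain ⟨x, hx, hwx⟩ := hw
    by_cases hxd : dl x = x
    · exact hwx (hall x hx hxd)
    obtain ⟨k, hk, rfl⟩ := id hx
    obtain ⟨i, hi, j, hj, hij⟩ := t_sum k hk hxd
    set a := vec chevE6 6 k with ha
    have hwc : w (a + dl a) = a + dl a := by
      rw [hij, h.sub, hall _ (R6.of_ix hi).1 (R6.of_ix hi).2, hall _ (R6.of_ix hj).1 (R6.of_ix hj).2]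
    have hwa : R6 (w a) := h.root a hx
    have h0 : B a (dl a) = 0 := hx.dl_orth hxd
    have h1 : dl (w a - a) = -(w a - a) := by
      rw [dl_sub, ← h.com]
      rw [h.add] at hwc
      have : w (dl a) = a + dl a - w a := by rw [← hwc]; abel
      rw [this]; abel
    have h2 := four_of_anti h1
    have hle := le_two hwa.norm hx.norm
    have hge := ge_two hwa.norm hx.norm
    have h3 : B (w a - a) (w a - a) = 4 - 2 * B (w a) a := by
      rw [B_sub, B_sub', B_sub', hwa.norm, hx.norm, B_comm a (w a)]; ring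
    have hcc : B (a + dl a) (a + dl a) = 4 := by
      rw [B_add, B_add', B_add', B_dl, hx.norm, h0, B_comm, h0]; norm_num
    have h5 : B (w (dl a)) (dl a) = B (w a) a := by rw [h.com, B_dl]
    have h6 : B (w (dl a)) a = B (w a) (dl a) := by
      rw [h.com, ← B_dl, dl_dl]
    have h7 : 2 * B (w a) a + 2 * B (w a) (dl a) = 4 := by
      have h8 : B (w (a + dl a)) (a + dl a) = 4 := by rw [hwc, hcc]
      rw [h.add, B_add, B_add', B_add', h5, h6] at h8
      linarith only [h8]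
    have h8 := le_two hwa.norm hx.dl.norm
    rw [h3] at h2
    have h9 : B (w a) a ≠ 0 := by
      intro h10
      have h11 : w a = dl a := eq_of_two hwa.norm hx.dl.norm (by linarith only [h7, h10])
      have h12 := h.cube a
      rw [h11, h.com, h11, dl_dl, h11] at h12
      exact hxd h12
    have h10 : B (w a) a = 2 := by (clear * - h2 hle h7 h8 h9; omega)
    exact hwx (eq_of_two hwa.norm hx.norm h10)
  · push Not at hC
    have hall : ∀ c, R6 c → dl c = c → c + w c + w (w c) = 0 := fun c hc hcd =>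
      (hB c hc hcd).resolve_left (hC c hc hcd)
    have h0 : dl (vec chevE6 6 3) ≠ vec chevE6 6 3 := by decide +kernel
    obtain ⟨i, hi, j, hj, hij⟩ := t_sum 3 (by norm_num) h0
    refine ⟨_, ⟨3, by norm_num, rfl⟩, h0, h.lift ⟨3, by norm_num, rfl⟩ h0 ?_⟩
    rw [hij, h.sub, h.sub]
    have h1 := hall _ (R6.of_ix hi).1 (R6.of_ix hi).2
    have h2 := hall _ (R6.of_ix hj).1 (R6.of_ix hj).2
    calc vec chevE6 6 i - vec chevE6 6 j + (w (vec chevE6 6 i) - w (vec chevE6 6 j)) +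
          (w (w (vec chevE6 6 i)) - w (w (vec chevE6 6 j))) =
          (vec chevE6 6 i + w (vec chevE6 6 i) + w (w (vec chevE6 6 i))) -
          (vec chevE6 6 j + w (vec chevE6 6 j) + w (w (vec chevE6 6 j))) := by abel
      _ = 0 := by rw [h1, h2, sub_zero]

/-- the vectors of the orbit of `a` and of the orbit of `dl a` are orthogonal -/
theorem Rot.orth (h : Rot w) {a : Fin 6 → ℤ} (ha : R6 a) (hne : dl a ≠ a) (h1 : B (w a) a = -1) :
    B (w a) (dl a) = 0 ∧ B (w (w a)) (dl a) = 0 ∧ B a (dl (w a)) = 0 ∧ B a (dl (w (w a))) = 0 := by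
  have h0 : B a (dl a) = 0 := ha.dl_orth hne
  have hs := h.sum_zero ha.norm h1
  have h2 : B (a + w a + w (w a)) (dl a) = B 0 (dl a) := by rw [hs]
  rw [B_add, B_add, h0, B_comm 0, B_zero'] at h2
  have h3 : B a (dl (w a)) = B (w a) (dl a) := by rw [← B_dl, dl_dl, B_comm]
  have h4 : B (w (w a)) (dl a) = B (w a) (dl a) := by
    rw [← h3, ← h.iso, h.cube, h.com]
  have h5 : B a (dl (w (w a))) = B (w (w a)) (dl a) := by rw [← B_dl, dl_dl, B_comm]
  refine ⟨by omega, by omega, by omega, by omega⟩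

/-! ### the anti-invariant part -/

theorem anti_eq {z : Fin 6 → ℤ} (h : dl z = -z) : z = ![z 0, 0, z 2, 0, -z 2, -z 0] := by
  have h0 := congrFun h 0
  have h1 := congrFun h 1
  have h2 := congrFun h 2
  have h3 := congrFun h 3
  simp only [dl, Pi.neg_apply, Matrix.cons_val_zero, Matrix.cons_val_one, Matrix.cons_val] at h0 h1 h2 h3
  funext i
  fin_cases i
  · rfl
  · show z 1 = 0; omega
  · rfl
  · show z 3 = 0; omega
  · show z 4 = -z 2; omega
  · show z 5 = -z 0; omega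

theorem anti_ext {z z' : Fin 6 → ℤ} (h : dl z = -z) (h' : dl z' = -z') (e0 : z 0 = z' 0) (e2 : z 2 = z' 2) : z = z' := by
  rw [anti_eq h, anti_eq h', e0, e2]

/-- the six vectors -/
def six : List (ℤ × ℤ) := [(1, 0), (-1, 0), (0, 1), (0, -1), (1, 1), (-1, -1)]

theorem mem_six {u v : ℤ} (h : u ^ 2 - u * v + v ^ 2 = 1) : (u, v) ∈ six := by
  have hv1 : v ≤ 1 := by nlinarith [sq_nonneg (2 * u - v)]
  have hv2 : -1 ≤ v := by nlinarith only [h, sq_nonneg (2 * u - v)]
  have hu1 : u ≤ 1 := by nlinarith only [h, sq_nonneg (2 * v - u)]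
  have hu2 : -1 ≤ u := by nlinarith only [h, sq_nonneg (2 * v - u)]
  interval_cases u <;> interval_cases v <;> first | (exfalso; revert h; norm_num; done) | (simp [six])

theorem t_six : ∀ p ∈ six, ∀ q ∈ six, ∀ z ∈ six, (-p.1 - q.1, -p.2 - q.2) ∈ six →
    z = p ∨ z = (-p.1, -p.2) ∨ z = q ∨ z = (-q.1, -q.2) ∨ z = (-p.1 - q.1, -p.2 - q.2) ∨
      z = (p.1 + q.1, p.2 + q.2) := by decide +kernel

theorem anti_six {z : Fin 6 → ℤ} (h : dl z = -z) (h4 : B z z = 4) : (z 0, z 2) ∈ six := by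
  apply mem_six
  have := four_of_anti h
  omega

theorem anti_cases {d e z : Fin 6 → ℤ} (hd : dl d = -d) (he : dl e = -e) (hz : dl z = -z) (hd4 : B d d = 4)
    (he4 : B e e = 4) (hz4 : B z z = 4) (hde : B d e = -2) :
    z = d ∨ z = -d ∨ z = e ∨ z = -e ∨ z = -d - e ∨ z = d + e := by
  have h1 : dl (-d - e) = -(-d - e) := by rw [dl_sub, dl_neg, hd, he]; abel
  have h2 : B (-d - e) (-d - e) = 4 := by
    rw [B_sub, B_sub', B_sub', B_neg, B_neg', B_neg', B_neg, hd4, he4, B_comm e d, hde]; norm_num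
  have h3 := t_six _ (anti_six hd hd4) _ (anti_six he he4) _ (anti_six hz hz4) (anti_six h1 h2)
  have hnd : dl (-d) = -(-d) := by rw [dl_neg, hd]
  have hne : dl (-e) = -(-e) := by rw [dl_neg, he]
  have hs : dl (d + e) = -(d + e) := by rw [dl_add, hd, he]; abel
  simp only [Prod.mk.injEq] at h3
  rcases h3 with h3 | h3 | h3 | h3 | h3 | h3
  · exact Or.inl (anti_ext hz hd h3.1 h3.2)
  · exact Or.inr (Or.inl (anti_ext hz hnd h3.1 h3.2))
  · exact Or.inr (Or.inr (Or.inl (anti_ext hz he h3.1 h3.2)))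
  · exact Or.inr (Or.inr (Or.inr (Or.inl (anti_ext hz hne h3.1 h3.2))))
  · exact Or.inr (Or.inr (Or.inr (Or.inr (Or.inl (anti_ext hz h1 h3.1 h3.2)))))
  · exact Or.inr (Or.inr (Or.inr (Or.inr (Or.inr (anti_ext hz hs h3.1 h3.2)))))

theorem R6.anti {a : Fin 6 → ℤ} (ha : R6 a) (hne : Mono.dl a ≠ a) :
    Mono.dl (a - Mono.dl a) = -(a - Mono.dl a) ∧ B (a - Mono.dl a) (a - Mono.dl a) = 4 := by
  constructor
  · rw [dl_sub, dl_dl]; abel
  · rw [B_sub, B_sub', B_sub', B_dl, ha.norm, B_comm (Mono.dl a) a, ha.dl_orth hne]; norm_num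

/-- the anti-invariant parts of the orbit of `a` -/
theorem Rot.anti (h : Rot w) {a : Fin 6 → ℤ} (ha : R6 a) (hne : dl a ≠ a) (h1 : B (w a) a = -1) {b : Fin 6 → ℤ}
    (hb : dl b = -b) (hb4 : B b b = 4) : ∃ s : ℤ, (s = 1 ∨ s = -1) ∧
      (b = s • (a - dl a) ∨ b = s • w (a - dl a) ∨ b = s • w (w (a - dl a))) := by
  obtain ⟨h2, h3⟩ := ha.anti hne
  have hne' : dl (w a) ≠ w a := by
    intro h4
    rw [← h.com] at h4
    have h5 := congrArg (fun x => w (w x)) h4
    simp only [h.cube] at h5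
    exact hne h5
  have h4 : w (a - dl a) = w a - dl (w a) := by rw [h.sub, h.com]
  obtain ⟨h5, h6⟩ := (h.root a ha).anti hne'
  rw [← h4] at h5 h6
  obtain ⟨o1, o2, o3, o4⟩ := h.orth ha hne h1
  have h7 : B (a - dl a) (w (a - dl a)) = -2 := by
    rw [h4, B_sub, B_sub', B_sub', B_dl, o3, B_comm (dl a), o1, B_comm a, h1]; norm_num
  have h8 : w (w (a - dl a)) = -(a - dl a) - w (a - dl a) := by
    have hs := h.sum_zero ha.norm h1
    have e1 : w (w a) = -a - w a := by rw [← sub_eq_zero, ← hs]; abel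
    rw [h4, h.sub, h.com, e1, dl_sub, dl_neg]; abel
  rcases anti_cases h2 h5 hb h3 h6 hb4 h7 with h9 | h9 | h9 | h9 | h9 | h9
  · exact ⟨1, Or.inl rfl, Or.inl (by rw [one_smul, h9])⟩
  · exact ⟨-1, Or.inr rfl, Or.inl (by rw [neg_one_smul, h9])⟩
  · exact ⟨1, Or.inl rfl, Or.inr (Or.inl (by rw [one_smul, h9]))⟩
  · exact ⟨-1, Or.inr rfl, Or.inr (Or.inl (by rw [neg_one_smul, h9]))⟩
  · exact ⟨1, Or.inl rfl, Or.inr (Or.inr (by rw [one_smul, h9, h8]))⟩
  · exact ⟨-1, Or.inr rfl, Or.inr (Or.inr (by rw [neg_one_smul, h9, h8]; abel))⟩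

theorem Rot.fix_anti {v : (Fin 6 → ℤ) → (Fin 6 → ℤ)} (hv : Rot v) (hf : ∀ z, dl z = -z → B z z = 4 → v z = z)
    {x : Fin 6 → ℤ} (hx : R6 x) : v x = x := by
  by_contra hcon
  obtain ⟨a, ha, hne, h1⟩ := hv.exists_three ⟨x, hx, hcon⟩
  obtain ⟨h2, h3⟩ := ha.anti hne
  have h4 := hf _ h2 h3
  have hs := hv.sum_zero ha.norm h1
  have e1 : v (v a) = -a - v a := by rw [← sub_eq_zero, ← hs]; abel
  have h5 : v (v (a - dl a)) = -(a - dl a) - v (a - dl a) := by
    rw [hv.sub, hv.sub, hv.com, hv.com, e1, dl_sub, dl_neg]; abel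
  rw [h4, h4] at h5
  have h6 : B (a - dl a) (a - dl a) = -2 * B (a - dl a) (a - dl a) := by
    nth_rewrite 1 [h5]
    rw [B_sub, B_neg]; ring
  omega

/-- **commuting elements are powers of each other** -/
theorem Rot.eq_pow {v : (Fin 6 → ℤ) → (Fin 6 → ℤ)} (h : Rot w) {a : Fin 6 → ℤ} (ha : R6 a) (hne : dl a ≠ a)
    (h1 : B (w a) a = -1) (hv : Rot v) (hvw : ∀ x, v (w x) = w (v x)) (hr1 : Rot fun x => v (w x))
    (hr2 : Rot fun x => v (w (w x))) :
    (∀ x, R6 x → v x = x) ∨ (∀ x, R6 x → v x = w x) ∨ ∀ x, R6 x → v x = w (w x) := by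
  obtain ⟨h2, h3⟩ := ha.anti hne
  set d := a - dl a with hd
  have hvd : dl (v d) = -v d := by rw [← hv.com, h2, hv.neg]
  have hvd4 : B (v d) (v d) = 4 := by rw [hv.iso, h3]
  -- an element fixing `d` is trivial
  have key : ∀ u : (Fin 6 → ℤ) → (Fin 6 → ℤ), Rot u → (∀ x, u (w x) = w (u x)) → u d = d → ∀ x, R6 x → u x = x := by
    intro u hu huw hud x hx
    refine hu.fix_anti (fun z hz hz4 => ?_) hx
    obtain ⟨s, hs, h4⟩ := h.anti ha hne h1 hz hz4
    rw [← hd] at h4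
    have e1 : u (w d) = w d := by rw [huw, hud]
    have e2 : u (w (w d)) = w (w d) := by rw [huw, e1]
    have hsm : ∀ y, u y = y → u (s • y) = s • y := by
      intro y hy
      rcases hs with rfl | rfl
      · rw [one_smul, hy]
      · rw [neg_one_smul, hu.neg, hy]
    rcases h4 with rfl | rfl | rfl
    · exact hsm _ hud
    · exact hsm _ e1
    · exact hsm _ e2
  have hd0 : d ≠ -d := by
    intro h4
    have h5 : B d d = -B d d := by
      nth_rewrite 1 [h4]
      rw [B_neg]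
    omega
  obtain ⟨s, hs, h4⟩ := h.anti ha hne h1 hvd hvd4
  rw [← hd] at h4
  rcases hs with rfl | rfl
  · simp only [one_smul] at h4
    rcases h4 with h4 | h4 | h4
    · exact Or.inl fun x hx => key v hv hvw h4 x hx
    · refine Or.inr (Or.inl fun x hx => ?_)
      have h5 := key _ hr2 (fun x => by simp only [hvw]) (by simp only [hvw, h4, h.cube]) (w x) (h.root x hx)
      simp only [h.cube] at h5
      exact h5
    · refine Or.inr (Or.inr fun x hx => ?_)
      have h5 := key _ hr1 (fun x => by simp only [hvw]) (by simp only [hvw, h4, h.cube]) (w (w x))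
        (h.root _ (h.root x hx))
      simp only [h.cube] at h5
      exact h5
  · exfalso
    simp only [neg_one_smul] at h4
    apply hd0
    rcases h4 with h4 | h4 | h4
    · have h5 := hv.cube d
      rw [h4, hv.neg, h4, neg_neg, h4] at h5
      exact h5.symm
    · have h5 := hv.cube d
      rw [h4, hv.neg, hvw, h4, h.neg, neg_neg, hvw, hvw, h4, h.neg, h.neg, h.cube] at h5
      exact h5.symm
    · have h5 := hv.cube d
      rw [h4, hv.neg, hvw, hvw, h4, h.neg, h.neg, neg_neg, h.cube, hvw, h4, h.neg, h.cube] at h5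
      exact h5.symm

/-- **every root of the other kind** -/
theorem Rot.reach (h : Rot w) {a : Fin 6 → ℤ} (ha : R6 a) (hne : dl a ≠ a) (h1 : B (w a) a = -1) {b : Fin 6 → ℤ}
    (hb : R6 b) (hbne : dl b ≠ b) : ∃ x, (x = a ∨ x = w a ∨ x = w (w a)) ∧ ∃ b', (b' = b ∨ b' = -b) ∧
      (b' = x ∨ b' = -dl x ∨ (dl (x - b') = x - b' ∧ B b' x = 1)) := by
  obtain ⟨h2, h3⟩ := hb.anti hbne
  obtain ⟨s, hs, h4⟩ := h.anti ha hne h1 h2 h3
  have hR : ∀ x, (x = a ∨ x = w a ∨ x = w (w a)) → R6 x := by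
    rintro x (rfl | rfl | rfl)
    · exact ha
    · exact h.root _ ha
    · exact h.root _ (h.root _ ha)
  obtain ⟨x, hx, h5⟩ : ∃ x, (x = a ∨ x = w a ∨ x = w (w a)) ∧ b - dl b = s • (x - dl x) := by
    rcases h4 with h4 | h4 | h4
    · exact ⟨a, Or.inl rfl, h4⟩
    · exact ⟨w a, Or.inr (Or.inl rfl), by rw [h4, h.sub, h.com]⟩
    · exact ⟨w (w a), Or.inr (Or.inr rfl), by rw [h4, h.sub, h.sub, h.com, h.com]⟩
  obtain ⟨b', hb', h6⟩ : ∃ b', (b' = b ∨ b' = -b) ∧ b' - dl b' = x - dl x := by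
    rcases hs with rfl | rfl
    · exact ⟨b, Or.inl rfl, by rw [h5, one_smul]⟩
    · refine ⟨-b, Or.inr rfl, ?_⟩
      rw [dl_neg]
      have : -b - -dl b = -(b - dl b) := by abel
      rw [this, h5, neg_one_smul, neg_neg]
  refine ⟨x, hx, b', hb', ?_⟩
  have hxR := hR x hx
  have hb2 : B b' b' = 2 := by
    rcases hb' with rfl | rfl
    · exact hb.norm
    · rw [B_neg, B_neg', neg_neg, hb.norm]
  have hbo : B b' (dl b') = 0 := by
    rcases hb' with rfl | rfl
    · exact hb.dl_orth hbne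
    · rw [dl_neg, B_neg, B_neg', neg_neg, hb.dl_orth hbne]
  have hle := le_two hb2 hxR.norm
  have hxd : B (dl x) (dl x) = 2 := by rw [B_dl, hxR.norm]
  have hge := ge_two hb2 hxd
  have h7 : B (b' - dl b') (x - dl x) = 4 := by
    rw [← h6, B_sub, B_sub', B_sub', B_dl, hb2, hbo, B_comm, hbo]; norm_num
  have h8 : B (dl b') x = B b' (dl x) := by rw [← B_dl, dl_dl]
  rw [B_sub, B_sub', B_sub', B_dl, h8] at h7
  have h9 : B b' x = 2 ∨ B b' x = 1 ∨ B b' x = 0 := by omega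
  rcases h9 with h9 | h9 | h9
  · exact Or.inl (eq_of_two hb2 hxR.norm h9)
  · refine Or.inr (Or.inr ⟨?_, h9⟩)
    rw [dl_sub]
    have : dl x - dl b' = (x - b') - ((x - dl x) - (b' - dl b')) := by abel
    rw [this, h6, sub_self, sub_zero]
  · exact Or.inr (Or.inl (eq_neg_of hb2 hxd (by omega)))

end Cfsg.Agent.H82.Mono
end

-- part: H82/Mono/E6Link
section
/-!
# S2187, X4, `E₆` with the unmatched sign: the group and the root lattice (helper82)

* `pairing_B`, `B_rep`, `cpr_B`, `root_iff`, `mem_LL6`;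
* `rot_of_VE` : the elements of the image of `E` satisfy `Rot`;
* `commute_of_B` : orthogonal root groups commute;
* `end_dl` : the end.
-/

set_option autoImplicit false
set_option linter.unusedSectionVars false

namespace Cfsg.Agent.H82.Mono

open CoxeterSystem Cfsg Cfsg.Lie Cfsg.Lie.ChevalleyDatum
open Cfsg.Agent.ChevalleyStructure Cfsg.Agent.ChevalleyStructure.Elts Cfsg.Agent.ChevalleyStructure.CoxeterGeom
  Cfsg.Agent.ChevalleyStructure.CoxeterGeomTypes Cfsg.Agent.ChevalleyStructure.NPerm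
open Cfsg.Agent.Tits.Roots Cfsg.Agent.Tits.Core Cfsg.Agent.Nodes Cfsg.Agent.Nodes.Reps Cfsg.Agent.Nodes.BNOf
  Cfsg.Agent.Nodes.SubComb Cfsg.Agent.Nodes.RGDChev Cfsg.Agent.Nodes.Bruhat Cfsg.Agent.Nodes.Coroot
open Cfsg.Agent.KFacts.RgdField Cfsg.Agent.KFacts.RgdChevCoord
open Cfsg.Agent.BpExc Cfsg.Agent.BpExc.TorCent Cfsg.Agent.BpExc.TorChev Cfsg.Agent.BpExc.Tow
  Cfsg.Agent.BpExc.TowChev Cfsg.Agent.BpExc.Fr Cfsg.Agent.BpExc.LangFr
open Cfsg.Agent.H469.Exc Cfsg.Agent.H316.U6 Cfsg.Agent.H818.Gen Cfsg.Agent.H818.Mono Cfsg.Agent.H696.GmnToral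
open Cfsg.Agent.H225.Gen Cfsg.Agent.H225.Mono Cfsg.Agent.H496.Mono
open Cfsg.Agent.H720.TwFr
open Cfsg.Agent.H129.TorusChar (cX IsMC cX_root cX_mul cX_pow cX_one cX_inj isMC_cX exists_cX)

universe v

/-! ### the root lattice -/

theorem cartan_E6 : ∀ i k : Fin 6, cartanOf chevE6 6 i k = (![![2, 0, -1, 0, 0, 0], ![0, 2, 0, -1, 0, 0],
    ![-1, 0, 2, -1, 0, 0], ![0, -1, -1, 2, -1, 0], ![0, 0, 0, -1, 2, -1], ![0, 0, 0, 0, -1, 2]] :
      Fin 6 → Fin 6 → ℤ) i k := by (delta Cfsg.Agent.ChevalleyStructure.CoxeterGeomTypes.cartanOf; rewrite [Cfsg.Agent.ChevFast.E6.cartan]; decide +kernel)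

theorem pairing_B (i : Fin 6) (x : Fin 6 → ℤ) : pairing (cartanOf chevE6 6) i x = B x (sr i) := by
  unfold pairing
  simp only [cartan_E6, Fin.sum_univ_six]
  unfold B sr
  (revert i; simp only [_root_.Fin.forall_fin_succ, Int.reduceNeg, Fin.isValue, _root_.Matrix.cons_val', _root_.Matrix.cons_val_zero, _root_.Matrix.cons_val_fin_one, _root_.Matrix.cons_val_one, _root_.Matrix.cons_val, _root_.MulZeroClass.zero_mul, _root_.add_zero, _root_.neg_mul, _root_.one_mul, _root_.Pi.single_eq_same, _root_.mul_one, _root_.ne_eq, _root_.one_ne_zero, _root_.not_false_eq_true, _root_.Pi.single_eq_of_ne, _root_.MulZeroClass.mul_zero, Fin.reduceEq, _root_.zero_add, _root_.sub_zero, _root_.Matrix.cons_val_succ, _root_.Fin.succ_ne_zero, _root_.Pi.single_eq_of_ne', _root_.Fin.succ_zero_eq_one, _root_.Fin.succ_one_eq_two, Fin.reduceSucc, _root_.IsEmpty.forall_iff, _root_.and_true]) <;> (repeat' with_reducible apply And.intro) <;> ring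

variable {M : CoxeterMatrix (Fin 6)} (hp : IsType chevE6 6 M)

theorem B_sr (i : Fin 6) : B (sr i) (sr i) = 2 := by
  revert i; decide +kernel

theorem B_smul (c : ℤ) (x z : Fin 6 → ℤ) : B (c • x) z = c * B x z := by
  unfold B; simp only [Pi.smul_apply, smul_eq_mul]; ring

theorem B_smul' (c : ℤ) (x z : Fin 6 → ℤ) : B z (c • x) = c * B z x := by
  rw [B_comm, B_smul, B_comm x]

theorem B_rep (w : M.Group) (x y : Fin 6 → ℤ) : B (rep M.toCoxeterSystem hp.isCartan w x)
    (rep M.toCoxeterSystem hp.isCartan w y) = B x y := by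
  induction w using M.toCoxeterSystem.simple_induction_left with
  | one => rw [map_one, Module.End.one_apply, Module.End.one_apply]
  | mul_simple_left w i ih =>
    rw [rep_mul_apply, rep_mul_apply, rep_simple_eq, rep_simple_eq, pairing_B, pairing_B, ← ih]
    generalize rep M.toCoxeterSystem hp.isCartan w x = u
    generalize rep M.toCoxeterSystem hp.isCartan w y = v
    rw [B_sub, B_sub', B_sub', B_smul, B_smul', B_smul', B_smul, B_sr, B_comm (sr i) v]
    ring

theorem cpr_B (x : Fin 6 → ℤ) {y : Fin 6 → ℤ} (hy : IsRoot M.toCoxeterSystem hp.isCartan y) :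
    cpr M.toCoxeterSystem hp.isCartan x y = B x y := by
  have := finite_W hp M.toCoxeterSystem
  obtain ⟨w, i, rfl⟩ := hy
  rw [cpr_rep_sr, pairing_B, ← B_rep hp w, rep_apply_inv]

theorem root_iff {x : Fin 6 → ℤ} : IsRoot M.toCoxeterSystem hp.isCartan x ↔ R6 x :=
  isRoot_iff hp M.toCoxeterSystem x

theorem LL_adj {a b : Fin 6 → ℤ} (ha : a ∈ LL M.toCoxeterSystem hp) (hb : IsRoot M.toCoxeterSystem hp.isCartan b)
    (h : B a b = 1 ∨ B a b = -1) : b ∈ LL M.toCoxeterSystem hp := by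
  have har := LL_root hi_E6 hp M.toCoxeterSystem ha
  have h1 := LL_refl hp M.toCoxeterSystem ha hb
  have h2 := LL_refl hp M.toCoxeterSystem h1 har
  rw [cpr_B hp _ hb, cpr_B hp _ har] at h2
  have haa := ((root_iff hp).1 har).norm
  rcases h with h | h
  · rw [h, one_smul, B_sub, haa, B_comm b, h] at h2
    have h3 : a - b - (2 - 1 : ℤ) • a = -b := by module
    rw [h3] at h2
    have h4 := LL_neg hi_E6 hp M.toCoxeterSystem h2
    rwa [neg_neg] at h4
  · rw [h, neg_one_smul, B_sub, haa, B_neg, B_comm b, h] at h2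
    have h3 : a - -b - (2 - - -1 : ℤ) • a = b := by module
    rwa [h3] at h2

theorem mem_LL6 {x : Fin 6 → ℤ} (hx : IsRoot M.toCoxeterSystem hp.isCartan x) : x ∈ LL M.toCoxeterSystem hp := by
  have h0 := th_mem hp M.toCoxeterSystem
  have hs := fun i => isRoot_sr M.toCoxeterSystem hp.isCartan (i : Fin 6)
  have h1 : sr 1 ∈ LL M.toCoxeterSystem hp := LL_adj hp h0 (hs 1) (by decide +kernel)
  have h3 : sr 3 ∈ LL M.toCoxeterSystem hp := LL_adj hp h1 (hs 3) (by decide +kernel)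
  have h2 : sr 2 ∈ LL M.toCoxeterSystem hp := LL_adj hp h3 (hs 2) (by decide +kernel)
  have h4 : sr 4 ∈ LL M.toCoxeterSystem hp := LL_adj hp h3 (hs 4) (by decide +kernel)
  have h5 : sr 0 ∈ LL M.toCoxeterSystem hp := LL_adj hp h2 (hs 0) (by decide +kernel)
  have h6 : sr 5 ∈ LL M.toCoxeterSystem hp := LL_adj hp h4 (hs 5) (by decide +kernel)
  obtain ⟨w, i, rfl⟩ := hx
  refine LL_rep hp M.toCoxeterSystem ?_ w
  fin_cases i
  · exact h5
  · exact h1
  · exact h2
  · exact h3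
  · exact h4
  · exact h6

theorem dl_smul (c : ℤ) (x : Fin 6 → ℤ) : dl (c • x) = c • dl x := by
  funext i
  fin_cases i <;> rfl

/-- additive maps agreeing on the roots -/
theorem add_ext {f g : (Fin 6 → ℤ) → (Fin 6 → ℤ)} (hf : ∀ x y, f (x + y) = f x + f y)
    (hg : ∀ x y, g (x + y) = g x + g y) (h : ∀ i, f (sr i) = g (sr i)) (x : Fin 6 → ℤ) : f x = g x := by
  have h1 : AddMonoidHom.mk' f hf = AddMonoidHom.mk' g hg := by
    refine AddMonoidHom.functions_ext _ _ _ fun i c => ?_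
    have h2 : (Pi.single i c : Fin 6 → ℤ) = c • sr i := by
      rw [sr, ← Pi.single_smul, smul_eq_mul, mul_one]
    rw [h2, map_zsmul, map_zsmul]
    congr 1
    exact h i
  exact DFunLike.congr_fun h1 x

section Sit

variable {hp} {r : ℕ} [Fact r.Prime] {e : ℕ} {τ : MulAut ↥(chevE6.group (KK r))} {γ : (Fin 6 → ℤ) ≃+ (Fin 6 → ℤ)}
  {E H : Subgroup ↥(chevE6.group (KK r))} {ε : ℤ}

theorem rot_of_VE (S : Sit hp r 3 e τ γ E H) (hε : ε = 1 ∨ ε = -1) (hγ : ∀ x, γ x = ε • permE rho6 x)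
    (hNP : NoPlus hp r E (SS hp γ ε)) {v : M.Group} (hv : v ∈ VE hp r E) :
    Rot fun x => rep M.toCoxeterSystem hp.isCartan v x where
  add x y := map_add _ x y
  iso x y := B_rep hp v x y
  cube x := by
    rw [← rep_mul_apply, ← rep_mul_apply, ← pow_two, ← pow_succ, VE_pow S hv, map_one, Module.End.one_apply]
  com := by
    refine add_ext (f := fun x => rep M.toCoxeterSystem hp.isCartan v (dl x))
      (g := fun x => dl (rep M.toCoxeterSystem hp.isCartan v x)) (fun x y => ?_) (fun x y => ?_) fun i => ?_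
    · show rep M.toCoxeterSystem hp.isCartan v (dl (x + y)) = _
      rw [dl_add, map_add]
    · show dl (rep M.toCoxeterSystem hp.isCartan v (x + y)) = _
      rw [map_add, dl_add]
    · show rep M.toCoxeterSystem hp.isCartan v (dl (sr i)) = dl (rep M.toCoxeterSystem hp.isCartan v (sr i))
      have h1 := VE_gam S hv (isRoot_sr M.toCoxeterSystem hp.isCartan i)
      rw [hγ, hγ, dl_eq, dl_eq, map_zsmul] at h1
      rcases hε with rfl | rfl
      · rw [one_smul, one_smul] at h1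
        exact h1.symm
      · rw [neg_one_smul, neg_one_smul] at h1
        exact (neg_injective h1).symm
  root x hx := (root_iff hp).1 (((root_iff hp).2 hx).act v)
  np b hb hd h1 := by
    obtain ⟨y, hy, hyv⟩ := hv
    have hbr := (root_iff hp).2 hb
    refine hNP y hy v hyv b ⟨mem_LL6 hp hbr, by rw [hγ, dl_eq, hd]⟩ ?_
    rw [cpr_B hp _ hbr]
    exact h1

end Sit

/-! ### the end -/

/-- the coordinates of the coinvariants of the diagram automorphism -/
def ph (x : Fin 6 → ℤ) : Fin 4 → ℤ := ![x 0 + x 5, x 1, x 2 + x 4, x 3]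

private noncomputable def _root_.Cfsg.Agent.LsF.ffb5f9b_9 : {f // @Cfsg.Agent.H82.Mono.ph = f} := ⟨_, by first | (delta Cfsg.Agent.H82.Mono.ph; rewrite [Cfsg.Agent.LsF.iadd_pat, Cfsg.Agent.LsF.vecCons_eq]; exact rfl) | exact rfl⟩
private noncomputable def _root_.Cfsg.Agent.LsF.ffb5f9b_10 : {f // @Cfsg.Agent.ChevFast.Lin.dG = f} := ⟨_, by first | (delta Cfsg.Agent.ChevFast.Lin.dG; rewrite [Cfsg.Agent.LsF.dIff_eq, Cfsg.Agent.LsF.dBoolEq_eq]; exact rfl) | exact rfl⟩
theorem t_mod : ∀ i < 72, ∀ j < 72, (∀ k, (ph (vec chevE6 6 j) k - ph (vec chevE6 6 i) k) % 3 = 0) →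
    vec chevE6 6 j = vec chevE6 6 i ∨ vec chevE6 6 j = dl (vec chevE6 6 i) := by (open scoped Cfsg.Agent.ChevFast.Lin in (refine of_decide_eq_true ?_; (try (rewrite [Cfsg.Agent.LsF.dPiF_pat, Cfsg.Agent.LsF.ffb5f9b_9.2, Cfsg.Agent.LsF.ffb5f9b_5.2, Cfsg.Agent.LsF.ffb5f9b_0.2, Cfsg.Agent.LsF.ffb5f9b_7.2, Cfsg.Agent.LsF.ffb5f9b_10.2, Cfsg.Agent.LsF.isub_pat, Cfsg.Agent.LsF.imod_pat, Cfsg.Agent.LsF.instIDecEq_eq, Cfsg.Agent.LsF.dOr_eq, Cfsg.Agent.LsF.dAllP_eq, Cfsg.Agent.LsF.decide_eq])); decide +kernel))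

theorem t_mod0 : ∀ i < 72, ∃ k, ph (vec chevE6 6 i) k % 3 ≠ 0 := by decide +kernel

theorem ph_dl (x : Fin 6 → ℤ) : ph (dl x) = ph x := by
  funext k
  fin_cases k
  · show x 5 + x 0 = x 0 + x 5; ring
  · rfl
  · show x 4 + x 2 = x 2 + x 4; ring
  · rfl

theorem ph_neg (x : Fin 6 → ℤ) : ph (-x) = -ph x := by
  funext k
  fin_cases k
  · show -x 0 + -x 5 = -(x 0 + x 5); ring
  · rfl
  · show -x 2 + -x 4 = -(x 2 + x 4); ring
  · rfl

theorem eq_or_of_ph {a b : Fin 6 → ℤ} (ha : R6 a) (hb : R6 b) (h : ∀ k, (3 : ℤ) ∣ ph b k - ph a k) :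
    b = a ∨ b = dl a := by
  obtain ⟨i, hi, rfl⟩ := ha
  obtain ⟨j, hj, rfl⟩ := hb
  exact t_mod i hi j hj fun k => Int.emod_eq_zero_of_dvd (h k)

theorem ph_ne {a : Fin 6 → ℤ} (ha : R6 a) : ∃ k, ¬ (3 : ℤ) ∣ ph a k := by
  obtain ⟨i, hi, rfl⟩ := ha
  obtain ⟨k, hk⟩ := t_mod0 i hi
  exact ⟨k, fun h => hk (Int.emod_eq_zero_of_dvd h)⟩

section End

variable (r : ℕ) [hr : Fact r.Prime]

/-- the elements of order dividing three of the torus centralised by the diagram automorphism -/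
def TD : Subgroup ↥(chevE6.group (KK r)) where
  carrier := {t | t ∈ TP hp r 3 ∧ ∀ x, cX hp t (dl x) = cX hp t x}
  one_mem' := ⟨one_mem _, fun x => by rw [cX_one, cX_one]⟩
  mul_mem' := by
    rintro a b ⟨ha, ha'⟩ ⟨hb, hb'⟩
    exact ⟨mul_mem ha hb, fun x => by rw [cX_mul hp ha.1 hb.1, cX_mul hp ha.1 hb.1, ha', hb']⟩
  inv_mem' := by
    rintro a ⟨ha, ha'⟩
    refine ⟨inv_mem ha, fun x => ?_⟩
    have h1 : ∀ y, cX hp a⁻¹ y * cX hp a y = 1 := fun y => by
      rw [← cX_mul hp (inv_mem ha.1) ha.1, inv_mul_cancel, cX_one]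
    have h2 := h1 (dl x)
    rw [ha', ← h1 x] at h2
    exact mul_right_cancel₀ ((isMC_cX hp ha.1).ne_zero x) h2

theorem TD_el : IsElementaryAbelian 3 (TD hp r) := by
  refine ⟨⟨⟨?_⟩⟩, fun y hy => hy.1.2⟩
  rintro ⟨a, ha⟩ ⟨b, hb⟩
  exact Subtype.ext (TT_comm hp a ha.1.1 b hb.1.1)

/-- the coordinate elements -/
theorem exists_coordsD (h3r : 3 ≠ r) : ∃ ζ : KK r, IsPrimitiveRoot ζ 3 ∧ ∃ s : Fin 4 → ↥(chevE6.group (KK r)),
    ∀ k, s k ∈ TD hp r ∧ ∀ x, cX hp (s k) x = ζ ^ (ph x k) := by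
  obtain ⟨d, B', hB, hd⟩ := exists_invC hp (fun h1 => not_hi_B2 (h1 ▸ hi_E6)) (by
    intro h
    have h1 := congrArg ChevalleyDatum.nroots h
    revert h1
    decide +kernel)
  obtain ⟨ζ, hζ, t, ht⟩ := exists_coords hp hB (by rcases hd with ⟨rfl, -⟩ | ⟨rfl, -⟩ | ⟨rfl, -⟩ <;> norm_num)
    Nat.prime_three h3r
  have hζ0 : ζ ≠ 0 := hζ.ne_zero (by norm_num)
  have hT : ∀ j, t j ∈ TT chevE6 (KK r) := fun j => (ht j).1.1
  refine ⟨ζ, hζ, ![t 0 * t 5, t 1, t 2 * t 4, t 3], fun k => ?_⟩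
  have key : ∀ (u : ↥(chevE6.group (KK r))), u ∈ TP hp r 3 → (∀ x, cX hp u x = ζ ^ (ph x k)) → u ∈ TD hp r ∧
      ∀ x, cX hp u x = ζ ^ (ph x k) := fun u hu h => ⟨⟨hu, fun x => by rw [h, h, ph_dl]⟩, h⟩
  fin_cases k
  · refine key _ (mul_mem (ht 0).1 (ht 5).1) fun x => ?_
    show cX hp (t 0 * t 5) x = ζ ^ (x 0 + x 5)
    rw [cX_mul hp (hT 0) (hT 5), (ht 0).2, (ht 5).2, zpow_add₀ hζ0]
  · exact key _ (ht 1).1 fun x => (ht 1).2 x
  · refine key _ (mul_mem (ht 2).1 (ht 4).1) fun x => ?_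
    show cX hp (t 2 * t 4) x = ζ ^ (x 2 + x 4)
    rw [cX_mul hp (hT 2) (hT 4), (ht 2).2, (ht 4).2, zpow_add₀ hζ0]
  · exact key _ (ht 3).1 fun x => (ht 3).2 x

/-- **The roots trivial on a hyperplane of `TD`.** -/
theorem S0_dl (h3r : 3 ≠ r) {F : Subgroup ↥(chevE6.group (KK r))} (hF : F ≤ TD hp r)
    (hi : F.relIndex (TD hp r) = 3) {a b : Fin 6 → ℤ} (ha : a ∈ S0 hp r F) (hb : b ∈ S0 hp r F) :
    b = a ∨ b = -a ∨ b = dl a ∨ b = -dl a := by
  obtain ⟨ζ, hζ, s, hs⟩ := exists_coordsD hp r h3r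
  have hone : ∀ z : ℤ, ζ ^ z = 1 ↔ (3 : ℤ) ∣ z := fun z => by exact_mod_cast hζ.zpow_eq_one_iff_dvd z
  have hζ0 : ζ ≠ 0 := hζ.ne_zero (by norm_num)
  have hTT : ∀ t ∈ TD hp r, t ∈ TT chevE6 (KK r) := fun t ht => ht.1.1
  -- an element outside `F`
  obtain ⟨t₀, ht₀, ht₀F⟩ : ∃ t₀ ∈ TD hp r, t₀ ∉ F := by
    by_contra hcon
    push Not at hcon
    have h1 : F.relIndex (TD hp r) = 1 := Subgroup.relIndex_eq_one.2 hcon
    omega
  have hsup : ∀ L : Subgroup ↥(chevE6.group (KK r)), F ≤ L → t₀ ∈ L → TD hp r ≤ L := by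
    intro L h1 h2
    have h3 : F ≤ F ⊔ Subgroup.zpowers t₀ := le_sup_left
    have h4 : F ⊔ Subgroup.zpowers t₀ ≤ TD hp r := sup_le hF (by rw [Subgroup.zpowers_le]; exact ht₀)
    have h5 := Subgroup.relIndex_mul_relIndex F (F ⊔ Subgroup.zpowers t₀) (TD hp r) h3 h4
    rw [hi] at h5
    have h6 : F.relIndex (F ⊔ Subgroup.zpowers t₀) ≠ 1 := by
      intro h7
      rw [Subgroup.relIndex_eq_one] at h7
      exact ht₀F (h7 (Subgroup.mem_sup_right (Subgroup.mem_zpowers t₀)))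
    rcases (Nat.dvd_prime Nat.prime_three).1 ⟨_, h5.symm⟩ with h7 | h7
    · exact absurd h7 h6
    · rw [h7] at h5
      have h8 : (F ⊔ Subgroup.zpowers t₀).relIndex (TD hp r) = 1 := by omega
      rw [Subgroup.relIndex_eq_one] at h8
      exact h8.trans (sup_le h1 (by rw [Subgroup.zpowers_le]; exact h2))
  -- the subgroup of the elements with `b = j a`
  let L : ℕ → Subgroup ↥(chevE6.group (KK r)) := fun j =>
    { carrier := {x | x ∈ TT chevE6 (KK r) ∧ cX hp x b = cX hp x a ^ j}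
      one_mem' := ⟨one_mem _, by rw [cX_one, cX_one, one_pow]⟩
      mul_mem' := by
        rintro x y ⟨hx, hx'⟩ ⟨hy, hy'⟩
        exact ⟨mul_mem hx hy, by rw [cX_mul hp hx hy, cX_mul hp hx hy, hx', hy', mul_pow]⟩
      inv_mem' := by
        rintro x ⟨hx, hx'⟩
        refine ⟨inv_mem hx, ?_⟩
        have h1 : cX hp x⁻¹ b * cX hp x b = 1 := by
          rw [← cX_mul hp (inv_mem hx) hx, inv_mul_cancel, cX_one]
        have h2 : cX hp x⁻¹ a ^ j * cX hp x a ^ j = 1 := by
          rw [← mul_pow, ← cX_mul hp (inv_mem hx) hx, inv_mul_cancel, cX_one, one_pow]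
        rw [← hx', ← h1] at h2
        exact (mul_right_cancel₀ ((isMC_cX hp hx).ne_zero b) h2).symm }
  have hFa : ∀ x ∈ F, cX hp x a = 1 := fun x hx => by
    rw [cX_root hp M.toCoxeterSystem (hTT x (hF hx)) ha.1]; exact ha.2 x hx
  have hFb : ∀ x ∈ F, cX hp x b = 1 := fun x hx => by
    rw [cX_root hp M.toCoxeterSystem (hTT x (hF hx)) hb.1]; exact hb.2 x hx
  have hpw : ∀ c : Fin 6 → ℤ, cX hp t₀ c ^ 3 = 1 := fun c => by
    rw [← cX_pow hp ht₀.1.1, ht₀.1.2, cX_one]
  have hLs : ∀ j : ℕ, cX hp t₀ b = cX hp t₀ a ^ j → ∀ k, (3 : ℤ) ∣ ph b k - j * ph a k := by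
    intro j hj k
    have h2 : s k ∈ L j := hsup (L j) (fun x hx => ⟨hTT x (hF hx), by rw [hFa x hx, hFb x hx, one_pow]⟩)
      ⟨ht₀.1.1, hj⟩ (hs k).1
    have h3 : cX hp (s k) b = cX hp (s k) a ^ j := h2.2
    rw [(hs k).2, (hs k).2, ← zpow_natCast, ← zpow_mul] at h3
    rw [← hone, zpow_sub₀ hζ0, h3, mul_comm, div_self (zpow_ne_zero _ hζ0)]
  have hra := (root_iff hp).1 ha.1
  have hrb := (root_iff hp).1 hb.1
  have ha1 : cX hp t₀ a ≠ 1 := by
    intro h1
    obtain ⟨k, hk⟩ := ph_ne hra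
    let L' : Subgroup ↥(chevE6.group (KK r)) :=
      { carrier := {x | x ∈ TT chevE6 (KK r) ∧ cX hp x a = 1}
        one_mem' := ⟨one_mem _, cX_one hp a⟩
        mul_mem' := by
          rintro x y ⟨hx, hx'⟩ ⟨hy, hy'⟩
          exact ⟨mul_mem hx hy, by rw [cX_mul hp hx hy, hx', hy', one_mul]⟩
        inv_mem' := by
          rintro x ⟨hx, hx'⟩
          refine ⟨inv_mem hx, ?_⟩
          have h1 : cX hp x⁻¹ a * cX hp x a = 1 := by
            rw [← cX_mul hp (inv_mem hx) hx, inv_mul_cancel, cX_one]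
          rwa [hx', mul_one] at h1 }
    have h2 : s k ∈ L' := hsup L' (fun x hx => ⟨hTT x (hF hx), hFa x hx⟩) ⟨ht₀.1.1, h1⟩ (hs k).1
    have h3 : cX hp (s k) a = 1 := h2.2
    rw [(hs k).2, hone] at h3
    exact hk h3
  have hprim : IsPrimitiveRoot (cX hp t₀ a) 3 := by
    rw [IsPrimitiveRoot.iff_orderOf]
    have : Fact (Nat.Prime 3) := ⟨Nat.prime_three⟩
    exact (orderOf_eq_prime (hpw a) ha1)
  obtain ⟨j, hj3, hj⟩ := hprim.eq_pow_of_pow_eq_one (hpw b)
  have h1 := hLs j hj.symm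
  interval_cases j
  · exfalso
    obtain ⟨k, hk⟩ := ph_ne hrb
    have h2 := h1 k
    rw [Nat.cast_zero, zero_mul, sub_zero] at h2
    exact hk h2
  · rcases eq_or_of_ph hra hrb (fun k => by have := h1 k; rwa [Nat.cast_one, one_mul] at this) with h2 | h2
    · exact Or.inl h2
    · exact Or.inr (Or.inr (Or.inl h2))
  · rcases eq_or_of_ph ((root_iff hp).1 ha.1.neg) hrb (fun k => by
      have h2 := h1 k
      rw [ph_neg, Pi.neg_apply]
      have h3 : ph b k - -ph a k = (ph b k - ((2 : ℕ) : ℤ) * ph a k) + 3 * ph a k := by push_cast; ring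
      rw [h3]
      exact dvd_add h2 (dvd_mul_right _ _)) with h2 | h2
    · exact Or.inr (Or.inl h2)
    · rw [dl_neg] at h2
      exact Or.inr (Or.inr (Or.inr h2))

/-- the group `TD` is fixed -/
theorem fix_TD {e : ℕ} {τ : MulAut ↥(chevE6.group (KK r))} {γ : (Fin 6 → ℤ) ≃+ (Fin 6 → ℤ)} (hτ : IsFrob r e τ)
    (F : Fr M.toCoxeterSystem hp.isCartan (TT chevE6 (KK r)) (XX chevE6 6 (KK r)) τ γ) {ε : ℤ} (hε : Eps 3 (r ^ e) ε)
    (hγ : ∀ x, γ x = ε • permE rho6 x) {t : ↥(chevE6.group (KK r))} (ht : t ∈ TD hp r) : τ t = t := by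
  have hT := ht.1.1
  have hpw : ∀ c : Fin 6 → ℤ, cX hp t c ^ 3 = 1 := fun c => by
    rw [← cX_pow hp hT, ht.1.2, cX_one]
  refine cX_inj hp ((F.tor t).2 hT) hT fun i => ?_
  have hri := isRoot_sr M.toCoxeterSystem hp.isCartan i
  have hrd : IsRoot M.toCoxeterSystem hp.isCartan (dl (sr i)) := (root_iff hp).2 ((root_iff hp).1 hri).dl
  have h0 := (isMC_cX hp hT).ne_zero (sr i)
  obtain ⟨h1, h2⟩ := hε
  have hk := locFin r
  obtain ⟨c, hc⟩ := h2
  push_cast at hc
  rcases h1 with rfl | rfl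
  · have h3 := fr_ch hp M.toCoxeterSystem hk hτ F hrd hT
    rw [hγ, one_smul, dl_eq, dl_dl, ← cX_root hp M.toCoxeterSystem ((F.tor t).2 hT) hri,
      ← cX_root hp M.toCoxeterSystem hT hrd, ht.2] at h3
    rw [h3, ← zpow_natCast]
    have h4 : ((r ^ e : ℕ) : ℤ) = 1 + 3 * c := by push_cast; linarith
    rw [h4, zpow_add₀ h0, zpow_one, zpow_mul, show ((3 : ℤ)) = ((3 : ℕ) : ℤ) from rfl, zpow_natCast, hpw, one_zpow,
      mul_one]
  · have h3 := fr_ch hp M.toCoxeterSystem hk hτ F hrd.neg hT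
    rw [hγ, dl_eq, dl_neg, dl_dl, neg_smul_neg, one_smul, ← cX_root hp M.toCoxeterSystem ((F.tor t).2 hT) hri,
      ← cX_root hp M.toCoxeterSystem hT hrd.neg, (isMC_cX hp hT).neg, ht.2] at h3
    rw [h3, inv_pow, ← zpow_natCast, ← zpow_neg]
    have h4 : -((r ^ e : ℕ) : ℤ) = 1 + 3 * (-c) := by push_cast; linarith only [hc]
    rw [h4, zpow_add₀ h0, zpow_one, zpow_mul, show ((3 : ℤ)) = ((3 : ℕ) : ℤ) from rfl, zpow_natCast, hpw, one_zpow,
      mul_one]

variable {hp} {r} {q : ℕ} {K₀ : Type v} [Group K₀]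

/-- **The end for `γ = ± dl`.** -/
theorem end_dl (m : MData hp r q K₀) [IsSimpleGroup K₀] (hq : 3 ≤ q) (h3r : 3 ≠ r)
    {E : Subgroup ↥(chevE6.group (KK r))} {z : ↥(chevE6.group (KK r))}
    {γ : (Fin 6 → ℤ) ≃+ (Fin 6 → ℤ)} (F : NFrame m E z γ) {ε : ℤ} (hε : Eps 3 q ε)
    (hγ : ∀ x, γ x = ε • permE rho6 x)
    (hS : ∀ a, R6 a → InS r 6 (MulAut.conj (z⁻¹ * m.σ z) * m.σ) (HZ m 3 E z) {a, -a, dl a, -dl a}) :
    GamY m.ι 3 E = ⊤ := by
  have hpr : Fact (Nat.Prime 3) := ⟨Nat.prime_three⟩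
  have hfix : ∀ t ∈ TD hp r, (MulAut.conj (z⁻¹ * m.σ z) * m.σ) t = t := fun t ht =>
    fix_TD hp r (m.frob.conj_mul _) F.fr (by rw [m.hq]; exact hε) hγ ht
  have hfin := finite_frame m hfix
  have hG2 : chevE6 = chevG2 → 4 ≤ q := by
    intro h
    have h1 := congrArg ChevalleyDatum.nroots h
    exact absurd h1 (by decide +kernel)
  refine end_general m hi_E6 hq hG2 h3r F (E' := TD hp r) (fun t ht => ht.1.1) (TD_el hp r) hfix ?_
    (Or.inl (not_dvd_sq (le_refl 3) hε)) ?_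
  · obtain ⟨ζ, hζ, s, hs⟩ := exists_coordsD hp r h3r
    have h1 := orderOf_dvd_natCard (⟨s 1, (hs 1).1⟩ : ↥(TD hp r))
    have h2 : orderOf (⟨s 1, (hs 1).1⟩ : ↥(TD hp r)) = 3 := by
      refine orderOf_eq_prime (Subtype.ext (hs 1).1.1.2) fun h3 => ?_
      have h4 : s 1 = 1 := congrArg Subtype.val h3
      have h5 := (hs 1).2 (sr 1)
      rw [h4, cX_one] at h5
      have h6 : ph (sr 1) 1 = 1 := by decide +kernel
      rw [h6, zpow_one] at h5
      rw [← h5] at hζ
      have h7 := hζ.eq_orderOf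
      rw [orderOf_one] at h7
      omega
    rw [h2] at h1
    exact Nat.le_of_dvd Nat.card_pos h1
  · intro F' hF' hi u hu hτu hur
    by_cases hne : (S0 hp r F').Nonempty
    · obtain ⟨a, ha⟩ := hne
      refine hS a ((root_iff hp).1 ha.1) u (RGD.Sup_mono (fun b hb => ?_) hu) hτu hur
      exact S0_dl hp r h3r hF' hi ha hb
    · rw [Set.not_nonempty_iff_eq_empty] at hne
      rw [hne, OppDec.Sup_empty, Subgroup.mem_bot] at hu
      rw [hu]
      exact one_mem _

end End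

end Cfsg.Agent.H82.Mono
end

private theorem dce_0be4c4a6fc27 : _root_.True := by
  try have : _root_.True := by simp only [_root_.Cfsg.Agent.H129.TorusChar.cX.congr_simp]
  try have : _root_.True := by simp only [_root_.Cfsg.Agent.H82.Mono.six.eq_1]
  try have : _root_.True := by simp only [_root_.Cfsg.Agent.H82.Mono.dl.eq_1]
  try have : _root_.True := by simp only [_root_.Cfsg.Agent.H82.Mono.TD.congr_simp]
  exact _root_.True.intro
end
end
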